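import Groth.Agent.Lib.Helper5.CA.WeakColimitDescent
import Mathlib

set_option autoImplicit false
universe u
open CategoryTheory CategoryTheory.Limits AlgebraicGeometry TensorProduct

namespace Groth.Agent.H5.Lim

/-- For affine schemes, the ring map of a base change is the base change of the ring map. -/
lemma Q_pullback_snd_iff {Q : ∀ {R S : Type u} [CommRing R] [CommRing S], (R →+* S) → Prop}
    (hQ : RingHom.RespectsIso Q) {Z T S : Scheme.{u}} [IsAffine Z] [IsAffine T] [IsAffine S]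
    (h : Z ⟶ T) (s : S ⟶ T) [Algebra Γ(T, ⊤) Γ(S, ⊤)] [Algebra Γ(T, ⊤) Γ(Z, ⊤)]
    (hs : algebraMap Γ(T, ⊤) Γ(S, ⊤) = s.appTop.hom)
    (hh : algebraMap Γ(T, ⊤) Γ(Z, ⊤) = h.appTop.hom) :
    Q (pullback.snd h s).appTop.hom ↔
      Q (algebraMap Γ(S, ⊤) (Γ(S, ⊤) ⊗[Γ(T, ⊤)] Γ(Z, ⊤))) := by
  have h1 := isPushout_appTop_of_isPullback (IsPullback.of_hasPullback h s).flip
  have h2 := CommRingCat.isPushout_tensorProduct Γ(T, ⊤) Γ(S, ⊤) Γ(Z, ⊤)
  rw [hs, hh] at h2
  let e := h2.isoIsPushout _ _ h1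
  have he : CommRingCat.ofHom (S := Γ(S, ⊤) ⊗[Γ(T, ⊤)] Γ(Z, ⊤))
      Algebra.TensorProduct.includeLeftRingHom ≫ e.hom = (pullback.snd h s).appTop :=
    IsPushout.inl_isoIsPushout_hom _ _ h2 h1
  rw [← he, CommRingCat.hom_comp, hQ.cancel_right_isIso]
  rfl

/-- A ring-hom property `Q` descends along weak colimits for base changes of `Φ`-algebras. -/
def RingDescent (Q Φ : ∀ {R S : Type u} [CommRing R] [CommRing S], (R →+* S) → Prop) : Prop :=
  ∀ {K : Type u} [CommRing K] {ι : Type u} {G : ι → Type u} [∀ i, CommRing (G i)]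
    [∀ i, Algebra K (G i)] {A : Type u} [CommRing A] [Algebra K A] (_ : CA.WeakColimit K G A)
    (C : Type u) [CommRing C] [Algebra K C], Φ (algebraMap K C) →
    Q (algebraMap A (A ⊗[K] C)) →
    ∃ j, ∀ (S : Type u) [CommRing S] [Algebra K S], (G j →ₐ[K] S) →
      Q (algebraMap S (S ⊗[K] C))

section

variable {J : Type u} [SmallCategory J] [IsCofiltered J] (E : J ⥤ Scheme.{u})
  [∀ j, IsAffine (E.obj j)] (cE : Cone E) (hcE : IsLimit cE) {T : Scheme.{u}} [IsAffine T]
  (tt : ∀ j, E.obj j ⟶ T) (htt : ∀ {j k : J} (a : j ⟶ k), E.map a ≫ tt k = tt j)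

include hcE htt in
/-- **Affine bridge**: a ring-hom property that descends along weak colimits descends along
cofiltered limits of affine schemes over an affine base. -/
theorem exists_Q_pullback_snd
    {Q : ∀ {R S : Type u} [CommRing R] [CommRing S], (R →+* S) → Prop}
    (hQ : RingHom.RespectsIso Q)
    {Φ : ∀ {R S : Type u} [CommRing R] [CommRing S], (R →+* S) → Prop}
    (hdesc : RingDescent Q Φ)
    {Z : Scheme.{u}} [IsAffine Z] (h : Z ⟶ T) (hΦ : Φ h.appTop.hom) (j₁ : J)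
    (hQ₁ : Q (pullback.snd h (cE.π.app j₁ ≫ tt j₁)).appTop.hom) :
    ∃ j : J, ∀ (k : J) (_ : k ⟶ j), Q (pullback.snd h (tt k)).appTop.hom := by
  have : IsAffine cE.pt := Scheme.isAffine_of_isLimit cE hcE
  letI algG : ∀ j, Algebra Γ(T, ⊤) Γ(E.obj j, ⊤) := fun j => (tt j).appTop.hom.toAlgebra
  letI algA : Algebra Γ(T, ⊤) Γ(cE.pt, ⊤) := (cE.π.app j₁ ≫ tt j₁).appTop.hom.toAlgebra
  letI algC : Algebra Γ(T, ⊤) Γ(Z, ⊤) := h.appTop.hom.toAlgebra
  have hind : ∀ j, cE.π.app j ≫ tt j = cE.π.app j₁ ≫ tt j₁ := by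
    intro j
    have h1 : cE.π.app j ≫ tt j = cE.π.app (IsCofiltered.min j j₁) ≫ tt _ := by
      rw [← cE.w (IsCofiltered.minToLeft j j₁), Category.assoc, htt]
    have h2 : cE.π.app j₁ ≫ tt j₁ = cE.π.app (IsCofiltered.min j j₁) ≫ tt _ := by
      rw [← cE.w (IsCofiltered.minToRight j j₁), Category.assoc, htt]
    rw [h1, h2]
  -- transition maps as algebra homs
  let tr : ∀ {j k : J} (a : k ⟶ j), Γ(E.obj j, ⊤) →ₐ[Γ(T, ⊤)] Γ(E.obj k, ⊤) := fun {j k} a =>
    { toRingHom := (E.map a).appTop.hom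
      commutes' := fun x => by
        change (E.map a).appTop.hom ((tt j).appTop.hom x) = (tt k).appTop.hom x
        rw [← htt a, Scheme.Hom.comp_appTop]
        rfl }
  let W : CA.WeakColimit Γ(T, ⊤) (fun j => Γ(E.obj j, ⊤)) Γ(cE.pt, ⊤) :=
    { g := fun j =>
        { toRingHom := (cE.π.app j).appTop.hom
          commutes' := fun x => by
            change (cE.π.app j).appTop.hom ((tt j).appTop.hom x) =
              (cE.π.app j₁ ≫ tt j₁).appTop.hom x
            rw [← hind j, Scheme.Hom.comp_appTop]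
            rfl }
      Adm := fun j k φ => ∃ a : k ⟶ j, φ = tr a
      adm_id := fun j => ⟨𝟙 j, by
        ext x
        change x = (E.map (𝟙 j)).appTop.hom x
        rw [E.map_id]
        simp⟩
      adm_comp := by
        rintro j k l _ _ ⟨a, rfl⟩ ⟨b, rfl⟩
        refine ⟨b ≫ a, ?_⟩
        ext x
        change (E.map b).appTop.hom ((E.map a).appTop.hom x) = (E.map (b ≫ a)).appTop.hom x
        rw [E.map_comp, Scheme.Hom.comp_appTop]
        rfl
      adm_compat := by
        rintro j k _ ⟨a, rfl⟩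
        ext x
        change (cE.π.app k).appTop.hom ((E.map a).appTop.hom x) = (cE.π.app j).appTop.hom x
        rw [← cE.w a, Scheme.Hom.comp_appTop]
        rfl
      nonempty := IsCofiltered.nonempty
      directed := fun j k => ⟨IsCofiltered.min j k, tr (IsCofiltered.minToLeft j k),
        tr (IsCofiltered.minToRight j k), ⟨_, rfl⟩, ⟨_, rfl⟩⟩
      surj := fun s => by
        obtain ⟨j, x, hx⟩ := exists_appTop_π_eq_of_isAffine_of_isLimit E cE hcE s
        exact ⟨j, x, hx⟩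
      ker := fun j x hx => by
        obtain ⟨k, a, hk⟩ := exists_appTop_map_eq_zero_of_isAffine_of_isLimit E cE hcE j x hx
        exact ⟨k, tr a, ⟨a, rfl⟩, hk⟩ }
  have hQ₁' : Q (algebraMap Γ(cE.pt, ⊤) (Γ(cE.pt, ⊤) ⊗[Γ(T, ⊤)] Γ(Z, ⊤))) :=
    (Q_pullback_snd_iff (S := cE.pt) hQ h (cE.π.app j₁ ≫ tt j₁) rfl rfl).mp hQ₁
  obtain ⟨j, hj⟩ := hdesc W Γ(Z, ⊤) hΦ hQ₁'
  refine ⟨j, fun k a => ?_⟩
  exact (Q_pullback_snd_iff hQ h (tt k) rfl rfl).mpr (hj Γ(E.obj k, ⊤) (tr a))

end

section Instances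

open CA

theorem ringDescent_surjective :
    RingDescent.{u} (fun f => Function.Surjective f) RingHom.FiniteType := by
  intro K _ ι G _ _ A _ _ W C _ _ hΦ h
  have : Algebra.FiniteType K C := RingHom.finiteType_algebraMap.mp hΦ
  exact W.exists_surjective h

theorem ringDescent_bijective :
    RingDescent.{u} (fun f => Function.Bijective f) RingHom.FinitePresentation := by
  intro K _ ι G _ _ A _ _ W C _ _ hΦ h
  have : Algebra.FinitePresentation K C := RingHom.finitePresentation_algebraMap.mp hΦ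
  exact W.exists_bijective h

theorem ringDescent_finite : RingDescent.{u} RingHom.Finite RingHom.FiniteType := by
  intro K _ ι G _ _ A _ _ W C _ _ hΦ h
  have : Algebra.FiniteType K C := RingHom.finiteType_algebraMap.mp hΦ
  obtain ⟨j, hj⟩ := W.exists_finite (RingHom.finite_algebraMap.mp h)
  exact ⟨j, fun S _ _ ψ => RingHom.finite_algebraMap.mpr (hj S ψ)⟩

theorem ringDescent_formallyUnramified :
    RingDescent.{u} RingHom.FormallyUnramified RingHom.FiniteType := by
  intro K _ ι G _ _ A _ _ W C _ _ hΦ h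
  have : Algebra.FiniteType K C := RingHom.finiteType_algebraMap.mp hΦ
  obtain ⟨j, hj⟩ := W.exists_formallyUnramified (RingHom.formallyUnramified_algebraMap.mp h)
  exact ⟨j, fun S _ _ ψ => RingHom.formallyUnramified_algebraMap.mpr (hj S ψ)⟩

theorem ringDescent_smooth : RingDescent.{u} RingHom.Smooth RingHom.FinitePresentation := by
  intro K _ ι G _ _ A _ _ W C _ _ hΦ h
  have : Algebra.FinitePresentation K C := RingHom.finitePresentation_algebraMap.mp hΦ
  obtain ⟨j, hj⟩ := W.exists_smooth (RingHom.smooth_algebraMap.mp h)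
  exact ⟨j, fun S _ _ ψ => RingHom.smooth_algebraMap.mpr (hj S ψ)⟩

theorem ringDescent_etale : RingDescent.{u} RingHom.Etale RingHom.FinitePresentation := by
  intro K _ ι G _ _ A _ _ W C _ _ hΦ h
  have : Algebra.FinitePresentation K C := RingHom.finitePresentation_algebraMap.mp hΦ
  obtain ⟨j, hj⟩ := W.exists_etale (RingHom.etale_algebraMap.mp h)
  exact ⟨j, fun S _ _ ψ => RingHom.etale_algebraMap.mpr (hj S ψ)⟩

end Instances

end Groth.Agent.H5.Lim
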