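import Groth.Agent.Lib.Helper5.Lim.Descend
import Groth.Agent.Lib.Helper5.Lim.AffineBridge
import Mathlib

set_option autoImplicit false
universe u
open CategoryTheory CategoryTheory.Limits AlgebraicGeometry MorphismProperty

namespace Groth.Agent.H5.Lim

section AffineStep

variable {J : Type u} [SmallCategory J] [IsCofiltered J] (E : J ⥤ Scheme.{u})
  [∀ j, IsAffine (E.obj j)] (cE : Cone E) (hcE : IsLimit cE)

include hcE in
/-- The all-affine step: for an affine `Z` over a stage of a system of affine schemes. -/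
theorem exists_P_of_affine {P : MorphismProperty Scheme.{u}} [P.RespectsIso]
    {Q ΦR : ∀ {R S : Type u} [CommRing R] [CommRing S], (R →+* S) → Prop}
    (hPQ : ∀ {X Y : Scheme.{u}} [IsAffine X] [IsAffine Y] (f : X ⟶ Y), P f ↔ Q f.appTop.hom)
    (hQ : RingHom.RespectsIso Q) (hdesc : RingDescent Q ΦR)
    (j₁ : J) {Z : Scheme.{u}} [IsAffine Z] (h : Z ⟶ E.obj j₁) (hΦ : ΦR h.appTop.hom)
    (hP : P (pullback.snd h (cE.π.app j₁))) :
    ∃ j : Over j₁, ∀ (k : Over j₁) (_ : k ⟶ j), P (pullback.snd h (E.map k.hom)) := by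
  have : IsAffine cE.pt := Scheme.isAffine_of_isLimit cE hcE
  let E' : Over j₁ ⥤ Scheme.{u} := Over.forget j₁ ⋙ E
  let cE' : Cone E' := cE.whisker (Over.forget j₁)
  have hcE' : IsLimit cE' := (Functor.Initial.isLimitWhiskerEquiv (Over.forget j₁) cE).symm hcE
  have hE' : ∀ k, IsAffine (E'.obj k) := fun k => inferInstanceAs (IsAffine (E.obj k.left))
  let j₁' : Over j₁ := Over.mk (𝟙 j₁)
  have e1 : cE'.π.app j₁' ≫ E.map j₁'.hom = cE.π.app j₁ := by
    change cE.π.app j₁ ≫ E.map (𝟙 j₁) = _
    rw [E.map_id, Category.comp_id]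
  have hP' : P (pullback.snd h (cE'.π.app j₁' ≫ E.map j₁'.hom)) := by
    rw [bc_congr (P := P) h e1]; exact hP
  have hX : IsAffine (pullback h (cE'.π.app j₁' ≫ E.map j₁'.hom)) := by
    have : IsAffine (((Functor.const (Over j₁)).obj cE'.pt).obj j₁') := ‹IsAffine cE.pt›
    infer_instance
  have hY : IsAffine (((Functor.const (Over j₁)).obj cE'.pt).obj j₁') := ‹IsAffine cE.pt›
  obtain ⟨j, hj⟩ := exists_Q_pullback_snd E' cE' hcE' (fun k => E.map k.hom)
    (fun {k l} a => by
      change E.map a.left ≫ E.map l.hom = E.map k.hom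
      rw [← E.map_comp, CategoryTheory.Over.w])
    hQ hdesc h hΦ j₁' ((hPQ _).mp hP')
  exact ⟨j, fun k a => (hPQ _).mpr (hj k a)⟩

end AffineStep

section Generic

/-- Descent over affine systems for source-local properties given by a ring-hom property. -/
theorem affineSystemDescent_of_hasRingHomProperty {P P₀ : MorphismProperty Scheme.{u}}
    {Q ΦR : ∀ {R S : Type u} [CommRing R] [CommRing S], (R →+* S) → Prop}
    [HasRingHomProperty P Q] [HasRingHomProperty P₀ ΦR] (hdesc : RingDescent Q ΦR) :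
    AffineSystemDescent P (P₀ ⊓ (@QuasiCompact ⊓ @QuasiSeparated)) := by
  intro J _ _ E cE hcE _ j₁ Z₀ h₀ hΦ hP
  classical
  have : QuasiCompact h₀ := hΦ.2.1
  have : CompactSpace Z₀ := QuasiCompact.compactSpace_of_compactSpace h₀
  let 𝒰 := Z₀.affineCover.finiteSubcover
  have h𝒰 : ∀ u, IsAffine (𝒰.X u) := fun u => by
    dsimp [𝒰]; infer_instance
  have hP' := (bc_source_iff h₀ (cE.π.app j₁) 𝒰).mp hP
  have key : ∀ u, ∃ j : Over j₁, ∀ (k : Over j₁) (_ : k ⟶ j),
      P (pullback.snd (𝒰.f u ≫ h₀) (E.map k.hom)) := fun u =>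
    exists_P_of_affine E cE hcE (fun f => HasRingHomProperty.iff_of_isAffine (P := P))
      (HasRingHomProperty.isLocal_ringHomProperty P).respectsIso hdesc j₁ (𝒰.f u ≫ h₀)
      ((HasRingHomProperty.iff_of_isAffine (P := P₀)).mp (IsZariskiLocalAtSource.comp hΦ.1 _))
      (hP' u)
  choose ju hju using key
  obtain ⟨j, hj⟩ := IsCofiltered.inf_objs_exists (Finset.univ.image ju)
  refine ⟨j.left, j.hom, (bc_source_iff h₀ (E.map j.hom) 𝒰).mpr fun u => ?_⟩
  exact hju u j (hj (Finset.mem_image_of_mem ju (Finset.mem_univ u))).some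

/-- Descent over affine systems for properties of affine morphisms given by a ring-hom
property. -/
theorem affineSystemDescent_of_affine {P P₀ : MorphismProperty Scheme.{u}}
    {Q ΦR : ∀ {R S : Type u} [CommRing R] [CommRing S], (R →+* S) → Prop}
    [P.RespectsIso] [HasRingHomProperty P₀ ΦR] [P₀.IsStableUnderBaseChange]
    (hPQ : ∀ {X Y : Scheme.{u}} [IsAffine X] [IsAffine Y] (f : X ⟶ Y), P f ↔ Q f.appTop.hom)
    (hPaff : P ≤ @IsAffineHom) (hQ : RingHom.RespectsIso Q) (hdesc : RingDescent Q ΦR) :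
    AffineSystemDescent P (P₀ ⊓ (@QuasiCompact ⊓ @QuasiSeparated)) := by
  intro J _ _ E cE hcE _ j₁ Z₀ h₀ hΦ hP
  obtain ⟨j, φ, hj⟩ := affineSystemDescent_isAffineHom E cE hcE j₁ h₀ hΦ.2 (hPaff _ hP)
  have : IsAffineHom (pullback.snd h₀ (E.map φ)) := hj
  have hZ₁ : IsAffine (pullback h₀ (E.map φ)) :=
    isAffine_of_isAffineHom (pullback.snd h₀ (E.map φ))
  have hP₁ : P (pullback.snd (pullback.snd h₀ (E.map φ)) (cE.π.app j)) := by
    rw [← bc_comp_iff (P := P), bc_congr (P := P) h₀ (cE.w φ)]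
    exact hP
  obtain ⟨k, hk⟩ := exists_P_of_affine E cE hcE hPQ hQ hdesc j (pullback.snd h₀ (E.map φ))
    ((HasRingHomProperty.iff_of_isAffine (P := P₀)).mp (P₀.pullback_snd _ _ hΦ.1)) hP₁
  have := hk k (𝟙 k)
  rw [← bc_comp_iff (P := P), ← E.map_comp] at this
  exact ⟨k.left, k.hom ≫ φ, this⟩

end Generic

end Groth.Agent.H5.Lim

namespace Groth.Agent.H5.Lim

theorem affineSystemDescent_smooth : AffineSystemDescent.{u} @Smooth
    (@LocallyOfFinitePresentation ⊓ (@QuasiCompact ⊓ @QuasiSeparated)) :=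
  affineSystemDescent_of_hasRingHomProperty ringDescent_smooth

theorem affineSystemDescent_etale : AffineSystemDescent.{u} @Etale
    (@LocallyOfFinitePresentation ⊓ (@QuasiCompact ⊓ @QuasiSeparated)) :=
  affineSystemDescent_of_hasRingHomProperty ringDescent_etale

theorem affineSystemDescent_formallyUnramified : AffineSystemDescent.{u} @FormallyUnramified
    (@LocallyOfFiniteType ⊓ (@QuasiCompact ⊓ @QuasiSeparated)) :=
  affineSystemDescent_of_hasRingHomProperty ringDescent_formallyUnramified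

theorem affineSystemDescent_isClosedImmersion : AffineSystemDescent.{u} @IsClosedImmersion
    (@LocallyOfFiniteType ⊓ (@QuasiCompact ⊓ @QuasiSeparated)) :=
  affineSystemDescent_of_affine (Q := fun f => Function.Surjective f)
    (fun f => by
      rw [HasAffineProperty.iff_of_isAffine (P := @IsClosedImmersion)]
      exact ⟨fun h => h.2, fun h => ⟨inferInstance, h⟩⟩)
    (fun _ _ f hf => have : IsClosedImmersion f := hf; inferInstance)
    RingHom.surjective_respectsIso ringDescent_surjective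

theorem affineSystemDescent_isFinite : AffineSystemDescent.{u} @IsFinite
    (@LocallyOfFiniteType ⊓ (@QuasiCompact ⊓ @QuasiSeparated)) :=
  affineSystemDescent_of_affine (Q := RingHom.Finite)
    (fun f => by
      rw [HasAffineProperty.iff_of_isAffine (P := @IsFinite)]
      exact ⟨fun h => h.2, fun h => ⟨inferInstance, h⟩⟩)
    (fun _ _ f hf => have : IsFinite f := hf; inferInstance)
    RingHom.finite_respectsIso ringDescent_finite

end Groth.Agent.H5.Lim
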