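import Groth.Agent.Lib.Helper5.Lim.Descend
import Mathlib

set_option autoImplicit false
universe v u
open CategoryTheory CategoryTheory.Limits AlgebraicGeometry MorphismProperty

namespace Groth.Agent.H5.Lim

section Cat

variable {C : Type u} [Category.{v} C] [HasPullbacks C]

/-- The comparison map between the self-fibre-products of a base change and of the original. -/
noncomputable abbrev diagBC {X₀ Y₀ T : C} (f₀ : X₀ ⟶ Y₀) (a : T ⟶ Y₀) :
    pullback (pullback.snd f₀ a) (pullback.snd f₀ a) ⟶ pullback f₀ f₀ :=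
  pullback.map (pullback.snd f₀ a) (pullback.snd f₀ a) f₀ f₀ (pullback.fst f₀ a)
    (pullback.fst f₀ a) a pullback.condition.symm pullback.condition.symm

set_option backward.isDefEq.respectTransparency false in
/-- The diagonal of a base change is a base change of the diagonal. -/
lemma isPullback_diagonal_bc {X₀ Y₀ T : C} (f₀ : X₀ ⟶ Y₀) (a : T ⟶ Y₀) :
    IsPullback (pullback.fst f₀ a) (pullback.diagonal (pullback.snd f₀ a))
      (pullback.diagonal f₀) (diagBC f₀ a) := by
  refine ⟨⟨?_⟩, ⟨PullbackCone.IsLimit.mk _ (fun s => s.snd ≫ pullback.fst _ _) ?_ ?_ ?_⟩⟩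
  · apply pullback.hom_ext <;> simp [pullback.map]
  · intro s
    have h1 := s.condition =≫ pullback.fst f₀ f₀
    simp only [Category.assoc, pullback.diagonal_fst, Category.comp_id, pullback.lift_fst,
      pullback.map] at h1
    rw [Category.assoc, ← h1]
  · intro s
    have h1 := s.condition =≫ pullback.fst f₀ f₀
    have h2 := s.condition =≫ pullback.snd f₀ f₀
    simp only [Category.assoc, pullback.diagonal_fst, pullback.diagonal_snd, Category.comp_id,
      pullback.lift_fst, pullback.lift_snd, pullback.map] at h1 h2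
    apply pullback.hom_ext
    · simp
    · rw [Category.assoc, pullback.diagonal_snd, Category.comp_id]
      apply pullback.hom_ext
      · rw [Category.assoc, ← h1, h2, Category.assoc]
      · rw [Category.assoc, Category.assoc]
        congr 1
        exact pullback.condition
  · intro s m hm₁ hm₂
    rw [← hm₂, Category.assoc, pullback.diagonal_fst, Category.comp_id]

set_option backward.isDefEq.respectTransparency false in
/-- The self-fibre-product of a base change is the base change of the self-fibre-product. -/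
lemma isPullback_diagBC {X₀ Y₀ T : C} (f₀ : X₀ ⟶ Y₀) (a : T ⟶ Y₀) :
    IsPullback (diagBC f₀ a) (pullback.fst (pullback.snd f₀ a) (pullback.snd f₀ a) ≫
      pullback.snd f₀ a) (pullback.fst f₀ f₀ ≫ f₀) a := by
  refine ⟨⟨?_⟩, ⟨PullbackCone.IsLimit.mk _ (fun s =>
    pullback.lift (pullback.lift (s.fst ≫ pullback.fst f₀ f₀) s.snd
        (by rw [Category.assoc]; exact s.condition))
      (pullback.lift (s.fst ≫ pullback.snd f₀ f₀) s.snd
        (by rw [Category.assoc, ← pullback.condition]; exact s.condition))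
      (by simp)) ?_ ?_ ?_⟩⟩
  · simp [pullback.map, pullback.condition]
  · intro s
    apply pullback.hom_ext <;> simp [pullback.map]
  · intro s
    simp
  · intro s m hm₁ hm₂
    have h1 := hm₁ =≫ pullback.fst f₀ f₀
    have h2 := hm₁ =≫ pullback.snd f₀ f₀
    simp only [Category.assoc, pullback.lift_fst, pullback.lift_snd, pullback.map] at h1 h2
    apply pullback.hom_ext
    · apply pullback.hom_ext
      · simpa using h1
      · simpa using hm₂
    · apply pullback.hom_ext
      · simpa using h2
      · rw [Category.assoc, ← pullback.condition]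
        simpa using hm₂

end Cat

section Sch

variable {P : MorphismProperty Scheme.{u}}

/-- `P.diagonal` of a base change in terms of a base change of the diagonal. -/
lemma diag_bc_iff [P.IsStableUnderBaseChange] {X₀ Y₀ T : Scheme.{u}} (f₀ : X₀ ⟶ Y₀) (a : T ⟶ Y₀) :
    P.diagonal (pullback.snd f₀ a) ↔
      P (pullback.snd (pullback.diagonal f₀) (pullback.fst (pullback.fst f₀ f₀ ≫ f₀) a)) := by
  have hA := isPullback_diagonal_bc f₀ a
  have hB := isPullback_diagBC f₀ a
  change P (pullback.diagonal (pullback.snd f₀ a)) ↔ _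
  have e1 : pullback.diagonal (pullback.snd f₀ a) =
      hA.isoPullback.hom ≫ pullback.snd (pullback.diagonal f₀) (diagBC f₀ a) :=
    hA.isoPullback_hom_snd.symm
  rw [e1, P.cancel_left_of_respectsIso]
  have e2 : diagBC f₀ a = hB.isoPullback.hom ≫ pullback.fst (pullback.fst f₀ f₀ ≫ f₀) a :=
    hB.isoPullback_hom_fst.symm
  rw [bc_congr (P := P) _ e2]
  exact bc_iso_iff _ _ _

/-- `P.diagonal` of the standard-form base change in terms of the standard form for the diagonal. -/
lemma diag_std_iff [P.IsStableUnderBaseChange] {X₀ Y₀ S₀ S : Scheme.{u}} (f₀ : X₀ ⟶ Y₀)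
    (g₀ : Y₀ ⟶ S₀) (π : S ⟶ S₀) :
    P.diagonal (pullback.snd f₀ (pullback.fst g₀ π)) ↔
      P (pullback.snd (pullback.diagonal f₀)
        (pullback.fst ((pullback.fst f₀ f₀ ≫ f₀) ≫ g₀) π)) := by
  rw [diag_bc_iff]
  have e : pullback.fst (pullback.fst f₀ f₀ ≫ f₀) (pullback.fst g₀ π) =
      (pullbackRightPullbackFstIso g₀ π (pullback.fst f₀ f₀ ≫ f₀)).hom ≫
        pullback.fst ((pullback.fst f₀ f₀ ≫ f₀) ≫ g₀) π :=
    (pullbackRightPullbackFstIso_hom_fst _ _ _).symm
  rw [bc_congr (P := P) _ e]
  exact bc_iso_iff _ _ _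

variable {I : Type u} [SmallCategory I] [IsCofiltered I] (D : I ⥤ Scheme.{u}) (c : Cone D)
  (hc : IsLimit c)

include hc in
/-- Descent of a diagonal property along a limit, standard form. -/
theorem exists_descend_core_diagonal {Φ : MorphismProperty Scheme.{u}}
    [IsZariskiLocalAtTarget P]
    [P.IsStableUnderBaseChange] [Φ.IsStableUnderBaseChange] (H : AffineSystemDescent P Φ)
    [∀ (i j : I) (f : i ⟶ j), IsAffineHom (D.map f)] (i₀ : I)
    {X₀ Y₀ : Scheme.{u}} (f₀ : X₀ ⟶ Y₀) (g₀ : Y₀ ⟶ D.obj i₀) [CompactSpace ↥(pullback f₀ f₀)]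
    (hΦ : Φ (pullback.diagonal f₀))
    (hP₁ : P.diagonal (pullback.snd f₀ (pullback.fst g₀ (c.π.app i₀)))) :
    ∃ k : Over i₀, P.diagonal (pullback.snd f₀ (pullback.fst g₀ (D.map k.hom))) := by
  rw [diag_std_iff] at hP₁
  obtain ⟨k, hk⟩ := exists_descend_core D c hc H i₀ (pullback.diagonal f₀)
    ((pullback.fst f₀ f₀ ≫ f₀) ≫ g₀) hΦ hP₁
  exact ⟨k, (diag_std_iff _ _ _).mpr hk⟩

end Sch

end Groth.Agent.H5.Lim
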