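import Groth.Agent.Lib.Helper5.Lim.DescendProps
import Groth.Agent.Lib.Helper1.WeakFlat
import Mathlib

set_option autoImplicit false
universe u
open CategoryTheory CategoryTheory.Limits AlgebraicGeometry MorphismProperty TensorProduct

namespace Groth.Agent.H5.Lim

open CA

/-- Flatness descends along weak colimits for finitely presented algebras (helper1's
`exists_flat_algebra_stage`). -/
theorem ringDescent_flat : RingDescent.{u} RingHom.Flat RingHom.FinitePresentation := by
  intro K _ ι G _ _ A _ _ W C _ _ hΦ h
  have : Algebra.FinitePresentation K C := RingHom.finitePresentation_algebraMap.mp hΦ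
  have hA : Module.Flat A (A ⊗[K] C) := RingHom.flat_algebraMap_iff.mp h
  obtain ⟨i₀⟩ := W.nonempty
  obtain ⟨j, θ, hθ, hj⟩ := Groth.Agent.H1.WeakFlat.exists_flat_algebra_stage W C i₀
  exact ⟨j, fun S _ _ ψ => RingHom.flat_algebraMap_iff.mpr (hj S ψ)⟩

theorem affineSystemDescent_flat : AffineSystemDescent.{u} @Flat
    (@LocallyOfFinitePresentation ⊓ (@QuasiCompact ⊓ @QuasiSeparated)) :=
  affineSystemDescent_of_hasRingHomProperty ringDescent_flat

end Groth.Agent.H5.Lim
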