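import Groth.Agent.Lib.Helper5.Lim.DescendProps
import Mathlib

set_option autoImplicit false
universe u
open CategoryTheory CategoryTheory.Limits AlgebraicGeometry MorphismProperty

namespace Groth.Agent.H5.Lim

lemma bijective_respectsIso : RingHom.RespectsIso (fun {R S : Type u} [CommRing R] [CommRing S]
    (f : R →+* S) => Function.Bijective f) := by
  constructor
  · intro R S T _ _ _ f e hf
    exact e.bijective.comp hf
  · intro R S T _ _ _ f e hf
    exact hf.comp e.bijective

theorem affineSystemDescent_isomorphisms : AffineSystemDescent.{u} (isomorphisms Scheme.{u})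
    (@LocallyOfFinitePresentation ⊓ (@QuasiCompact ⊓ @QuasiSeparated)) :=
  affineSystemDescent_of_affine (Q := fun f => Function.Bijective f)
    (fun f => by
      change isomorphisms Scheme.{u} f ↔ _
      rw [HasAffineProperty.iff_of_isAffine (P := isomorphisms Scheme.{u})]
      rw [ConcreteCategory.isIso_iff_bijective]
      exact ⟨fun h => h.2, fun h => ⟨inferInstance, h⟩⟩)
    (fun _ _ f hf => have : IsIso f := hf; inferInstance)
    bijective_respectsIso ringDescent_bijective

end Groth.Agent.H5.Lim
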