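import Mathlib
set_option autoImplicit false
universe u
open CategoryTheory CategoryTheory.Limits AlgebraicGeometry

namespace Groth.Agent.H5.Lim

variable {I : Type u} [SmallCategory I] (D : I ⥤ Scheme.{u}) (c : Cone D) {i : I}
  {T : Scheme.{u}} (a : T ⟶ D.obj i)

/-- transition maps of the base change diagram -/
noncomputable def bcMap {j k : Over i} (φ : j ⟶ k) :
    pullback a (D.map j.hom) ⟶ pullback a (D.map k.hom) :=
  pullback.lift (pullback.fst a (D.map j.hom)) (pullback.snd a (D.map j.hom) ≫ D.map φ.left)
    (by rw [Category.assoc, ← D.map_comp, Over.w, pullback.condition])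

@[reassoc (attr := simp)]
lemma bcMap_fst {j k : Over i} (φ : j ⟶ k) :
    bcMap D a φ ≫ pullback.fst a (D.map k.hom) = pullback.fst a (D.map j.hom) :=
  pullback.lift_fst _ _ _

@[reassoc (attr := simp)]
lemma bcMap_snd {j k : Over i} (φ : j ⟶ k) :
    bcMap D a φ ≫ pullback.snd a (D.map k.hom) = pullback.snd a (D.map j.hom) ≫ D.map φ.left :=
  pullback.lift_snd _ _ _

/-- The base change of the diagram `D` (restricted over `i`) along `a : T ⟶ D.obj i`. -/
@[simps]
noncomputable def bcDiagram : Over i ⥤ Scheme.{u} where
  obj j := pullback a (D.map j.hom)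
  map {j k} φ := bcMap D a φ
  map_id j := by
    apply pullback.hom_ext
    · rw [bcMap_fst, Category.id_comp]
    · rw [bcMap_snd, Category.id_comp, Over.id_left, D.map_id, Category.comp_id]
  map_comp φ ψ := by
    apply pullback.hom_ext
    · rw [bcMap_fst, Category.assoc, bcMap_fst, bcMap_fst]
    · rw [bcMap_snd, Category.assoc, bcMap_snd, bcMap_snd_assoc, Over.comp_left, D.map_comp]

/-- The projection to the original diagram. -/
@[simps]
noncomputable def bcDiagramι : bcDiagram D a ⟶ Over.forget i ⋙ D where
  app j := pullback.snd a (D.map j.hom)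
  naturality j k φ := bcMap_snd D a φ

/-- projections of the base change cone -/
noncomputable def bcProj (j : Over i) : pullback a (c.π.app i) ⟶ pullback a (D.map j.hom) :=
  pullback.lift (pullback.fst a (c.π.app i)) (pullback.snd a (c.π.app i) ≫ c.π.app j.left)
    (by rw [Category.assoc, c.w, pullback.condition])

@[reassoc (attr := simp)]
lemma bcProj_fst (j : Over i) :
    bcProj D c a j ≫ pullback.fst a (D.map j.hom) = pullback.fst a (c.π.app i) :=
  pullback.lift_fst _ _ _

@[reassoc (attr := simp)]
lemma bcProj_snd (j : Over i) :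
    bcProj D c a j ≫ pullback.snd a (D.map j.hom) = pullback.snd a (c.π.app i) ≫ c.π.app j.left :=
  pullback.lift_snd _ _ _

/-- The base change of the cone `c` along `a`. -/
@[simps]
noncomputable def bcCone : Cone (bcDiagram D a) where
  pt := pullback a (c.π.app i)
  π :=
    { app := fun j => bcProj D c a j
      naturality := fun j k φ => by
        change 𝟙 _ ≫ bcProj D c a k = bcProj D c a j ≫ bcMap D a φ
        rw [Category.id_comp]
        apply pullback.hom_ext
        · rw [bcProj_fst, Category.assoc, bcMap_fst, bcProj_fst]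
        · rw [bcProj_snd, Category.assoc, bcMap_snd, bcProj_snd_assoc, c.w] }

lemma isPullback_bcProj (j : Over i) :
    IsPullback (bcProj D c a j) (pullback.snd a (c.π.app i)) (pullback.snd a (D.map j.hom))
      (c.π.app j.left) := by
  have h1 : IsPullback (pullback.fst a (D.map j.hom)) (pullback.snd a (D.map j.hom)) a
      (D.map j.hom) := IsPullback.of_hasPullback _ _
  have h2 : IsPullback (pullback.fst a (c.π.app i)) (pullback.snd a (c.π.app i)) a
      (c.π.app j.left ≫ D.map j.hom) := by
    rw [c.w]
    exact IsPullback.of_hasPullback _ _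
  refine IsPullback.of_right ?_ (bcProj_snd D c a j) h1
  rw [bcProj_fst]
  exact h2

/-- The base change of a limit cone is a limit cone. -/
noncomputable def isLimitBcCone [IsCofiltered I] (hc : IsLimit c) : IsLimit (bcCone D c a) :=
  have : IsConnected (Over i) := isConnected_of_hasTerminal _
  isLimitOfIsPullbackOfIsConnected (bcDiagramι D a) _ (c.whisker (Over.forget i))
    { hom := pullback.snd a (c.π.app i)
      w := fun j => (bcProj_snd D c a j).symm }
    (fun j => isPullback_bcProj D c a j)
    ((Functor.Initial.isLimitWhiskerEquiv (Over.forget i) c).symm hc)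

lemma isPullback_bcMap {j k : Over i} (φ : j ⟶ k) :
    IsPullback (bcMap D a φ) (pullback.snd a (D.map j.hom)) (pullback.snd a (D.map k.hom))
      (D.map φ.left) := by
  have h1 : IsPullback (pullback.fst a (D.map k.hom)) (pullback.snd a (D.map k.hom)) a
      (D.map k.hom) := IsPullback.of_hasPullback _ _
  have h2 : IsPullback (pullback.fst a (D.map j.hom)) (pullback.snd a (D.map j.hom)) a
      (D.map φ.left ≫ D.map k.hom) := by
    rw [← D.map_comp, Over.w]
    exact IsPullback.of_hasPullback _ _
  refine IsPullback.of_right ?_ (bcMap_snd D a φ) h1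
  rw [bcMap_fst]
  exact h2

lemma isAffineHom_bcMap {j k : Over i} (φ : j ⟶ k) (h : IsAffineHom (D.map φ.left)) :
    IsAffineHom (bcMap D a φ) :=
  MorphismProperty.of_isPullback (P := @IsAffineHom) (isPullback_bcMap D a φ).flip h

lemma compactSpace_of_isAffineHom {X Y : Scheme.{u}} (f : X ⟶ Y) (hf : IsAffineHom f)
    [CompactSpace Y] : CompactSpace X :=
  QuasiCompact.compactSpace_of_compactSpace f

lemma compactSpace_bcDiagram_obj [CompactSpace T] (j : Over i) (h : IsAffineHom (D.map j.hom)) :
    CompactSpace ↥((bcDiagram D a).obj j) :=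
  compactSpace_of_isAffineHom (pullback.fst a (D.map j.hom))
    (MorphismProperty.pullback_fst (P := @IsAffineHom) _ _ h)

lemma isAffine_bcDiagram_obj [IsAffine T] (j : Over i) (h : IsAffineHom (D.map j.hom)) :
    IsAffine ((bcDiagram D a).obj j) := by
  have : IsAffineHom (pullback.fst a (D.map j.hom)) :=
    MorphismProperty.pullback_fst (P := @IsAffineHom) _ _ h
  change IsAffine (pullback a (D.map j.hom))
  exact isAffine_of_isAffineHom (pullback.fst a (D.map j.hom))

/-- The structure maps of the base change diagram to `T`. -/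
@[simps]
noncomputable def bcDiagramFst : bcDiagram D a ⟶ (Functor.const (Over i)).obj T where
  app j := pullback.fst a (D.map j.hom)
  naturality j k φ := by
    change bcMap D a φ ≫ pullback.fst a (D.map k.hom) = pullback.fst a (D.map j.hom) ≫ 𝟙 _
    rw [bcMap_fst, Category.comp_id]

lemma quasiSeparatedSpace_bcDiagram_obj [QuasiSeparatedSpace T] (j : Over i)
    (h : IsAffineHom (D.map j.hom)) : QuasiSeparatedSpace ↥((bcDiagram D a).obj j) := by
  have : IsAffineHom (pullback.fst a (D.map j.hom)) :=
    MorphismProperty.pullback_fst (P := @IsAffineHom) _ _ h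
  change QuasiSeparatedSpace ↥(pullback a (D.map j.hom))
  exact quasiSeparatedSpace_of_quasiSeparated (pullback.fst a (D.map j.hom))

end Groth.Agent.H5.Lim
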