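import Mathlib
import Groth.Agent.Lib.Helper5.Lim.BaseChangeSystem
set_option autoImplicit false
universe u
open CategoryTheory CategoryTheory.Limits AlgebraicGeometry

namespace Groth.Agent.H5.Lim

variable {I : Type u} [SmallCategory I] (D : I ⥤ Scheme.{u}) (c : Cone D)

/-- A model of finite presentation of `h : T ⟶ lim D` at the stage `i`. -/
structure Model {T : Scheme.{u}} (h : T ⟶ c.pt) (i : I) where
  Y : Scheme.{u}
  p : Y ⟶ D.obj i
  g : T ⟶ Y
  lfp : LocallyOfFinitePresentation p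
  qc : QuasiCompact p
  qs : QuasiSeparated p
  pb : IsPullback g h p (c.π.app i)

namespace Model

variable {D c} {T : Scheme.{u}} {h : T ⟶ c.pt} {i : I}

attribute [instance] Model.lfp Model.qc Model.qs

lemma compactSpace_Y (M : Model D c h i) [CompactSpace (D.obj i)] : CompactSpace M.Y :=
  QuasiCompact.compactSpace_of_compactSpace M.p

lemma quasiSeparatedSpace_Y (M : Model D c h i) [QuasiSeparatedSpace (D.obj i)] :
    QuasiSeparatedSpace M.Y :=
  quasiSeparatedSpace_of_quasiSeparated M.p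

/-- Base change of a model to a later stage. -/
@[reducible] noncomputable def bc (M : Model D c h i) {j : I} (φ : j ⟶ i) : Model D c h j where
  Y := pullback M.p (D.map φ)
  p := pullback.snd M.p (D.map φ)
  g := pullback.lift M.g (h ≫ c.π.app j) (by rw [Category.assoc, c.w, M.pb.w])
  lfp := MorphismProperty.pullback_snd (P := @LocallyOfFinitePresentation) _ _ M.lfp
  qc := MorphismProperty.pullback_snd (P := @QuasiCompact) _ _ M.qc
  qs := MorphismProperty.pullback_snd (P := @QuasiSeparated) _ _ M.qs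
  pb := by
    have h1 : IsPullback (pullback.fst M.p (D.map φ)) (pullback.snd M.p (D.map φ)) M.p
        (D.map φ) := IsPullback.of_hasPullback _ _
    refine IsPullback.of_right ?_ (pullback.lift_snd _ _ _) h1
    rw [pullback.lift_fst, c.w]
    exact M.pb

/-- the raw map to the base change -/
noncomputable def bcG (M : Model D c h i) {j : I} (φ : j ⟶ i) : T ⟶ pullback M.p (D.map φ) :=
  pullback.lift M.g (h ≫ c.π.app j) (by rw [Category.assoc, c.w, M.pb.w])

lemma bc_g_eq (M : Model D c h i) {j : I} (φ : j ⟶ i) : (M.bc φ).g = M.bcG φ := rfl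

@[reassoc (attr := simp)]
lemma bcG_fst (M : Model D c h i) {j : I} (φ : j ⟶ i) :
    M.bcG φ ≫ pullback.fst M.p (D.map φ) = M.g := pullback.lift_fst _ _ _

@[reassoc (attr := simp)]
lemma bcG_snd (M : Model D c h i) {j : I} (φ : j ⟶ i) :
    M.bcG φ ≫ pullback.snd M.p (D.map φ) = h ≫ c.π.app j := pullback.lift_snd _ _ _

/-- The projection from the base change of a model. -/
noncomputable def bcFst (M : Model D c h i) {j : I} (φ : j ⟶ i) : (M.bc φ).Y ⟶ M.Y :=
  pullback.fst M.p (D.map φ)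

lemma isPullback_bcFst (M : Model D c h i) {j : I} (φ : j ⟶ i) :
    IsPullback (M.bcFst φ) (M.bc φ).p M.p (D.map φ) :=
  IsPullback.of_hasPullback M.p (D.map φ)

@[reassoc (attr := simp)]
lemma bc_g_bcFst (M : Model D c h i) {j : I} (φ : j ⟶ i) :
    (M.bc φ).g ≫ M.bcFst φ = M.g := pullback.lift_fst _ _ _

@[reassoc]
lemma bc_g_p (M : Model D c h i) {j : I} (φ : j ⟶ i) :
    (M.bc φ).g ≫ (M.bc φ).p = h ≫ c.π.app j := (M.bc φ).pb.w

@[reassoc]
lemma bcFst_p (M : Model D c h i) {j : I} (φ : j ⟶ i) :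
    M.bcFst φ ≫ M.p = (M.bc φ).p ≫ D.map φ := (M.isPullback_bcFst φ).w

lemma bc_hom_ext (M : Model D c h i) {j : I} (φ : j ⟶ i) {Z : Scheme.{u}}
    {a b : Z ⟶ (M.bc φ).Y} (h₁ : a ≫ M.bcFst φ = b ≫ M.bcFst φ)
    (h₂ : a ≫ (M.bc φ).p = b ≫ (M.bc φ).p) : a = b :=
  (M.isPullback_bcFst φ).hom_ext h₁ h₂

/-- Lifting into the base change of a model. -/
noncomputable def bcLift (M : Model D c h i) {j : I} (φ : j ⟶ i) {Z : Scheme.{u}}
    (a : Z ⟶ M.Y) (b : Z ⟶ D.obj j) (w : a ≫ M.p = b ≫ D.map φ) : Z ⟶ (M.bc φ).Y :=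
  (M.isPullback_bcFst φ).lift a b w

@[reassoc (attr := simp)]
lemma bcLift_bcFst (M : Model D c h i) {j : I} (φ : j ⟶ i) {Z : Scheme.{u}}
    (a : Z ⟶ M.Y) (b : Z ⟶ D.obj j) (w : a ≫ M.p = b ≫ D.map φ) :
    M.bcLift φ a b w ≫ M.bcFst φ = a := (M.isPullback_bcFst φ).lift_fst a b w

@[reassoc (attr := simp)]
lemma bcLift_p (M : Model D c h i) {j : I} (φ : j ⟶ i) {Z : Scheme.{u}}
    (a : Z ⟶ M.Y) (b : Z ⟶ D.obj j) (w : a ≫ M.p = b ≫ D.map φ) :
    M.bcLift φ a b w ≫ (M.bc φ).p = b := (M.isPullback_bcFst φ).lift_snd a b w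

/-- Transport of a model along an equality of morphisms. -/
def ofEq (M : Model D c h i) {h' : T ⟶ c.pt} (e : h = h') : Model D c h' i where
  Y := M.Y
  p := M.p
  g := M.g
  lfp := M.lfp
  qc := M.qc
  qs := M.qs
  pb := e ▸ M.pb

/-- Transport of a model along an isomorphism of the source. -/
def ofIso (M : Model D c h i) {T' : Scheme.{u}} (e : T' ≅ T) : Model D c (e.hom ≫ h) i where
  Y := M.Y
  p := M.p
  g := e.hom ≫ M.g
  lfp := M.lfp
  qc := M.qc
  qs := M.qs
  pb := by
    refine IsPullback.of_iso M.pb e.symm (Iso.refl _) (Iso.refl _) (Iso.refl _) ?_ ?_ ?_ ?_ <;>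
      simp

/-- The cone of base changes of a model. -/
noncomputable def cone (M : Model D c h i) : Cone (bcDiagram D M.p) where
  pt := T
  π :=
    { app := fun j => (M.bc j.hom).g
      naturality := fun j k φ => by
        change 𝟙 _ ≫ M.bcG k.hom = M.bcG j.hom ≫ bcMap D M.p φ
        rw [Category.id_comp]
        apply pullback.hom_ext
        · rw [bcG_fst, Category.assoc, bcMap_fst, bcG_fst]
        · rw [bcG_snd, Category.assoc, bcMap_snd, bcG_snd_assoc, c.w] }

@[simp] lemma cone_pt (M : Model D c h i) : M.cone.pt = T := rfl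
lemma cone_π_app (M : Model D c h i) (j : Over i) : M.cone.π.app j = M.bcG j.hom := rfl

/-- The cone of base changes of a model is a limit cone. -/
noncomputable def isLimitCone [IsCofiltered I] (M : Model D c h i) (hc : IsLimit c) :
    IsLimit M.cone :=
  IsLimit.ofIsoLimit (isLimitBcCone D c M.p hc)
    (Cone.ext M.pb.isoPullback.symm (fun j => by
      change bcProj D c M.p j = M.pb.isoPullback.inv ≫ M.bcG j.hom
      apply pullback.hom_ext
      · rw [bcProj_fst, Category.assoc, bcG_fst, IsPullback.isoPullback_inv_fst]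
      · rw [bcProj_snd, Category.assoc, bcG_snd, IsPullback.isoPullback_inv_snd_assoc]))

end Model

end Groth.Agent.H5.Lim
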