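import Mathlib
import Groth.Agent.Lib.Helper5.Lim.Model
set_option autoImplicit false
universe u
open CategoryTheory CategoryTheory.Limits AlgebraicGeometry

namespace Groth.Agent.H5.Lim

variable {I : Type u} [SmallCategory I] {D : I ⥤ Scheme.{u}} {c : Cone D}

namespace Model

variable {T : Scheme.{u}} {h : T ⟶ c.pt} {i : I}

/-- The model of an open subscheme cut out by an open of a model. -/
@[reducible] noncomputable def ofOpen (M : Model D c h i) [QuasiSeparatedSpace (D.obj i)] (V : M.Y.Opens)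
    (hV : IsCompact (V : Set M.Y)) {Z : Scheme.{u}} (z : Z ⟶ T) [IsOpenImmersion z]
    (hz : M.g ⁻¹ᵁ V = z.opensRange) : Model D c (z ≫ h) i where
  Y := V
  p := V.ι ≫ M.p
  g := IsOpenImmersion.lift V.ι (z ≫ M.g) (by
    rintro _ ⟨x, rfl⟩
    have : z x ∈ M.g ⁻¹ᵁ V := by rw [hz]; exact ⟨x, rfl⟩
    simpa using this)
  lfp := inferInstance
  qc := by
    haveI : CompactSpace V := isCompact_iff_compactSpace.mp hV
    haveI := M.quasiSeparatedSpace_Y
    infer_instance
  qs := inferInstance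
  pb := (IsOpenImmersion.isPullback _ z V.ι M.g (by rw [IsOpenImmersion.lift_fac])
    (by simpa using hz)).paste_vert M.pb

lemma ofOpen_g_ι (M : Model D c h i) [QuasiSeparatedSpace (D.obj i)] (V : M.Y.Opens)
    (hV : IsCompact (V : Set M.Y)) {Z : Scheme.{u}} (z : Z ⟶ T) [IsOpenImmersion z]
    (hz : M.g ⁻¹ᵁ V = z.opensRange) : (M.ofOpen V hV z hz).g ≫ V.ι = z ≫ M.g :=
  IsOpenImmersion.lift_fac _ _ _

variable [IsCofiltered I] [∀ (i j : I) (f : i ⟶ j), IsAffineHom (D.map f)]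

instance isAffineHom_bcDiagram_map (M : Model D c h i) {j k : Over i} (f : j ⟶ k) :
    IsAffineHom ((bcDiagram D M.p).map f) :=
  isAffineHom_bcMap D M.p f inferInstance

theorem exists_restrict (hc : IsLimit c) [∀ i, QuasiSeparatedSpace (D.obj i)]
    (M : Model D c h i) {Z : Scheme.{u}} (z : Z ⟶ T) [IsOpenImmersion z] [CompactSpace Z] :
    ∃ (j : I) (φ : j ⟶ i) (MZ : Model D c (z ≫ h) j) (α : MZ.Y ⟶ (M.bc φ).Y),
      IsOpenImmersion α ∧ α ≫ (M.bc φ).p = MZ.p ∧ MZ.g ≫ α = z ≫ (M.bc φ).g := by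
  obtain ⟨j, V, hV, hVz⟩ := exists_preimage_eq (bcDiagram D M.p) M.cone (M.isLimitCone hc)
    z.opensRange (isCompact_range z.continuous)
  let V' : (M.bc j.hom).Y.Opens := V
  have hz : (M.bc j.hom).g ⁻¹ᵁ V' = z.opensRange := hVz
  exact ⟨j.left, j.hom, (M.bc j.hom).ofOpen V' hV z hz, V'.ι, inferInstance, rfl,
    ofOpen_g_ι _ _ _ _ _⟩

end Model

end Groth.Agent.H5.Lim
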