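import Mathlib
import Groth.Agent.Lib.Helper5.Lim.Model2
set_option autoImplicit false
universe u
open CategoryTheory CategoryTheory.Limits AlgebraicGeometry

namespace Groth.Agent.H5.Lim

variable {I : Type u} [SmallCategory I] {D : I ⥤ Scheme.{u}} {c : Cone D}

namespace Model

variable {T T' : Scheme.{u}} {h : T ⟶ c.pt} {h' : T' ⟶ c.pt} {i : I}

/-- A morphism of models over a morphism `t : T ⟶ T'`. -/
structure Hom (M : Model D c h i) (M' : Model D c h' i) (t : T ⟶ T') where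
  α : M.Y ⟶ M'.Y
  w_p : α ≫ M'.p = M.p
  w_g : M.g ≫ α = t ≫ M'.g

namespace Hom

variable {M : Model D c h i} {M' : Model D c h' i} {t : T ⟶ T'}

/-- The square of a morphism of models is cartesian. -/
lemma isPullback (F : Hom M M' t) (ht : t ≫ h' = h) : IsPullback M.g t F.α M'.g := by
  refine IsPullback.of_bot ?_ F.w_g M'.pb
  rw [F.w_p, ht]
  exact M.pb

/-- base change of a morphism of models -/
noncomputable def bc (F : Hom M M' t) {j : I} (φ : j ⟶ i) (ht : t ≫ h' = h) :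
    Hom (M.bc φ) (M'.bc φ) t where
  α := M'.bcLift φ (M.bcFst φ ≫ F.α) (M.bc φ).p (by
    rw [Category.assoc, F.w_p, bcFst_p])
  w_p := bcLift_p _ _ _ _ _
  w_g := by
    apply M'.bc_hom_ext φ
    · rw [Category.assoc, bcLift_bcFst, bc_g_bcFst_assoc, Category.assoc, bc_g_bcFst, F.w_g]
    · rw [Category.assoc, bcLift_p, bc_g_p, Category.assoc, bc_g_p, reassoc_of% ht]

lemma bc_α_bcFst (F : Hom M M' t) {j : I} (φ : j ⟶ i) (ht : t ≫ h' = h) :
    (F.bc φ ht).α ≫ M'.bcFst φ = M.bcFst φ ≫ F.α := bcLift_bcFst _ _ _ _ _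

/-- the base change of a morphism of models is a base change. -/
lemma isPullback_bc (F : Hom M M' t) {j : I} (φ : j ⟶ i) (ht : t ≫ h' = h) :
    IsPullback (M.bcFst φ) (F.bc φ ht).α F.α (M'.bcFst φ) := by
  refine IsPullback.of_bot ?_ (F.bc_α_bcFst φ ht).symm (M'.isPullback_bcFst φ)
  rw [(F.bc φ ht).w_p, F.w_p]
  exact M.isPullback_bcFst φ

end Hom

variable [IsCofiltered I] [∀ (i j : I) (f : i ⟶ j), IsAffineHom (D.map f)]

theorem exists_hom (hc : IsLimit c) [∀ i, QuasiSeparatedSpace (D.obj i)]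
    [∀ i, CompactSpace (D.obj i)]
    (M : Model D c h i) (M' : Model D c h' i) (t : T ⟶ T') (ht : t ≫ h' = h) :
    ∃ (j : I) (φ : j ⟶ i), Nonempty (Hom (M.bc φ) (M'.bc φ) t) := by
  have hDaff : ∀ {i j : I} (f : i ⟶ j), IsAffineHom (D.map f) := fun f => inferInstance
  haveI : ∀ j, CompactSpace ((bcDiagram D M.p).obj j) := fun j =>
    (M.bc j.hom).compactSpace_Y
  haveI : ∀ j, QuasiSeparatedSpace ((bcDiagram D M.p).obj j) := fun j =>
    (M.bc j.hom).quasiSeparatedSpace_Y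
  let tt : bcDiagram D M.p ⟶ (Functor.const (Over i)).obj (D.obj i) :=
    bcDiagramFst D M.p ≫ (Functor.const (Over i)).map M.p
  obtain ⟨j, (g₀ : (M.bc j.hom).Y ⟶ M'.Y), hg₁, hg₂⟩ := Scheme.exists_π_app_comp_eq_of_locallyOfFinitePresentation
    (bcDiagram D M.p) tt M'.p M.cone (M.isLimitCone hc) (t ≫ M'.g) (by
      ext j
      change M.bcG j.hom ≫ pullback.fst M.p (D.map j.hom) ≫ M.p = (t ≫ M'.g) ≫ M'.p
      rw [bcG_fst_assoc, M.pb.w, Category.assoc, M'.pb.w, reassoc_of% ht])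
  have hg₁' : (M.bc j.hom).g ≫ g₀ = t ≫ M'.g := hg₁
  have hg₂' : g₀ ≫ M'.p = M.bcFst j.hom ≫ M.p := hg₂
  refine ⟨j.left, j.hom, ⟨⟨M'.bcLift j.hom g₀ (M.bc j.hom).p (by rw [hg₂', bcFst_p]),
    bcLift_p _ _ _ _ _, ?_⟩⟩⟩
  apply M'.bc_hom_ext j.hom
  · rw [Category.assoc, bcLift_bcFst, hg₁', Category.assoc, bc_g_bcFst]
  · rw [Category.assoc, bcLift_p, bc_g_p, Category.assoc, bc_g_p, reassoc_of% ht]

end Model

end Groth.Agent.H5.Lim
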