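import Mathlib
import Groth.Agent.Lib.Helper5.Lim.Model3
import Groth.Agent.Lib.Helper5.Lim.DescendIso
import Groth.Agent.Lib.Helper5.Lim.DescendFlat
import Groth.Agent.Lib.Helper5.Lim.DescendDiagonal
import Groth.Agent.Lib.Helper5.EtSrc.OfComp
set_option autoImplicit false
universe u
open CategoryTheory CategoryTheory.Limits AlgebraicGeometry MorphismProperty

namespace Groth.Agent.H5.Lim

variable {I : Type u} [SmallCategory I] {D : I ⥤ Scheme.{u}} {c : Cone D}

namespace Model

variable {T T' : Scheme.{u}} {h : T ⟶ c.pt} {h' : T' ⟶ c.pt} {i : I}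

namespace Hom

variable {M : Model D c h i} {M' : Model D c h' i} {t : T ⟶ T'}

lemma lfp_α (F : Hom M M' t) : LocallyOfFinitePresentation F.α :=
  Groth.Agent.H5.EtSrc.locallyOfFinitePresentation_of_comp F.α M'.p (by rw [F.w_p]; infer_instance)
    inferInstance

lemma qs_α (F : Hom M M' t) : QuasiSeparated F.α :=
  haveI : QuasiSeparated (F.α ≫ M'.p) := by rw [F.w_p]; infer_instance
  QuasiSeparated.of_comp F.α M'.p

lemma qc_α (F : Hom M M' t) : QuasiCompact F.α :=
  haveI : QuasiCompact (F.α ≫ M'.p) := by rw [F.w_p]; infer_instance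
  QuasiCompact.of_comp F.α M'.p

variable [IsCofiltered I] [∀ (i j : I) (f : i ⟶ j), IsAffineHom (D.map f)]

theorem exists_isOpenImmersion (hc : IsLimit c) [∀ i, QuasiSeparatedSpace (D.obj i)]
    [∀ i, CompactSpace (D.obj i)] (F : Hom M M' t) (ht : t ≫ h' = h) [IsOpenImmersion t] :
    ∃ (j : I) (φ : j ⟶ i), IsOpenImmersion (F.bc φ ht).α := by
  haveI := F.lfp_α
  haveI := F.qs_α
  haveI := F.qc_α
  haveI : CompactSpace M'.Y := M'.compactSpace_Y
  haveI : CompactSpace M.Y := M.compactSpace_Y
  -- flatness
  obtain ⟨k₁, hk₁⟩ := exists_descend_core D c hc affineSystemDescent_flat i F.α M'.p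
    ⟨inferInstance, inferInstance, inferInstance⟩
    (descend_in (P := @Flat) D c F.α M'.p M'.pb (F.isPullback ht) inferInstance)
  -- monomorphism
  haveI : CompactSpace ↥(pullback F.α F.α) :=
    QuasiCompact.compactSpace_of_compactSpace (pullback.fst F.α F.α)
  have hdiag : LocallyOfFinitePresentation (pullback.diagonal F.α) :=
    Groth.Agent.H5.EtSrc.locallyOfFinitePresentation_of_comp _ (pullback.fst F.α F.α)
      (by rw [pullback.diagonal_fst]; infer_instance) inferInstance
  obtain ⟨k₂, hk₂⟩ := exists_descend_core_diagonal (P := isomorphisms Scheme.{u}) D c hc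
    affineSystemDescent_isomorphisms i F.α M'.p
    ⟨hdiag, inferInstance, inferInstance⟩
    (descend_in (P := (isomorphisms Scheme.{u}).diagonal) D c F.α M'.p M'.pb (F.isPullback ht)
      (by change IsIso (pullback.diagonal t); infer_instance))
  -- common stage
  let k := IsCofiltered.min k₁ k₂
  have h1 := descend_mono (P := @Flat) D F.α M'.p (IsCofiltered.minToLeft k₁ k₂) hk₁
  have h2 := descend_mono (P := (isomorphisms Scheme.{u}).diagonal) D F.α M'.p
    (IsCofiltered.minToRight k₁ k₂) hk₂
  refine ⟨k.left, k.hom, ?_⟩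
  set q := pullback.snd F.α (pullback.fst M'.p (D.map k.hom)) with hq
  haveI : Flat q := h1
  haveI : LocallyOfFinitePresentation q :=
    MorphismProperty.pullback_snd (P := @LocallyOfFinitePresentation) _ _ inferInstance
  haveI : Mono q := by
    have : IsIso (pullback.diagonal q) := h2
    have e1 : pullback.fst q q = inv (pullback.diagonal q) := by
      rw [← cancel_epi (pullback.diagonal q), pullback.diagonal_fst, IsIso.hom_inv_id]
    have e2 : pullback.snd q q = inv (pullback.diagonal q) := by
      rw [← cancel_epi (pullback.diagonal q), pullback.diagonal_snd, IsIso.hom_inv_id]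
    refine ⟨fun a b hab => ?_⟩
    have := pullback.lift_fst a b hab
    rw [e1, ← e2, pullback.lift_snd] at this
    exact this.symm
  haveI : IsOpenImmersion q := IsOpenImmersion.of_flat_of_mono q
  have e := (F.isPullback_bc k.hom ht).isoPullback_hom_snd
  change _ ≫ q = _ at e
  rw [← e]
  infer_instance

end Hom

end Model

end Groth.Agent.H5.Lim
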