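import Mathlib
import Groth.Agent.Lib.Helper5.PullbackRange
set_option autoImplicit false
universe u
open CategoryTheory CategoryTheory.Limits AlgebraicGeometry

namespace Groth.Agent.H5.Glue

variable {O W U P : Scheme.{u}}

/-- A Zariski square: a pullback square of schemes whose legs `l`, `r` are jointly surjective
open immersions. -/
structure IsZariskiSquare (a : O ⟶ W) (b : O ⟶ U) (l : W ⟶ P) (r : U ⟶ P) : Prop where
  pb : IsPullback a b l r
  openL : IsOpenImmersion l
  openR : IsOpenImmersion r
  covers : ∀ x : P, (∃ w : W, l w = x) ∨ (∃ u : U, r u = x)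

namespace IsZariskiSquare

variable {a : O ⟶ W} {b : O ⟶ U} {l : W ⟶ P} {r : U ⟶ P}

/-- the two-member open cover -/
noncomputable def cover (h : IsZariskiSquare a b l r) : P.OpenCover :=
  haveI := h.openL
  haveI := h.openR
  Scheme.Cover.mkOfCovers Bool (fun t => cond t W U)
    (fun t => Bool.rec (motive := fun t => cond t W U ⟶ P) r l t)
    (fun x => by
      rcases h.covers x with ⟨w, hw⟩ | ⟨u, hu⟩
      · exact ⟨true, w, hw⟩
      · exact ⟨false, u, hu⟩)
    (fun t => by cases t <;> assumption)

lemma fst_eq_snd_of_mono {X Y : Scheme.{u}} (f : X ⟶ Y) [Mono f] :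
    pullback.fst f f = pullback.snd f f := by
  rw [← cancel_mono f]; exact pullback.condition

theorem isPushout (h : IsZariskiSquare a b l r) : IsPushout a b l r := by
  haveI := h.openL
  haveI := h.openR
  have compat : ∀ (s : PushoutCocone a b) (x y : Bool),
      pullback.fst (h.cover.f x) (h.cover.f y) ≫
        (Bool.rec (motive := fun t => cond t W U ⟶ s.pt) s.inr s.inl x) =
      pullback.snd (h.cover.f x) (h.cover.f y) ≫
        (Bool.rec (motive := fun t => cond t W U ⟶ s.pt) s.inr s.inl y) := by
    intro s x y
    cases x <;> cases y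
    · change pullback.fst r r ≫ s.inr = pullback.snd r r ≫ s.inr
      rw [fst_eq_snd_of_mono]
    · change pullback.fst r l ≫ s.inr = pullback.snd r l ≫ s.inl
      rw [← cancel_epi h.pb.flip.isoPullback.hom, IsPullback.isoPullback_hom_fst_assoc,
        IsPullback.isoPullback_hom_snd_assoc]
      exact s.condition.symm
    · change pullback.fst l r ≫ s.inl = pullback.snd l r ≫ s.inr
      rw [← cancel_epi h.pb.isoPullback.hom, IsPullback.isoPullback_hom_fst_assoc,
        IsPullback.isoPullback_hom_snd_assoc]
      exact s.condition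
    · change pullback.fst l l ≫ s.inl = pullback.snd l l ≫ s.inl
      rw [fst_eq_snd_of_mono]
  refine ⟨⟨h.pb.w⟩, ⟨PushoutCocone.IsColimit.mk _
    (fun s => h.cover.glueMorphisms
      (fun t => Bool.rec (motive := fun t => cond t W U ⟶ s.pt) s.inr s.inl t) (compat s))
    (fun s => ?_) (fun s => ?_) (fun s m h1 h2 => ?_)⟩⟩
  · exact h.cover.ι_glueMorphisms _ (compat s) true
  · exact h.cover.ι_glueMorphisms _ (compat s) false
  · refine h.cover.hom_ext _ _ (fun t => ?_)
    rw [Scheme.Cover.ι_glueMorphisms]
    cases t
    · exact h2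
    · exact h1

end IsZariskiSquare

end Groth.Agent.H5.Glue
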