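import Mathlib
import Groth.Agent.Lib.Helper5.PullbackRange
import Groth.Agent.Lib.Helper5.Lim.ZS1
set_option autoImplicit false
universe u
open CategoryTheory CategoryTheory.Limits AlgebraicGeometry

namespace Groth.Agent.H5.Glue

variable {O W U P : Scheme.{u}}

namespace IsZariskiSquare

variable {a : O ⟶ W} {b : O ⟶ U} {l : W ⟶ P} {r : U ⟶ P}

/-- Base change of a Zariski square (the cube lemma). -/
theorem baseChange (h : IsZariskiSquare a b l r) {O' W' U' P' : Scheme.{u}}
    {a' : O' ⟶ W'} {b' : O' ⟶ U'} {l' : W' ⟶ P'} {r' : U' ⟶ P'}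
    {q : P' ⟶ P} {qW : W' ⟶ W} {qU : U' ⟶ U} {qO : O' ⟶ O}
    (hW : IsPullback qW l' l q) (hU : IsPullback qU r' r q) (hO : IsPullback qO a' a qW)
    (hb : b' ≫ qU = qO ≫ b) (hcomm : a' ≫ l' = b' ≫ r') : IsZariskiSquare a' b' l' r' := by
  haveI := h.openL
  haveI := h.openR
  refine ⟨?_, MorphismProperty.of_isPullback (P := @IsOpenImmersion) hW inferInstance,
    MorphismProperty.of_isPullback (P := @IsOpenImmersion) hU inferInstance, ?_⟩
  · have R1 : IsPullback a' (qO ≫ b) (qW ≫ l) r := hO.flip.paste_vert h.pb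
    rw [← hb, hW.w] at R1
    exact IsPullback.of_bot R1 hcomm hU.flip
  · intro x
    rcases h.covers (q x) with ⟨w, hw⟩ | ⟨u, hu⟩
    · obtain ⟨w', -, hw'⟩ := Groth.Agent.H5.IsPullback.exists_preimage hW w x hw
      exact Or.inl ⟨w', hw'⟩
    · obtain ⟨u', -, hu'⟩ := Groth.Agent.H5.IsPullback.exists_preimage hU u x hu
      exact Or.inr ⟨u', hu'⟩

/-- The Zariski square of two jointly surjective open immersions. -/
theorem of_openImmersions {T : Scheme.{u}} (w : W ⟶ T) (u : U ⟶ T) [IsOpenImmersion w]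
    [IsOpenImmersion u] (hcov : ∀ x : T, (∃ y : W, w y = x) ∨ (∃ y : U, u y = x)) :
    IsZariskiSquare (pullback.fst w u) (pullback.snd w u) w u :=
  ⟨IsPullback.of_hasPullback w u, inferInstance, inferInstance, hcov⟩

lemma compactSpace (h : IsZariskiSquare a b l r) [CompactSpace W] [CompactSpace U] :
    CompactSpace P := by
  constructor
  have : (Set.univ : Set P) = Set.range l.base ∪ Set.range r.base := by
    ext x
    simp only [Set.mem_univ, Set.mem_union, Set.mem_range, true_iff]
    exact h.covers x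
  rw [this]
  exact (isCompact_range l.continuous).union (isCompact_range r.continuous)

end IsZariskiSquare

end Groth.Agent.H5.Glue
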