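import Mathlib
import Groth.Agent.Lib.Helper5.PullbackRange
import Groth.Agent.Lib.Helper5.Lim.ZS2
set_option autoImplicit false
universe u
open CategoryTheory CategoryTheory.Limits AlgebraicGeometry

namespace Groth.Agent.H5.Glue

variable {O W U : Scheme.{u}} (a : O ⟶ W) (b : O ⟶ U) [IsOpenImmersion a] [IsOpenImmersion b]

instance span_isOpenImmersion {i j : WalkingSpan} (f : i ⟶ j) :
    IsOpenImmersion ((span a b).map f) := by
  change WidePushoutShape.Hom i j at f
  cases f with
  | id _ => exact inferInstanceAs (IsOpenImmersion ((span a b).map (𝟙 i)))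
  | init j =>
    cases j with
    | left => exact inferInstanceAs (IsOpenImmersion a)
    | right => exact inferInstanceAs (IsOpenImmersion b)

instance hasPushout_of_isOpenImmersion : HasPushout a b :=
  inferInstanceAs (HasColimit (span a b))

instance inl_isOpenImmersion : IsOpenImmersion (pushout.inl a b) :=
  inferInstanceAs (IsOpenImmersion (colimit.ι (span a b) WalkingSpan.left))

instance inr_isOpenImmersion : IsOpenImmersion (pushout.inr a b) :=
  inferInstanceAs (IsOpenImmersion (colimit.ι (span a b) WalkingSpan.right))

theorem isZariskiSquare_pushout :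
    IsZariskiSquare a b (pushout.inl a b) (pushout.inr a b) := by
  refine ⟨?_, inferInstance, inferInstance, ?_⟩
  · refine (IsOpenImmersion.isPullback b a (pushout.inr a b) (pushout.inl a b)
      pushout.condition ?_).flip
    ext x
    simp only [Scheme.Hom.opensRange, TopologicalSpace.Opens.map_coe, Set.mem_preimage,
      SetLike.mem_coe]
    constructor
    · rintro ⟨y, hy⟩
      have := (Scheme.IsLocallyDirected.ι_eq_ι_iff (F := span a b) (i := WalkingSpan.left)
        (j := WalkingSpan.right) (xi := x) (xj := y)).mp hy.symm
      obtain ⟨k, fi, fj, z, hz1, hz2⟩ := this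
      change WidePushoutShape.Hom k WalkingSpan.left at fi
      cases fi with
      | id _ =>
        change WidePushoutShape.Hom WalkingSpan.left WalkingSpan.right at fj
        cases fj
      | init j' => exact ⟨z, hz1⟩
    · rintro ⟨z, rfl⟩
      refine ⟨b z, ?_⟩
      rw [← Scheme.Hom.comp_apply, ← Scheme.Hom.comp_apply, pushout.condition]
  · intro x
    obtain ⟨i, xi, hxi⟩ := Scheme.IsLocallyDirected.ι_jointly_surjective (span a b) x
    cases i with
    | none =>
      refine Or.inl ⟨a xi, ?_⟩
      rw [← hxi, ← Scheme.Hom.comp_apply]
      congr 2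
      exact (colimit.w (span a b) (WalkingSpan.Hom.fst)).symm ▸ rfl
    | some j =>
      cases j with
      | left => exact Or.inl ⟨xi, hxi⟩
      | right => exact Or.inr ⟨xi, hxi⟩

end Groth.Agent.H5.Glue
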