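import Mathlib
import Groth.Agent.Lib.Helper5.PullbackRange
import Groth.Agent.Lib.Helper5.Lim.ZS3
set_option autoImplicit false
universe u
open CategoryTheory CategoryTheory.Limits AlgebraicGeometry TopologicalSpace

namespace Groth.Agent.H5.Glue

variable {O W U P : Scheme.{u}}

namespace IsZariskiSquare

variable {a : O ⟶ W} {b : O ⟶ U} {l : W ⟶ P} {r : U ⟶ P}

lemma range_inter (h : IsZariskiSquare a b l r) :
    Set.range l.base ∩ Set.range r.base = Set.range (a ≫ l).base := by
  ext x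
  constructor
  · rintro ⟨⟨w, rfl⟩, ⟨u, hu⟩⟩
    obtain ⟨o, ho, -⟩ := Groth.Agent.H5.IsPullback.exists_preimage h.pb w u hu.symm
    exact ⟨o, by rw [Scheme.Hom.comp_apply]; exact congrArg _ ho⟩
  · rintro ⟨o, rfl⟩
    refine ⟨⟨a o, (Scheme.Hom.comp_apply _ _ _).symm⟩, ⟨b o, ?_⟩⟩
    rw [← Scheme.Hom.comp_apply, ← h.pb.w]

lemma quasiSeparatedSpace (h : IsZariskiSquare a b l r) [QuasiSeparatedSpace W]
    [QuasiSeparatedSpace U] [CompactSpace O] : QuasiSeparatedSpace P := by
  haveI := h.openL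
  haveI := h.openR
  -- the two ranges are quasi-separated subsets
  have hQW : IsQuasiSeparated (Set.range l.base) := by
    have := (isQuasiSeparated_univ (α := W)).image_of_isEmbedding l.isOpenEmbedding.isEmbedding
    rwa [Set.image_univ] at this
  have hQU : IsQuasiSeparated (Set.range r.base) := by
    have := (isQuasiSeparated_univ (α := U)).image_of_isEmbedding r.isOpenEmbedding.isEmbedding
    rwa [Set.image_univ] at this
  have hRO : IsCompact (Set.range (a ≫ l).base) := isCompact_range (a ≫ l).continuous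
  have hROo : IsOpen (Set.range (a ≫ l).base) := by
    rw [← h.range_inter]
    exact l.isOpenEmbedding.isOpen_range.inter r.isOpenEmbedding.isOpen_range
  have hROW : Set.range (a ≫ l).base ⊆ Set.range l.base := by
    rw [← h.range_inter]; exact Set.inter_subset_left
  have hROU : Set.range (a ≫ l).base ⊆ Set.range r.base := by
    rw [← h.range_inter]; exact Set.inter_subset_right
  let ι := {V : P.Opens // IsCompact (V : Set P) ∧
    ((V : Set P) ⊆ Set.range l.base ∨ (V : Set P) ⊆ Set.range r.base)}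
  refine QuasiSeparatedSpace.of_isTopologicalBasis (ι := ι) (b := fun V => (V.1 : Set P)) ?_ ?_
  · refine isTopologicalBasis_of_isOpen_of_nhds ?_ ?_
    · rintro _ ⟨V, rfl⟩
      exact V.1.isOpen
    · intro x u hxu hu
      rcases h.covers x with ⟨w, hw⟩ | ⟨y, hy⟩
      · obtain ⟨_, ⟨V, hV, rfl⟩, hxV, hVu⟩ := (P.isBasis_affineOpens).exists_subset_of_mem_open
          (show x ∈ u ∩ Set.range l.base from ⟨hxu, ⟨w, hw⟩⟩)
          (hu.inter l.isOpenEmbedding.isOpen_range)
        exact ⟨V, ⟨⟨V, IsAffineOpen.isCompact hV, Or.inl (hVu.trans Set.inter_subset_right)⟩, rfl⟩,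
          hxV, hVu.trans Set.inter_subset_left⟩
      · obtain ⟨_, ⟨V, hV, rfl⟩, hxV, hVu⟩ := (P.isBasis_affineOpens).exists_subset_of_mem_open
          (show x ∈ u ∩ Set.range r.base from ⟨hxu, ⟨y, hy⟩⟩)
          (hu.inter r.isOpenEmbedding.isOpen_range)
        exact ⟨V, ⟨⟨V, IsAffineOpen.isCompact hV, Or.inr (hVu.trans Set.inter_subset_right)⟩, rfl⟩,
          hxV, hVu.trans Set.inter_subset_left⟩
  · rintro ⟨V₁, hc₁, h₁⟩ ⟨V₂, hc₂, h₂⟩
    change IsCompact ((V₁ : Set P) ∩ (V₂ : Set P))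
    -- mixed case
    have mixed : ∀ (A B : P.Opens), IsCompact (A : Set P) → IsCompact (B : Set P) →
        (A : Set P) ⊆ Set.range l.base → (B : Set P) ⊆ Set.range r.base →
        IsCompact ((A : Set P) ∩ (B : Set P)) := by
      intro A B hA hB hAl hBr
      have e : (A : Set P) ∩ (B : Set P) =
          ((A : Set P) ∩ Set.range (a ≫ l).base) ∩ ((B : Set P) ∩ Set.range (a ≫ l).base) := by
        ext x
        constructor
        · rintro ⟨hxA, hxB⟩
          have : x ∈ Set.range (a ≫ l).base := by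
            rw [← h.range_inter]; exact ⟨hAl hxA, hBr hxB⟩
          exact ⟨⟨hxA, this⟩, ⟨hxB, this⟩⟩
        · rintro ⟨⟨hxA, -⟩, ⟨hxB, -⟩⟩
          exact ⟨hxA, hxB⟩
      rw [e]
      have c1 : IsCompact ((A : Set P) ∩ Set.range (a ≫ l).base) :=
        hQW _ _ hAl A.isOpen hA hROW hROo hRO
      have c2 : IsCompact ((B : Set P) ∩ Set.range (a ≫ l).base) :=
        hQU _ _ hBr B.isOpen hB hROU hROo hRO
      exact hQW _ _ (Set.inter_subset_left.trans hAl) (A.isOpen.inter hROo) c1
        (Set.inter_subset_right.trans hROW) (B.isOpen.inter hROo) c2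
    rcases h₁ with h₁ | h₁ <;> rcases h₂ with h₂ | h₂
    · exact hQW _ _ h₁ V₁.isOpen hc₁ h₂ V₂.isOpen hc₂
    · exact mixed V₁ V₂ hc₁ hc₂ h₁ h₂
    · rw [Set.inter_comm]; exact mixed V₂ V₁ hc₂ hc₁ h₂ h₁
    · exact hQU _ _ h₁ V₁.isOpen hc₁ h₂ V₂.isOpen hc₂

end IsZariskiSquare

end Groth.Agent.H5.Glue
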