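import Mathlib
import Groth.Agent.Lib.Helper5.Lim.Model4
import Groth.Agent.Lib.Helper5.Lim.ZS4
set_option autoImplicit false
universe u
open CategoryTheory CategoryTheory.Limits AlgebraicGeometry MorphismProperty

namespace Groth.Agent.H5.Lim

open Groth.Agent.H5.Glue

variable {I : Type u} [SmallCategory I] {D : I ⥤ Scheme.{u}} {c : Cone D}

namespace Model

/-- Gluing two models along a common open model at a single stage. -/
theorem glue_of_hom {j : I} [QuasiSeparatedSpace (D.obj j)] [CompactSpace (D.obj j)]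
    {T : Scheme.{u}} (h : T ⟶ c.pt) {W U : Scheme.{u}} (w : W ⟶ T) (u : U ⟶ T)
    [IsOpenImmersion w] [IsOpenImmersion u]
    (hcov : ∀ x : T, (∃ y : W, w y = x) ∨ (∃ y : U, u y = x))
    (MZ : Model D c (pullback.fst w u ≫ w ≫ h) j) (MW : Model D c (w ≫ h) j)
    (MU : Model D c (u ≫ h) j)
    (FW : Hom MZ MW (pullback.fst w u)) (FU : Hom MZ MU (pullback.snd w u))
    (hFW : IsOpenImmersion FW.α) (hFU : IsOpenImmersion FU.α) : Nonempty (Model D c h j) := by
  have htW : pullback.fst w u ≫ (w ≫ h) = pullback.fst w u ≫ w ≫ h := rfl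
  have htU : pullback.snd w u ≫ (u ≫ h) = pullback.fst w u ≫ w ≫ h := by
    rw [pullback.condition_assoc]
  -- the glued scheme
  let l := pushout.inl FW.α FU.α
  let r := pushout.inr FW.α FU.α
  have ZS : IsZariskiSquare FW.α FU.α l r := isZariskiSquare_pushout FW.α FU.α
  let pP : pushout FW.α FU.α ⟶ D.obj j := pushout.desc MW.p MU.p (by rw [FW.w_p, FU.w_p])
  have hl : l ≫ pP = MW.p := pushout.inl_desc _ _ _
  have hr : r ≫ pP = MU.p := pushout.inr_desc _ _ _
  -- the source as a pushout
  have ZT : IsZariskiSquare (pullback.fst w u) (pullback.snd w u) w u :=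
    IsZariskiSquare.of_openImmersions w u hcov
  have PT := ZT.isPushout
  have hglue : pullback.fst w u ≫ MW.g ≫ l = pullback.snd w u ≫ MU.g ≫ r :=
    calc pullback.fst w u ≫ MW.g ≫ l = (pullback.fst w u ≫ MW.g) ≫ l :=
          (Category.assoc _ _ _).symm
      _ = (MZ.g ≫ FW.α) ≫ l := by rw [FW.w_g]
      _ = MZ.g ≫ FW.α ≫ l := Category.assoc _ _ _
      _ = MZ.g ≫ FU.α ≫ r := by rw [show FW.α ≫ l = FU.α ≫ r from pushout.condition]
      _ = (MZ.g ≫ FU.α) ≫ r := (Category.assoc _ _ _).symm
      _ = (pullback.snd w u ≫ MU.g) ≫ r := by rw [FU.w_g]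
      _ = _ := Category.assoc _ _ _
  let gT : T ⟶ pushout FW.α FU.α := PT.desc (MW.g ≫ l) (MU.g ≫ r) hglue
  have hgw : w ≫ gT = MW.g ≫ l := PT.inl_desc _ _ _
  have hgu : u ≫ gT = MU.g ≫ r := PT.inr_desc _ _ _
  have comm : gT ≫ pP = h ≫ c.π.app j := by
    apply PT.hom_ext
    · rw [reassoc_of% hgw, hl, MW.pb.w, Category.assoc]
    · rw [reassoc_of% hgu, hr, MU.pb.w, Category.assoc]
  -- compactness and quasi-separatedness
  haveI := MW.compactSpace_Y
  haveI := MU.compactSpace_Y
  haveI := MZ.compactSpace_Y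
  haveI := MW.quasiSeparatedSpace_Y
  haveI := MU.quasiSeparatedSpace_Y
  haveI : CompactSpace ↥(pushout FW.α FU.α) := ZS.compactSpace
  haveI : QuasiSeparatedSpace ↥(pushout FW.α FU.α) := ZS.quasiSeparatedSpace
  have hlfp : LocallyOfFinitePresentation pP := by
    refine IsZariskiLocalAtSource.of_openCover (P := @LocallyOfFinitePresentation) ZS.cover ?_
    intro t
    cases t
    · change LocallyOfFinitePresentation (r ≫ pP)
      rw [hr]; infer_instance
    · change LocallyOfFinitePresentation (l ≫ pP)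
      rw [hl]; infer_instance
  -- the pullback
  let θ : T ⟶ pullback pP (c.π.app j) := pullback.lift gT h comm
  have hθ1 : θ ≫ pullback.fst pP (c.π.app j) = gT := pullback.lift_fst _ _ _
  have hθ2 : θ ≫ pullback.snd pP (c.π.app j) = h := pullback.lift_snd _ _ _
  have hbot : IsPullback (pullback.fst pP (c.π.app j)) (pullback.snd pP (c.π.app j)) pP
      (c.π.app j) := IsPullback.of_hasPullback _ _
  have F_W : IsPullback MW.g (w ≫ θ) l (pullback.fst pP (c.π.app j)) := by
    refine IsPullback.of_bot ?_ (by rw [Category.assoc, hθ1, hgw]) hbot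
    rw [Category.assoc, hθ2, hl]
    exact MW.pb
  have F_U : IsPullback MU.g (u ≫ θ) r (pullback.fst pP (c.π.app j)) := by
    refine IsPullback.of_bot ?_ (by rw [Category.assoc, hθ1, hgu]) hbot
    rw [Category.assoc, hθ2, hr]
    exact MU.pb
  have ZS' : IsZariskiSquare (pullback.fst w u) (pullback.snd w u) (w ≫ θ) (u ≫ θ) :=
    ZS.baseChange F_W F_U (FW.isPullback htW) FU.w_g.symm (pullback.condition_assoc _)
  have PT' := ZS'.isPushout
  let e := PT.isoIsPushout _ _ PT'
  have he : e.hom = θ := by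
    apply PT.hom_ext
    · exact PT.inl_isoIsPushout_hom _ _ PT'
    · exact PT.inr_isoIsPushout_hom _ _ PT'
  haveI : IsIso θ := he ▸ inferInstance
  exact ⟨{ Y := pushout FW.α FU.α
           p := pP
           g := gT
           lfp := hlfp
           qc := inferInstance
           qs := inferInstance
           pb := IsPullback.of_iso_pullback ⟨comm⟩ (asIso θ) hθ1 hθ2 }⟩

end Model

end Groth.Agent.H5.Lim
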