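import Mathlib
import Groth.Agent.Lib.Helper5.Lim.Model5
set_option autoImplicit false
universe u
open CategoryTheory CategoryTheory.Limits AlgebraicGeometry MorphismProperty

namespace Groth.Agent.H5.Lim

open Groth.Agent.H5.Glue

variable {I : Type u} [SmallCategory I] {D : I ⥤ Scheme.{u}} {c : Cone D}

namespace Model

lemma Hom.bc_isOpenImmersion {T T' : Scheme.{u}} {h : T ⟶ c.pt} {h' : T' ⟶ c.pt} {i : I}
    {M : Model D c h i} {M' : Model D c h' i} {t : T ⟶ T'} (F : Hom M M' t) {j : I} (φ : j ⟶ i)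
    (ht : t ≫ h' = h) (hF : IsOpenImmersion F.α) : IsOpenImmersion (F.bc φ ht).α :=
  MorphismProperty.of_isPullback (P := @IsOpenImmersion) (F.isPullback_bc φ ht) hF

variable [IsCofiltered I] [∀ (i j : I) (f : i ⟶ j), IsAffineHom (D.map f)]

/-- Gluing models of two quasi-compact opens covering the source. -/
theorem exists_glue (hc : IsLimit c) [∀ i, QuasiSeparatedSpace (D.obj i)]
    [∀ i, CompactSpace (D.obj i)] {T : Scheme.{u}} (h : T ⟶ c.pt) [QuasiSeparatedSpace T]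
    {W U : Scheme.{u}} (w : W ⟶ T) (u : U ⟶ T) [IsOpenImmersion w] [IsOpenImmersion u]
    [CompactSpace W] [CompactSpace U]
    (hcov : ∀ x : T, (∃ y : W, w y = x) ∨ (∃ y : U, u y = x))
    {i₁ i₂ : I} (MW : Model D c (w ≫ h) i₁) (MU : Model D c (u ≫ h) i₂) :
    ∃ j : I, Nonempty (Model D c h j) := by
  -- common stage
  let i := IsCofiltered.min i₁ i₂
  let MW₁ := MW.bc (IsCofiltered.minToLeft i₁ i₂)
  let MU₁ := MU.bc (IsCofiltered.minToRight i₁ i₂)
  -- the intersection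
  haveI : QuasiCompact w := inferInstance
  haveI : CompactSpace ↥(pullback w u) :=
    QuasiCompact.compactSpace_of_compactSpace (pullback.snd w u)
  have htW : pullback.fst w u ≫ (w ≫ h) = pullback.fst w u ≫ w ≫ h := rfl
  have htU : pullback.snd w u ≫ (u ≫ h) = pullback.fst w u ≫ w ≫ h := by
    rw [pullback.condition_assoc]
  obtain ⟨j₁, φ, MZ, α, hα, hαp, hαg⟩ := MW₁.exists_restrict hc (pullback.fst w u)
  let FW : Hom MZ (MW₁.bc φ) (pullback.fst w u) := ⟨α, hαp, hαg⟩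
  obtain ⟨j₂, ψ, ⟨FU⟩⟩ := exists_hom hc MZ (MU₁.bc φ) (pullback.snd w u) htU
  obtain ⟨j₃, χ, hχ⟩ := FU.exists_isOpenImmersion hc htU
  have hFW₃ : IsOpenImmersion ((FW.bc ψ htW).bc χ htW).α :=
    Hom.bc_isOpenImmersion _ χ htW (Hom.bc_isOpenImmersion FW ψ htW hα)
  exact ⟨j₃, glue_of_hom h w u hcov ((MZ.bc ψ).bc χ) (((MW₁.bc φ).bc ψ).bc χ)
    (((MU₁.bc φ).bc ψ).bc χ) ((FW.bc ψ htW).bc χ htW) (FU.bc χ htU) hFW₃ hχ⟩

end Model

end Groth.Agent.H5.Lim
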