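import Mathlib
set_option autoImplicit false
universe u
open CategoryTheory CategoryTheory.Limits TensorProduct

namespace Groth.Agent.H5.Lim

/-- A finitely presented algebra descends to any ring containing finitely many
coefficients. -/
theorem exists_model_of_finitePresentation (A B : Type u) [CommRing A] [CommRing B] [Algebra A B]
    [Algebra.FinitePresentation A B] :
    ∃ s : Finset A, ∀ (A₀ : Type u) [CommRing A₀] [Algebra A₀ A],
      (↑s ⊆ Set.range (algebraMap A₀ A)) →
      ∃ (B₀ : Type u) (_ : CommRing B₀) (_ : Algebra A₀ B₀),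
        Algebra.FinitePresentation A₀ B₀ ∧ Nonempty (A ⊗[A₀] B₀ ≃ₐ[A] B) := by
  classical
  let P := Algebra.Presentation.ofFinitePresentation A B
  refine ⟨P.finite_coeffs.toFinset, fun A₀ _ _ hs => ?_⟩
  letI : Algebra A₀ B := ((algebraMap A B).comp (algebraMap A₀ A)).toAlgebra
  haveI : IsScalarTower A₀ A B := IsScalarTower.of_algebraMap_eq (fun _ => rfl)
  haveI : P.HasCoeffs A₀ := ⟨by simpa using hs⟩
  exact ⟨P.ModelOfHasCoeffs A₀, inferInstance, inferInstance, inferInstance,
    ⟨P.tensorModelOfHasCoeffsEquiv A₀⟩⟩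


/-- In a filtered colimit of rings, finitely many elements come from a common stage. -/
theorem exists_stage_finset {I : Type u} [SmallCategory I] [IsFiltered I]
    (D : I ⥤ CommRingCat.{u}) (c : Cocone D) (hc : IsColimit c) (s : Finset c.pt) :
    ∃ i : I, (↑s : Set c.pt) ⊆ Set.range (c.ι.app i).hom := by
  classical
  induction s using Finset.induction_on with
  | empty => exact ⟨IsFiltered.nonempty.some, by simp⟩
  | insert a s _ ih =>
    obtain ⟨i₁, h₁⟩ := ih
    obtain ⟨i₂, x, hx⟩ := Concrete.isColimit_exists_rep D hc a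
    refine ⟨IsFiltered.max i₁ i₂, ?_⟩
    intro y hy
    rw [Finset.coe_insert, Set.mem_insert_iff] at hy
    rcases hy with rfl | hy
    · refine ⟨(D.map (IsFiltered.rightToMax i₁ i₂)).hom x, ?_⟩
      rw [← hx, ← c.w (IsFiltered.rightToMax i₁ i₂)]
      rfl
    · obtain ⟨z, rfl⟩ := h₁ hy
      refine ⟨(D.map (IsFiltered.leftToMax i₁ i₂)).hom z, ?_⟩
      rw [← c.w (IsFiltered.leftToMax i₁ i₂)]
      rfl

end Groth.Agent.H5.Lim
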