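import Mathlib
import Groth.Agent.Lib.Helper5.Lim.Model6
import Groth.Agent.Lib.Helper5.Lim.RingModel
set_option autoImplicit false
universe u
open CategoryTheory CategoryTheory.Limits AlgebraicGeometry MorphismProperty TensorProduct

namespace Groth.Agent.H5.Lim

section Affine

variable {J : Type u} [SmallCategory J] [IsCofiltered J] (E : J ⥤ Scheme.{u})
  [∀ j, IsAffine (E.obj j)] (cE : Cone E) (hcE : IsLimit cE)

include hcE in
lemma exists_stage_finset_affine (s : Finset Γ(cE.pt, ⊤)) :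
    ∃ j : J, (↑s : Set Γ(cE.pt, ⊤)) ⊆ Set.range (cE.π.app j).appTop.hom := by
  classical
  induction s using Finset.induction_on with
  | empty => exact ⟨IsCofiltered.nonempty.some, by simp⟩
  | insert a s _ ih =>
    obtain ⟨j₁, h₁⟩ := ih
    obtain ⟨j₂, x, hx⟩ := exists_appTop_π_eq_of_isAffine_of_isLimit E cE hcE a
    refine ⟨IsCofiltered.min j₁ j₂, ?_⟩
    intro y hy
    rw [Finset.coe_insert, Set.mem_insert_iff] at hy
    rcases hy with rfl | hy
    · refine ⟨(E.map (IsCofiltered.minToRight j₁ j₂)).appTop.hom x, ?_⟩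
      rw [← hx, ← cE.w (IsCofiltered.minToRight j₁ j₂), Scheme.Hom.comp_appTop]
      rfl
    · obtain ⟨z, rfl⟩ := h₁ hy
      refine ⟨(E.map (IsCofiltered.minToLeft j₁ j₂)).appTop.hom z, ?_⟩
      rw [← cE.w (IsCofiltered.minToLeft j₁ j₂), Scheme.Hom.comp_appTop]
      rfl

include hcE in
/-- Existence of models in the affine case. -/
theorem exists_model_affine {T : Scheme.{u}} [IsAffine T] (h : T ⟶ cE.pt)
    [LocallyOfFinitePresentation h] : ∃ j : J, Nonempty (Model E cE h j) := by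
  haveI : IsAffine cE.pt := Scheme.isAffine_of_isLimit cE hcE
  have hfp : RingHom.FinitePresentation h.appTop.hom :=
    (HasRingHomProperty.iff_of_isAffine (P := @LocallyOfFinitePresentation)).mp inferInstance
  letI : Algebra Γ(cE.pt, ⊤) Γ(T, ⊤) := h.appTop.hom.toAlgebra
  haveI : Algebra.FinitePresentation Γ(cE.pt, ⊤) Γ(T, ⊤) := hfp
  obtain ⟨s, hs⟩ := exists_model_of_finitePresentation Γ(cE.pt, ⊤) Γ(T, ⊤)
  obtain ⟨j, hj⟩ := exists_stage_finset_affine E cE hcE s
  letI : Algebra Γ(E.obj j, ⊤) Γ(cE.pt, ⊤) := (cE.π.app j).appTop.hom.toAlgebra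
  obtain ⟨B₀, _, _, hB₀, ⟨e⟩⟩ := hs Γ(E.obj j, ⊤) hj
  -- the pushout square of rings
  let γ : Γ(E.obj j, ⊤) →+* B₀ := algebraMap Γ(E.obj j, ⊤) B₀
  let β : B₀ →+* Γ(T, ⊤) := (e.toAlgHom.toRingHom).comp
    (Algebra.TensorProduct.includeRight : B₀ →ₐ[Γ(E.obj j, ⊤)] Γ(cE.pt, ⊤) ⊗[Γ(E.obj j, ⊤)] B₀).toRingHom
  have hpo : IsPushout (cE.π.app j).appTop (CommRingCat.ofHom γ) h.appTop (CommRingCat.ofHom β) := by
    refine (CommRingCat.isPushout_tensorProduct Γ(E.obj j, ⊤) Γ(cE.pt, ⊤) B₀).of_iso (Iso.refl _)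
      (Iso.refl _) (Iso.refl _) e.toRingEquiv.toCommRingCatIso ?_ ?_ ?_ ?_
    · rfl
    · rfl
    · refine CommRingCat.hom_ext (RingHom.ext fun x => ?_)
      simp only [Iso.refl_hom, Category.id_comp]
      change e (x ⊗ₜ 1) = algebraMap Γ(cE.pt, ⊤) Γ(T, ⊤) x
      have := e.commutes x
      rwa [Algebra.TensorProduct.algebraMap_apply] at this
    · refine CommRingCat.hom_ext (RingHom.ext fun x => ?_)
      rfl
  have sq1 := (isPullback_SpecMap_of_isPushout _ _ _ _ hpo).flip
  have sq2 : IsPullback T.isoSpec.hom h (Spec.map h.appTop) cE.pt.isoSpec.hom :=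
    IsPullback.of_horiz_isIso ⟨Scheme.isoSpec_hom_naturality h⟩
  have sq3 := sq2.paste_horiz sq1
  have hγ : LocallyOfFinitePresentation (Spec.map (CommRingCat.ofHom γ)) :=
    (HasRingHomProperty.Spec_iff (P := @LocallyOfFinitePresentation)).mpr
      (RingHom.finitePresentation_algebraMap.mpr hB₀)
  refine ⟨j, ⟨{ Y := Spec (CommRingCat.of B₀)
                p := Spec.map (CommRingCat.ofHom γ) ≫ (E.obj j).isoSpec.inv
                g := T.isoSpec.hom ≫ Spec.map (CommRingCat.ofHom β)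
                lfp := inferInstance
                qc := inferInstance
                qs := inferInstance
                pb := ?_ }⟩⟩
  refine sq3.of_iso (Iso.refl _) (Iso.refl _) (Iso.refl _) (E.obj j).isoSpec.symm ?_ ?_ ?_ ?_
  · simp
  · simp
  · simp
  · simp only [Iso.symm_hom, Iso.refl_hom, Category.id_comp, Category.assoc]
    rw [Scheme.isoSpec_hom_naturality_assoc, Iso.hom_inv_id, Category.comp_id]

end Affine

end Groth.Agent.H5.Lim
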