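import Mathlib
import Groth.Agent.Lib.Helper5.Lim.Model7
set_option autoImplicit false
universe u
open CategoryTheory CategoryTheory.Limits AlgebraicGeometry MorphismProperty TensorProduct

namespace Groth.Agent.H5.Lim

variable {I : Type u} [SmallCategory I] [IsCofiltered I] (D : I ⥤ Scheme.{u}) (c : Cone D)
  (hc : IsLimit c) [∀ (i j : I) (f : i ⟶ j), IsAffineHom (D.map f)]

include hc in
/-- Existence of models for affine schemes mapping into the preimage of an affine open. -/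
theorem exists_model_of_isAffineOpen [∀ i, QuasiSeparatedSpace (D.obj i)] (i₀ : I)
    (V : (D.obj i₀).Opens) (hV : IsAffineOpen V) {T : Scheme.{u}} [IsAffine T] (h : T ⟶ c.pt)
    [LocallyOfFinitePresentation h]
    (hle : Set.range h.base ⊆ ((c.π.app i₀ ⁻¹ᵁ V : c.pt.Opens) : Set c.pt)) :
    ∃ j : I, Nonempty (Model D c h j) := by
  haveI : ∀ k, IsAffine ((opensDiagram D i₀ V).obj k) := fun k => hV.preimage (D.map k.hom)
  let h' : T ⟶ ↑(c.π.app i₀ ⁻¹ᵁ V) :=
    IsOpenImmersion.lift (c.π.app i₀ ⁻¹ᵁ V).ι h (by rw [Scheme.Opens.range_ι]; exact hle)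
  have hh' : h' ≫ (c.π.app i₀ ⁻¹ᵁ V).ι = h := IsOpenImmersion.lift_fac _ _ _
  haveI : LocallyOfFinitePresentation h' :=
    MorphismProperty.of_postcomp (W := @LocallyOfFinitePresentation) (W' := @IsOpenImmersion) h'
      (c.π.app i₀ ⁻¹ᵁ V).ι inferInstance (by rw [hh']; infer_instance)
  let h'' : T ⟶ (opensCone D c i₀ V).pt := h'
  haveI : LocallyOfFinitePresentation h'' := ‹LocallyOfFinitePresentation h'›
  obtain ⟨k, ⟨M⟩⟩ := exists_model_affine (opensDiagram D i₀ V) (opensCone D c i₀ V)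
    (isLimitOpensCone D c hc i₀ V) h''
  have hle' : c.π.app i₀ ⁻¹ᵁ V ≤ c.π.app k.left ⁻¹ᵁ (D.map k.hom ⁻¹ᵁ V) := by
    rw [← Scheme.Hom.comp_preimage, c.w]
  have hbot : IsPullback ((c.π.app k.left).resLE (D.map k.hom ⁻¹ᵁ V) (c.π.app i₀ ⁻¹ᵁ V) hle')
      (c.π.app i₀ ⁻¹ᵁ V).ι (D.map k.hom ⁻¹ᵁ V).ι (c.π.app k.left) :=
    IsOpenImmersion.isPullback _ _ _ _ (by simp) (by simp [← Scheme.Hom.comp_preimage])
  let p' : M.Y ⟶ ↑(D.map k.hom ⁻¹ᵁ V) := M.p
  haveI : LocallyOfFinitePresentation p' := M.lfp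
  haveI : QuasiCompact p' := M.qc
  haveI : QuasiSeparated p' := M.qs
  haveI : IsAffine (D.map k.hom ⁻¹ᵁ V).toScheme := hV.preimage (D.map k.hom)
  haveI : CompactSpace M.Y := QuasiCompact.compactSpace_of_compactSpace p'
  haveI : QuasiSeparatedSpace M.Y := quasiSeparatedSpace_of_quasiSeparated p'
  have hpb : IsPullback M.g (h' ≫ (c.π.app i₀ ⁻¹ᵁ V).ι) (p' ≫ (D.map k.hom ⁻¹ᵁ V).ι)
      (c.π.app k.left) := IsPullback.paste_vert M.pb hbot
  rw [hh'] at hpb
  exact ⟨k.left, ⟨{ Y := M.Y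
                    p := p' ≫ (D.map k.hom ⁻¹ᵁ V).ι
                    g := M.g
                    lfp := inferInstance
                    qc := inferInstance
                    qs := inferInstance
                    pb := hpb }⟩⟩

end Groth.Agent.H5.Lim
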