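import Mathlib
import Groth.Agent.Lib.Helper5.Lim.Model8
set_option autoImplicit false
universe u
open CategoryTheory CategoryTheory.Limits AlgebraicGeometry MorphismProperty TensorProduct

namespace Groth.Agent.H5.Lim

variable {I : Type u} [SmallCategory I] [IsCofiltered I] (D : I ⥤ Scheme.{u}) (c : Cone D)
  (hc : IsLimit c) [∀ (i j : I) (f : i ⟶ j), IsAffineHom (D.map f)]

/-- An open of `X` is good if it is affine and maps into the preimage of an affine open of some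
stage. -/
def IsGoodOpen {X : Scheme.{u}} (f : X ⟶ c.pt) (U : X.Opens) : Prop :=
  IsAffineOpen U ∧ ∃ (i : I) (V : (D.obj i).Opens), IsAffineOpen V ∧
    U ≤ f ⁻¹ᵁ (c.π.app i ⁻¹ᵁ V)

include hc in
lemma exists_isGoodOpen {X : Scheme.{u}} (f : X ⟶ c.pt) (x : X) :
    ∃ U : X.Opens, IsGoodOpen D c f U ∧ x ∈ U := by
  obtain ⟨_, ⟨i, V, hV, rfl⟩, hxV, -⟩ :=
    TopologicalSpace.Opens.isBasis_iff_nbhd.mp (isBasis_preimage_isAffineOpen D c hc)
      (show f x ∈ (⊤ : c.pt.Opens) from trivial)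
  obtain ⟨_, ⟨U, hU, rfl⟩, hxU, hUle⟩ := (X.isBasis_affineOpens).exists_subset_of_mem_open
    (show x ∈ ((f ⁻¹ᵁ (c.π.app i ⁻¹ᵁ V) : X.Opens) : Set X) from hxV)
    (f ⁻¹ᵁ (c.π.app i ⁻¹ᵁ V)).isOpen
  exact ⟨U, ⟨hU, i, V, hV, hUle⟩, hxU⟩

include hc in
lemma exists_model_of_isGoodOpen [∀ i, QuasiSeparatedSpace (D.obj i)] {X : Scheme.{u}}
    (f : X ⟶ c.pt) [LocallyOfFinitePresentation f] (U : X.Opens) (hU : IsGoodOpen D c f U) :
    ∃ j : I, Nonempty (Model D c (U.ι ≫ f) j) := by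
  obtain ⟨hUa, i, V, hV, hle⟩ := hU
  haveI : IsAffine U.toScheme := hUa
  refine exists_model_of_isAffineOpen D c hc i V hV (U.ι ≫ f) ?_
  rintro _ ⟨y, rfl⟩
  exact hle y.2

end Groth.Agent.H5.Lim
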