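import Mathlib
import Groth.Agent.Lib.Helper5.Lim.Model9
set_option autoImplicit false
universe u
open CategoryTheory CategoryTheory.Limits AlgebraicGeometry MorphismProperty TensorProduct

namespace Groth.Agent.H5.Lim

variable {I : Type u} [SmallCategory I] [IsCofiltered I] (D : I ⥤ Scheme.{u}) (c : Cone D)
  (hc : IsLimit c) [∀ (i j : I) (f : i ⟶ j), IsAffineHom (D.map f)]

include hc in
/-- Models for finite unions of good opens. -/
theorem exists_model_finset_sup [∀ i, QuasiSeparatedSpace (D.obj i)]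
    [∀ i, CompactSpace (D.obj i)] {X : Scheme.{u}} [QuasiSeparatedSpace X]
    (f : X ⟶ c.pt) [LocallyOfFinitePresentation f] (s : Finset X.Opens)
    (hs : ∀ U ∈ s, IsGoodOpen D c f U) :
    IsCompact ((s.sup id : X.Opens) : Set X) ∧
      ∃ j : I, Nonempty (Model D c ((s.sup id).ι ≫ f) j) := by
  classical
  induction s using Finset.induction_on with
  | empty =>
    refine ⟨by simp, ?_⟩
    rw [Finset.sup_empty]
    obtain ⟨i⟩ := IsCofiltered.nonempty (C := I)
    haveI : IsEmpty ↥(⊥ : X.Opens).toScheme := inferInstanceAs (IsEmpty (∅ : Set X))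
    refine exists_model_of_isAffineOpen D c hc i ⊥ (isAffineOpen_bot _) ((⊥ : X.Opens).ι ≫ f) ?_
    rintro _ ⟨y, rfl⟩
    exact isEmptyElim y
  | insert U s hU ih =>
    obtain ⟨hcomp, i₂, ⟨MU⟩⟩ := ih (fun V hV => hs V (Finset.mem_insert_of_mem hV))
    have hgood := hs U (Finset.mem_insert_self U s)
    obtain ⟨i₁, ⟨MW⟩⟩ := exists_model_of_isGoodOpen D c hc f U hgood
    rw [Finset.sup_insert, id]
    refine ⟨?_, ?_⟩
    · rw [TopologicalSpace.Opens.coe_sup]
      exact hgood.1.isCompact.union hcomp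
    · set S' := s.sup id with hS'
      haveI : CompactSpace ↥U.toScheme := isCompact_iff_compactSpace.mp hgood.1.isCompact
      haveI : CompactSpace ↥S'.toScheme := isCompact_iff_compactSpace.mp hcomp
      haveI : QuasiSeparatedSpace ↥(U ⊔ S').toScheme :=
        QuasiSeparatedSpace.of_isOpenEmbedding (U ⊔ S').ι.isOpenEmbedding
      let w : U.toScheme ⟶ (U ⊔ S').toScheme := X.homOfLE le_sup_left
      let u : S'.toScheme ⟶ (U ⊔ S').toScheme := X.homOfLE le_sup_right
      have hw : w ≫ (U ⊔ S').ι ≫ f = U.ι ≫ f := by rw [Scheme.homOfLE_ι_assoc]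
      have hu : u ≫ (U ⊔ S').ι ≫ f = S'.ι ≫ f := by rw [Scheme.homOfLE_ι_assoc]
      refine Model.exists_glue hc ((U ⊔ S').ι ≫ f) w u ?_ (MW.ofEq hw.symm) (MU.ofEq hu.symm)
      rintro ⟨x, hx⟩
      rcases hx with hx | hx
      · refine Or.inl ⟨⟨x, hx⟩, ?_⟩
        apply Subtype.ext
        change ((X.homOfLE le_sup_left : U.toScheme ⟶ (U ⊔ S').toScheme) ≫ (U ⊔ S').ι) ⟨x, hx⟩ = x
        rw [Scheme.homOfLE_ι]
        rfl
      · refine Or.inr ⟨⟨x, hx⟩, ?_⟩
        apply Subtype.ext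
        change ((X.homOfLE le_sup_right : S'.toScheme ⟶ (U ⊔ S').toScheme) ≫ (U ⊔ S').ι) ⟨x, hx⟩ = x
        rw [Scheme.homOfLE_ι]
        rfl

end Groth.Agent.H5.Lim
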