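import Mathlib
import Groth.Agent.Lib.Helper5.Lim.Model10
set_option autoImplicit false
universe u
open CategoryTheory CategoryTheory.Limits AlgebraicGeometry MorphismProperty TensorProduct

namespace Groth.Agent.H5.Lim

variable {I : Type u} [SmallCategory I] [IsCofiltered I] (D : I ⥤ Scheme.{u}) (c : Cone D)
  (hc : IsLimit c) [∀ (i j : I) (f : i ⟶ j), IsAffineHom (D.map f)]

include hc in
lemma quasiSeparatedSpace_of_isLimit [∀ i, QuasiSeparatedSpace (D.obj i)] :
    QuasiSeparatedSpace c.pt := by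
  obtain ⟨i⟩ := IsCofiltered.nonempty (C := I)
  haveI := isAffineHom_π_app D c hc i
  exact quasiSeparatedSpace_of_quasiSeparated (c.π.app i)

include hc in
/-- **Existence of models of finite presentation** (EGA IV 8.8.2). -/
theorem exists_model [∀ i, QuasiSeparatedSpace (D.obj i)]
    [∀ i, CompactSpace (D.obj i)] {X : Scheme.{u}} (f : X ⟶ c.pt)
    [LocallyOfFinitePresentation f] [QuasiCompact f] [QuasiSeparated f] :
    ∃ j : I, Nonempty (Model D c f j) := by
  classical
  haveI : CompactSpace c.pt := Scheme.compactSpace_of_isLimit D c hc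
  haveI : QuasiSeparatedSpace c.pt := quasiSeparatedSpace_of_isLimit D c hc
  haveI : CompactSpace X := QuasiCompact.compactSpace_of_compactSpace f
  haveI : QuasiSeparatedSpace X := quasiSeparatedSpace_of_quasiSeparated f
  -- a finite cover by good opens
  choose U hU hxU using exists_isGoodOpen D c hc f
  obtain ⟨t, ht⟩ := isCompact_univ.elim_finite_subcover (fun x : X => ((U x : X.Opens) : Set X))
    (fun x => (U x).isOpen) (fun x _ => Set.mem_iUnion.mpr ⟨x, hxU x⟩)
  obtain ⟨-, j, ⟨M⟩⟩ := exists_model_finset_sup D c hc f (t.image U) (by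
    intro V hV
    obtain ⟨x, -, rfl⟩ := Finset.mem_image.mp hV
    exact hU x)
  have htop : (t.image U).sup id = ⊤ := by
    rw [eq_top_iff]
    intro x _
    obtain ⟨y, hy⟩ := Set.mem_iUnion.mp (ht (Set.mem_univ x))
    obtain ⟨hyt, hxy⟩ := Set.mem_iUnion.mp hy
    exact (Finset.le_sup (f := id) (Finset.mem_image_of_mem U hyt)) hxy
  rw [htop] at M
  have e : X.topIso.symm.hom ≫ (⊤ : X.Opens).ι ≫ f = f := by
    change X.topIso.inv ≫ _ = _
    rw [Scheme.toIso_inv_ι_assoc]
  exact ⟨j, ⟨(M.ofIso X.topIso.symm).ofEq e⟩⟩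

end Groth.Agent.H5.Lim
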