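import Groth.Agent.Lib.Helper5.Lim.Descend
import Mathlib

set_option autoImplicit false
universe u
open CategoryTheory CategoryTheory.Limits AlgebraicGeometry MorphismProperty

namespace Groth.Agent.H5.Lim

variable {I : Type u} [SmallCategory I] (D : I ⥤ Scheme.{u}) (c : Cone D)

/-- The base change to the limit is a base change of the base change to a stage. -/
lemma exists_isPullback_of_stage {i₀ : I} {X₀ Y₀ : Scheme.{u}} {f₀ : X₀ ⟶ Y₀} {g₀ : Y₀ ⟶ D.obj i₀}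
    {X Y : Scheme.{u}} {f : X ⟶ Y} {g : Y ⟶ c.pt} {qY : Y ⟶ Y₀} {qX : X ⟶ X₀}
    (hY : IsPullback qY g g₀ (c.π.app i₀)) (hX : IsPullback qX f f₀ qY)
    {j : I} {φ : j ⟶ i₀} {Xj Yj : Scheme.{u}} {fj : Xj ⟶ Yj} {gj : Yj ⟶ D.obj j} {pY : Yj ⟶ Y₀}
    {pX : Xj ⟶ X₀} (hYj : IsPullback pY gj g₀ (D.map φ)) (hXj : IsPullback pX fj f₀ pY) :
    ∃ (s : X ⟶ Xj) (r : Y ⟶ Yj), IsPullback s f fj r ∧ r ≫ pY = qY ∧ r ≫ gj = g ≫ c.π.app j ∧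
      s ≫ pX = qX := by
  have e1 : qY ≫ g₀ = (g ≫ c.π.app j) ≫ D.map φ := by
    rw [Category.assoc, c.w, hY.w]
  let r : Y ⟶ Yj := hYj.lift qY (g ≫ c.π.app j) e1
  have hr1 : r ≫ pY = qY := hYj.lift_fst _ _ _
  have hr2 : r ≫ gj = g ≫ c.π.app j := hYj.lift_snd _ _ _
  have e2 : qX ≫ f₀ = (f ≫ r) ≫ pY := by
    rw [Category.assoc, hr1, hX.w]
  let s : X ⟶ Xj := hXj.lift qX (f ≫ r) e2
  have hs1 : s ≫ pX = qX := hXj.lift_fst _ _ _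
  have hs2 : s ≫ fj = f ≫ r := hXj.lift_snd _ _ _
  refine ⟨s, r, ?_, hr1, hr2, hs1⟩
  have hbig : IsPullback (s ≫ pX) f f₀ (r ≫ pY) := by
    rw [hs1, hr1]; exact hX
  exact IsPullback.of_right hbig hs2 hXj

/-- Converse of descent: a property stable under base change that holds at a stage holds at
the limit. -/
lemma descend_converse {P : MorphismProperty Scheme.{u}} [P.IsStableUnderBaseChange]
    {i₀ : I} {X₀ Y₀ : Scheme.{u}} {f₀ : X₀ ⟶ Y₀} {g₀ : Y₀ ⟶ D.obj i₀}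
    {X Y : Scheme.{u}} {f : X ⟶ Y} {g : Y ⟶ c.pt} {qY : Y ⟶ Y₀} {qX : X ⟶ X₀}
    (hY : IsPullback qY g g₀ (c.π.app i₀)) (hX : IsPullback qX f f₀ qY)
    (h : ∃ (j : I) (φ : j ⟶ i₀) (Xj Yj : Scheme.{u}) (fj : Xj ⟶ Yj) (gj : Yj ⟶ D.obj j)
      (pY : Yj ⟶ Y₀) (pX : Xj ⟶ X₀), IsPullback pY gj g₀ (D.map φ) ∧ IsPullback pX fj f₀ pY ∧
      P fj) : P f := by
  obtain ⟨j, φ, Xj, Yj, fj, gj, pY, pX, hYj, hXj, hP⟩ := h
  obtain ⟨s, r, hsq, -, -, -⟩ := exists_isPullback_of_stage D c hY hX hYj hXj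
  exact P.of_isPullback hsq hP

end Groth.Agent.H5.Lim
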