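import Groth.Agent.Lib.Helper5.Lim.DescendSurjective
import Mathlib

set_option autoImplicit false
universe u
open CategoryTheory CategoryTheory.Limits AlgebraicGeometry Topology

namespace Groth.Agent.H5.Lim

variable {I : Type u} [SmallCategory I] [IsCofiltered I] (D : I ⥤ Scheme.{u}) (c : Cone D)
  (hc : IsLimit c)

omit [IsCofiltered I] in
lemma preimage_π_app_map {i j : I} (φ : j ⟶ i) (s : Set (D.obj i)) :
    (c.π.app j) ⁻¹' ((D.map φ) ⁻¹' s) = (c.π.app i) ⁻¹' s := by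
  rw [← Set.preimage_comp, ← TopCat.coe_comp, ← Scheme.Hom.comp_base, c.w]

include hc in
lemma compactSpace_pt_of_compactSpace [∀ (i j : I) (f : i ⟶ j), IsAffineHom (D.map f)] (i₀ : I)
    [CompactSpace (D.obj i₀)] : CompactSpace c.pt := by
  have := isAffineHom_π_app D c hc i₀
  exact QuasiCompact.compactSpace_of_compactSpace (c.π.app i₀)

omit [IsCofiltered I] in
lemma quasiSeparatedSpace_of_over [∀ (i j : I) (f : i ⟶ j), IsAffineHom (D.map f)] {i₀ : I}
    [QuasiSeparatedSpace (D.obj i₀)] (k : Over i₀) : QuasiSeparatedSpace (D.obj k.left) :=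
  quasiSeparatedSpace_of_quasiSeparated (D.map k.hom)

omit [IsCofiltered I] in
lemma compactSpace_of_over [∀ (i j : I) (f : i ⟶ j), IsAffineHom (D.map f)] {i₀ : I}
    [CompactSpace (D.obj i₀)] (k : Over i₀) : CompactSpace (D.obj k.left) :=
  QuasiCompact.compactSpace_of_compactSpace (D.map k.hom)

include hc in
/-- Constructible subsets of the limit come from a finite stage (EGA IV 8.3.11). -/
theorem exists_isConstructible_preimage_eq [∀ (i j : I) (f : i ⟶ j), IsAffineHom (D.map f)]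
    (i₀ : I) [CompactSpace (D.obj i₀)] [QuasiSeparatedSpace (D.obj i₀)] (Z : Set c.pt)
    (hZ : IsConstructible Z) :
    ∃ (k : Over i₀) (Zk : Set (D.obj k.left)), IsConstructible Zk ∧
      (c.π.app k.left) ⁻¹' Zk = Z := by
  have hcpt : CompactSpace c.pt := compactSpace_pt_of_compactSpace D c hc i₀
  induction hZ using IsConstructible.empty_union_induction with
  | open_retrocompact U hUopen hUcomp =>
    obtain ⟨i, V, hV, hVU⟩ := exists_preimage_eq D c hc ⟨U, hUopen⟩ hUcomp.isCompact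
    let k : Over i₀ := Over.mk (IsCofiltered.minToLeft i₀ i)
    let ψ : k.left ⟶ i := IsCofiltered.minToRight i₀ i
    have : QuasiSeparatedSpace (D.obj k.left) := quasiSeparatedSpace_of_over D k
    refine ⟨k, (D.map ψ) ⁻¹' (V : Set (D.obj i)), ?_, ?_⟩
    · exact (QuasiCompact.isCompact_preimage (f := D.map ψ) _ V.2 hV).isConstructible
        (V.2.preimage (D.map ψ).continuous)
    · rw [preimage_π_app_map]
      exact congrArg (fun W : c.pt.Opens => (W : Set c.pt)) hVU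
  | union s hs t ht hs' ht' =>
    obtain ⟨k₁, Z₁, hZ₁, rfl⟩ := hs'
    obtain ⟨k₂, Z₂, hZ₂, rfl⟩ := ht'
    let k : Over i₀ := IsCofiltered.min k₁ k₂
    refine ⟨k, (D.map (IsCofiltered.minToLeft k₁ k₂).left) ⁻¹' Z₁ ∪
      (D.map (IsCofiltered.minToRight k₁ k₂).left) ⁻¹' Z₂, ?_, ?_⟩
    · exact ((D.map _).isConstructible_preimage hZ₁).union ((D.map _).isConstructible_preimage hZ₂)
    · rw [Set.preimage_union, preimage_π_app_map, preimage_π_app_map]
  | compl s hs hs' =>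
    obtain ⟨k, Zk, hZk, rfl⟩ := hs'
    exact ⟨k, Zkᶜ, hZk.compl, Set.preimage_compl⟩

end Groth.Agent.H5.Lim

namespace Groth.Agent.H5.Lim

/-- Constructible subsets of a quasi-compact quasi-separated scheme are quasi-compact. -/
lemma isCompact_of_isConstructible {X : Scheme.{u}} [CompactSpace X] [QuasiSeparatedSpace X]
    {s : Set X} (hs : IsConstructible s) : IsCompact s := by
  have : Nonempty X.affineOpens := ⟨⟨⊥, isAffineOpen_bot _⟩⟩
  induction s, hs using IsConstructible.induction_of_isTopologicalBasis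
    (fun U : X.affineOpens => (U.1 : Set X)) with
  | basis =>
    have := X.isBasis_affineOpens
    unfold TopologicalSpace.Opens.IsBasis at this
    convert this using 1
    ext t
    constructor
    · rintro ⟨U, rfl⟩; exact ⟨U.1, U.2, rfl⟩
    · rintro ⟨U, hU, rfl⟩; exact ⟨⟨U, hU⟩, rfl⟩
  | isCompact_basis U => exact U.2.isCompact
  | sdiff U s hs =>
    rw [Set.diff_eq]
    refine U.2.isCompact.inter_right ?_
    rw [isClosed_compl_iff]
    exact isOpen_biUnion fun j _ => j.1.2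
  | union s hs t ht hs' ht' => exact hs'.union ht'

/-- A locally closed constructible subset of a qcqs scheme is the difference of two quasi-compact
opens. -/
lemma exists_opens_diff_of_isLocallyClosed {X : Scheme.{u}} [CompactSpace X]
    [QuasiSeparatedSpace X] {Z : Set X} (hZ : IsConstructible Z) (hZ' : IsLocallyClosed Z) :
    ∃ U V : X.Opens, IsCompact (U : Set X) ∧ IsCompact (V : Set X) ∧
      Z = (U : Set X) \ (V : Set X) := by
  obtain ⟨U₀, C, hU₀, hC, rfl⟩ := hZ'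
  have hZc : IsCompact (U₀ ∩ C) := isCompact_of_isConstructible hZ
  -- cover by affine opens inside `U₀`
  have hcov : U₀ ∩ C ⊆ ⋃ W : {W : X.affineOpens // (W.1 : Set X) ⊆ U₀}, (W.1.1 : Set X) := by
    intro x hx
    obtain ⟨_, ⟨W, hW : IsAffineOpen W, rfl⟩, hxW, hWU⟩ :=
      X.isBasis_affineOpens.exists_subset_of_mem_open hx.1 hU₀
    exact Set.mem_iUnion.mpr ⟨⟨⟨W, hW⟩, hWU⟩, hxW⟩
  obtain ⟨t, ht⟩ := hZc.elim_finite_subcover _ (fun W => W.1.1.2) hcov
  let U : X.Opens := ⨆ W ∈ t, W.1.1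
  have hUc : IsCompact (U : Set X) := by
    have : (U : Set X) = ⋃ W ∈ t, (W.1.1 : Set X) := by
      simp [U]
    rw [this]
    exact t.finite_toSet.isCompact_biUnion fun W _ => W.1.2.isCompact
  have hUU₀ : (U : Set X) ⊆ U₀ := by
    intro x hx
    simp only [U, TopologicalSpace.Opens.coe_iSup, Set.mem_iUnion] at hx
    obtain ⟨W, -, hxW⟩ := hx
    exact W.2 hxW
  have hZU : U₀ ∩ C ⊆ U := by
    intro x hx
    have := ht hx
    simp only [Set.mem_iUnion] at this
    obtain ⟨W, hWt, hxW⟩ := this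
    simp only [U, TopologicalSpace.Opens.coe_iSup, Set.mem_iUnion]
    exact ⟨W, hWt, hxW⟩
  let V : X.Opens := ⟨(U : Set X) ∩ Cᶜ, U.2.inter hC.isOpen_compl⟩
  have hVeq : (V : Set X) = (U : Set X) \ (U₀ ∩ C) := by
    ext x
    simp only [V, TopologicalSpace.Opens.coe_mk, Set.mem_inter_iff, Set.mem_compl_iff,
      Set.mem_diff, not_and]
    exact ⟨fun h => ⟨h.1, fun _ => h.2⟩, fun h => ⟨h.1, h.2 (hUU₀ h.1)⟩⟩
  have hVc : IsCompact (V : Set X) := by
    rw [hVeq]
    exact isCompact_of_isConstructible ((hUc.isConstructible U.2).sdiff hZ)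
  refine ⟨U, V, hUc, hVc, ?_⟩
  rw [hVeq]
  ext x
  simp only [Set.mem_diff, not_and, not_not]
  constructor
  · intro hx
    exact ⟨hZU hx, fun _ => hx⟩
  · rintro ⟨h1, h2⟩
    exact h2 h1

end Groth.Agent.H5.Lim

namespace Groth.Agent.H5.Lim

variable {I : Type u} [SmallCategory I] [IsCofiltered I] (D : I ⥤ Scheme.{u}) (c : Cone D)
  (hc : IsLimit c)

include hc in
/-- Quasi-compact opens of the limit come from quasi-compact opens of a stage over `i₀`. -/
lemma exists_over_preimage_eq [∀ (i j : I) (f : i ⟶ j), IsAffineHom (D.map f)] (i₀ : I)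
    (U : c.pt.Opens) (hU : IsCompact (U : Set c.pt)) :
    ∃ (k : Over i₀) (V : (D.obj k.left).Opens), IsCompact (V : Set (D.obj k.left)) ∧
      c.π.app k.left ⁻¹ᵁ V = U := by
  obtain ⟨i, V, hV, hVU⟩ := exists_preimage_eq D c hc U hU
  let k : Over i₀ := Over.mk (IsCofiltered.minToLeft i₀ i)
  let ψ : k.left ⟶ i := IsCofiltered.minToRight i₀ i
  refine ⟨k, D.map ψ ⁻¹ᵁ V, QuasiCompact.isCompact_preimage (f := D.map ψ) _ V.2 hV, ?_⟩
  rw [← Scheme.Hom.comp_preimage, c.w, hVU]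

include hc in
lemma quasiSeparatedSpace_pt_of_quasiSeparatedSpace
    [∀ (i j : I) (f : i ⟶ j), IsAffineHom (D.map f)] (i₀ : I)
    [QuasiSeparatedSpace (D.obj i₀)] : QuasiSeparatedSpace c.pt := by
  have := isAffineHom_π_app D c hc i₀
  exact quasiSeparatedSpace_of_quasiSeparated (c.π.app i₀)

include hc in
/-- Locally closed constructible subsets of the limit come from a finite stage
(EGA IV 8.3.11). -/
theorem exists_isLocallyClosed_isConstructible_preimage_eq
    [∀ (i j : I) (f : i ⟶ j), IsAffineHom (D.map f)]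
    (i₀ : I) [CompactSpace (D.obj i₀)] [QuasiSeparatedSpace (D.obj i₀)] (Z : Set c.pt)
    (hZ : IsConstructible Z) (hZ' : IsLocallyClosed Z) :
    ∃ (k : Over i₀) (Zk : Set (D.obj k.left)), IsConstructible Zk ∧ IsLocallyClosed Zk ∧
      (c.π.app k.left) ⁻¹' Zk = Z := by
  have hcpt : CompactSpace c.pt := compactSpace_pt_of_compactSpace D c hc i₀
  have hqs : QuasiSeparatedSpace c.pt := quasiSeparatedSpace_pt_of_quasiSeparatedSpace D c hc i₀
  obtain ⟨U, V, hU, hV, rfl⟩ := exists_opens_diff_of_isLocallyClosed hZ hZ'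
  obtain ⟨k₁, U₁, hU₁, hU₁U⟩ := exists_over_preimage_eq D c hc i₀ U hU
  obtain ⟨k₂, V₂, hV₂, hV₂V⟩ := exists_over_preimage_eq D c hc i₀ V hV
  let k : Over i₀ := IsCofiltered.min k₁ k₂
  let φ₁ : k.left ⟶ k₁.left := (IsCofiltered.minToLeft k₁ k₂).left
  let φ₂ : k.left ⟶ k₂.left := (IsCofiltered.minToRight k₁ k₂).left
  have : QuasiSeparatedSpace (D.obj k.left) := quasiSeparatedSpace_of_over D k
  have hU' : IsCompact ((D.map φ₁ ⁻¹ᵁ U₁ : (D.obj k.left).Opens) : Set (D.obj k.left)) :=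
    QuasiCompact.isCompact_preimage (f := D.map φ₁) _ U₁.2 hU₁
  have hV' : IsCompact ((D.map φ₂ ⁻¹ᵁ V₂ : (D.obj k.left).Opens) : Set (D.obj k.left)) :=
    QuasiCompact.isCompact_preimage (f := D.map φ₂) _ V₂.2 hV₂
  refine ⟨k, ((D.map φ₁ ⁻¹ᵁ U₁ : (D.obj k.left).Opens) : Set (D.obj k.left)) \
    ((D.map φ₂ ⁻¹ᵁ V₂ : (D.obj k.left).Opens) : Set (D.obj k.left)), ?_, ?_, ?_⟩
  · exact (hU'.isConstructible (D.map φ₁ ⁻¹ᵁ U₁).2).sdiff (hV'.isConstructible (D.map φ₂ ⁻¹ᵁ V₂).2)
  · exact ⟨_, _, (D.map φ₁ ⁻¹ᵁ U₁).2, (D.map φ₂ ⁻¹ᵁ V₂).2.isClosed_compl, Set.diff_eq _ _⟩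
  · rw [Set.preimage_diff]
    have h1 : (c.π.app k.left) ⁻¹' ((D.map φ₁ ⁻¹ᵁ U₁ : (D.obj k.left).Opens) : Set _) =
        (U : Set c.pt) := by
      rw [← hU₁U]
      exact preimage_π_app_map D c φ₁ _
    have h2 : (c.π.app k.left) ⁻¹' ((D.map φ₂ ⁻¹ᵁ V₂ : (D.obj k.left).Opens) : Set _) =
        (V : Set c.pt) := by
      rw [← hV₂V]
      exact preimage_π_app_map D c φ₂ _
    rw [h1, h2]

end Groth.Agent.H5.Lim
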