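import Mathlib
import Groth.Agent.Lib.Helper5.Lim.Model11
import Groth.Agent.Lib.Helper5.Lim.DescendProps
set_option autoImplicit false
universe u
open CategoryTheory CategoryTheory.Limits AlgebraicGeometry MorphismProperty Opposite

namespace Groth.Agent.H5.Lim

namespace Model

variable {I : Type u} [SmallCategory I] [IsCofiltered I] {D : I ⥤ Scheme.{u}} {c : Cone D}
  [∀ (i j : I) (f : i ⟶ j), IsAffineHom (D.map f)]

/-- A property of `h` descends to a base change of a model. -/
theorem exists_property (hc : IsLimit c) {P Φ : MorphismProperty Scheme.{u}}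
    [IsZariskiLocalAtTarget P] [P.IsStableUnderBaseChange]
    [Φ.IsStableUnderBaseChange] (H : AffineSystemDescent P Φ) {T : Scheme.{u}} {h : T ⟶ c.pt}
    {i : I} (M : Model D c h i) [CompactSpace (D.obj i)] (hΦ : Φ M.p) (hP : P h) :
    ∃ (j : I) (φ : j ⟶ i), P (M.bc φ).p := by
  have hY : IsPullback (c.π.app i) (𝟙 c.pt) (𝟙 (D.obj i)) (c.π.app i) :=
    haveI : IsIso (𝟙 c.pt) := inferInstance
    haveI : IsIso (𝟙 (D.obj i)) := inferInstance
    IsPullback.of_vert_isIso ⟨by simp⟩
  have h1 := descend_in (P := P) D c M.p (𝟙 (D.obj i)) hY M.pb hP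
  obtain ⟨k, hk⟩ := exists_descend_core D c hc H i M.p (𝟙 _) hΦ h1
  refine ⟨k.left, k.hom, ?_⟩
  have e : pullback.fst (𝟙 (D.obj i)) (D.map k.hom) =
      pullback.snd (𝟙 (D.obj i)) (D.map k.hom) ≫ D.map k.hom := by
    rw [← pullback.condition, Category.comp_id]
  rw [bc_congr (P := P) M.p e] at hk
  exact (bc_iso_iff (P := P) M.p (D.map k.hom) (pullback.snd (𝟙 (D.obj i)) (D.map k.hom))).mp hk

end Model

section FGZ

variable (A : Type u) [CommRing A]

/-- finitely generated `ℤ`-subalgebras -/
abbrev FGZ : Type u := {A₀ : Subalgebra ℤ A // A₀.FG}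

instance : IsDirected (FGZ A) (· ≤ ·) :=
  ⟨fun S T => ⟨⟨S.1 ⊔ T.1, S.2.sup T.2⟩, le_sup_left (a := S.1), le_sup_right (b := T.1)⟩⟩

instance : Nonempty (FGZ A) := ⟨⟨⊥, Subalgebra.fg_bot⟩⟩

/-- the system of f.g. subalgebras -/
noncomputable def fgzFunctor : FGZ A ⥤ CommRingCat.{u} where
  obj S := CommRingCat.of S.1
  map {S T} h := CommRingCat.ofHom (Subalgebra.inclusion (leOfHom h)).toRingHom
  map_id S := by ext; rfl
  map_comp h h' := by ext; rfl

/-- the cocone of inclusions -/
noncomputable def fgzCocone : Cocone (fgzFunctor A) where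
  pt := CommRingCat.of A
  ι :=
    { app := fun S => CommRingCat.ofHom (algebraMap (↥S.1) A)
      naturality := fun S T h => by ext; rfl }

noncomputable def isColimitFgzCocone : IsColimit (fgzCocone A) := by
  haveI : PreservesColimitsOfShape (FGZ A) (forget CommRingCat.{u}) :=
    PreservesFilteredColimitsOfSize.preserves_filtered_colimits (FGZ A)
  haveI : ReflectsColimit (fgzFunctor A) (forget CommRingCat) :=
    reflectsColimit_of_reflectsIsomorphisms _ _
  apply isColimitOfReflects (forget CommRingCat)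
  refine Types.FilteredColimit.isColimitOf' _ _ ?_ ?_
  · intro (x : A)
    have hfg : (Algebra.adjoin ℤ ({x} : Set A)).FG := by
      have := Subalgebra.fg_adjoin_finset (R := ℤ) ({x} : Finset A)
      simpa using this
    exact ⟨⟨Algebra.adjoin ℤ {x}, hfg⟩,
      ⟨x, Algebra.subset_adjoin (Set.mem_singleton x)⟩, rfl⟩
  · intro j x y hxy
    exact ⟨j, 𝟙 j, by
      have : x = y := Subtype.ext hxy
      rw [this]⟩

end FGZ

end Groth.Agent.H5.Lim
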