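import Mathlib
import Groth.Agent.Lib.Helper5.Lim.FGSub
set_option autoImplicit false
universe u
open CategoryTheory CategoryTheory.Limits AlgebraicGeometry MorphismProperty Opposite

namespace Groth.Agent.H5.Lim

section FGZ

variable (A : Type u) [CommRing A]

/-- the cofiltered system `Spec A₀` -/
noncomputable def fgzDiagram : (FGZ A)ᵒᵖ ⥤ Scheme.{u} := (fgzFunctor A).op ⋙ Scheme.Spec

/-- the cone with vertex `Spec A` -/
noncomputable def fgzCone : Cone (fgzDiagram A) := Scheme.Spec.mapCone (fgzCocone A).op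

noncomputable def isLimitFgzCone : IsLimit (fgzCone A) :=
  isLimitOfPreserves Scheme.Spec (isColimitFgzCocone A).op

lemma fgzCone_pt : (fgzCone A).pt = Spec (CommRingCat.of A) := rfl

lemma fgzCone_π_app (S : (FGZ A)ᵒᵖ) :
    (fgzCone A).π.app S = Spec.map (CommRingCat.ofHom (algebraMap (↥S.unop.1) A)) := rfl

lemma fgzDiagram_obj (S : (FGZ A)ᵒᵖ) :
    (fgzDiagram A).obj S = Spec (CommRingCat.of ↥S.unop.1) := rfl

instance (S T : (FGZ A)ᵒᵖ) (f : S ⟶ T) : IsAffineHom ((fgzDiagram A).map f) :=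
  inferInstanceAs (IsAffineHom (Spec.map _))

instance (S : (FGZ A)ᵒᵖ) : CompactSpace ((fgzDiagram A).obj S) :=
  inferInstanceAs (CompactSpace (Spec _))

instance (S : (FGZ A)ᵒᵖ) : QuasiSeparatedSpace ((fgzDiagram A).obj S) :=
  inferInstanceAs (QuasiSeparatedSpace (Spec _))

/-- Existence of models over f.g. `ℤ`-subalgebras with a descending property. -/
theorem exists_model_fgz {P Φ : MorphismProperty Scheme.{u}}
    [IsZariskiLocalAtTarget P] [P.IsStableUnderBaseChange]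
    [Φ.IsStableUnderBaseChange] (H : AffineSystemDescent P Φ)
    (hΦ : ∀ {X Y : Scheme.{u}} (g : X ⟶ Y), LocallyOfFinitePresentation g → QuasiCompact g →
      QuasiSeparated g → Φ g)
    {X : Scheme.{u}} (f : X ⟶ Spec (CommRingCat.of A)) [LocallyOfFinitePresentation f]
    [QuasiCompact f] [QuasiSeparated f] (hP : P f) :
    ∃ A₀ : Subalgebra ℤ A, A₀.FG ∧
      ∃ (X₀ : Scheme.{u}) (f₀ : X₀ ⟶ Spec (CommRingCat.of ↥A₀)) (g : X ⟶ X₀),
        P f₀ ∧ LocallyOfFinitePresentation f₀ ∧ QuasiCompact f₀ ∧ QuasiSeparated f₀ ∧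
          IsPullback g f f₀ (Spec.map (CommRingCat.ofHom (algebraMap (↥A₀) A))) := by
  let f' : X ⟶ (fgzCone A).pt := f
  haveI : LocallyOfFinitePresentation f' := ‹LocallyOfFinitePresentation f›
  haveI : QuasiCompact f' := ‹QuasiCompact f›
  haveI : QuasiSeparated f' := ‹QuasiSeparated f›
  obtain ⟨j, ⟨M⟩⟩ := exists_model (fgzDiagram A) (fgzCone A) (isLimitFgzCone A) f'
  obtain ⟨k, φ, hk⟩ := M.exists_property (isLimitFgzCone A) H (hΦ M.p M.lfp M.qc M.qs) hP
  exact ⟨k.unop.1, k.unop.2, (M.bc φ).Y, (M.bc φ).p, (M.bc φ).g, hk, (M.bc φ).lfp, (M.bc φ).qc,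
    (M.bc φ).qs, (M.bc φ).pb⟩

end FGZ

end Groth.Agent.H5.Lim
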