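import Groth.Agent.Lib.Lead.QC.PullbackUnit
import Groth.Agent.Lib.Lead.QC.HomAffine
import Groth.Agent.Lib.Lead.QC.Affine

set_option autoImplicit false
universe u
open CategoryTheory CategoryTheory.Limits AlgebraicGeometry Opposite TopologicalSpace
open Groth.Agent.LD.QC

namespace Groth.Agent.H5.Lim

variable {X : Scheme.{u}}

/-- two morphisms out of a quasi-coherent module which agree on the sections over the members of an
affine open cover are equal. -/
theorem hom_ext_of_affine_cover {F G : X.Modules} [F.IsQuasicoherent] (ψ ψ' : F ⟶ G)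
    {ι : Type*} (U : ι → X.Opens) (hU : ∀ a, IsAffineOpen (U a)) (hcov : (⊤ : X.Opens) ≤ ⨆ a, U a)
    (h : ∀ (a : ι) (s : Γ(F, U a)), ψ.app (U a) s = ψ'.app (U a) s) : ψ = ψ' := by
  apply Scheme.Modules.hom_ext
  intro W
  ext s
  apply section_ext_of_cover G
    (fun p : {p : Σ a, Γ(X, U a) // X.basicOpen p.2 ≤ W} => X.basicOpen p.1.2) (fun p => p.2)
  · intro x hx
    obtain ⟨a, ha⟩ := Opens.mem_iSup.1 (hcov (show x ∈ (⊤ : X.Opens) from trivial))
    obtain ⟨f, hf1, hf2⟩ := (hU a).exists_basicOpen_le (V := W) ⟨x, hx⟩ ha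
    exact Opens.mem_iSup.2 ⟨⟨⟨a, f⟩, hf1⟩, hf2⟩
  · rintro ⟨⟨a, f⟩, hle⟩
    dsimp only
    rw [← app_res, ← app_res]
    set t := F.presheaf.map (homOfLE hle).op s with ht
    obtain ⟨n, s₀, hs₀⟩ := affine_surj F (hU a) f t
    have hu : IsUnit (X.presheaf.map (homOfLE (X.basicOpen_le f)).op f) :=
      X.toRingedSpace.isUnit_res_basicOpen f
    have key : (X.presheaf.map (homOfLE (X.basicOpen_le f)).op f) ^ n • ψ.app _ t =
        (X.presheaf.map (homOfLE (X.basicOpen_le f)).op f) ^ n • ψ'.app _ t := by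
      rw [← Scheme.Modules.Hom.app_smul, ← Scheme.Modules.Hom.app_smul, ← hs₀, app_res, app_res,
        h a s₀]
    have hun := hu.pow n
    obtain ⟨v, hv⟩ := hun
    have := congrArg (fun z => (↑v⁻¹ : Γ(X, X.basicOpen f)) • z) key
    simp only [← hv, smul_smul, Units.inv_mul, one_smul] at this
    exact this

/-- two morphisms out of a pullback module agreeing on the pullbacks of a spanning set of sections
over an affine open agree on all sections over an affine open of the preimage. -/
theorem app_eq_of_forall_pbSec_eq {X Y : Scheme.{u}} (f : X ⟶ Y) {U : X.Opens} {V : Y.Opens}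
    (hU : IsAffineOpen U) (hV : IsAffineOpen V) (e : U ≤ f ⁻¹ᵁ V) (M : Y.Modules)
    [M.IsQuasicoherent] {N : X.Modules} (α β : (Scheme.Modules.pullback f).obj M ⟶ N)
    (s : Set Γ(M, V)) (hs : Submodule.span Γ(Y, V) s = ⊤)
    (h : ∀ m ∈ s, α.app U (pbSec f M e m) = β.app U (pbSec f M e m))
    (x : Γ((Scheme.Modules.pullback f).obj M, U)) : α.app U x = β.app U x := by
  have h1 : ∀ m : Γ(M, V), α.app U (pbSec f M e m) = β.app U (pbSec f M e m) := by
    intro m
    have hm : m ∈ Submodule.span Γ(Y, V) s := hs ▸ Submodule.mem_top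
    induction hm using Submodule.span_induction with
    | mem m hm => exact h m hm
    | zero => rw [pbSec_zero, map_zero, map_zero]
    | add m m' _ _ hm hm' => rw [pbSec_add, map_add, map_add, hm, hm']
    | smul a m _ hm =>
      rw [pbSec_smul, Scheme.Modules.Hom.app_smul, Scheme.Modules.Hom.app_smul, hm]
  have hx : x ∈ Submodule.span Γ(X, U) (Set.range (pbSec f M e)) :=
    (span_range_pbSec f hU hV e M) ▸ Submodule.mem_top
  induction hx using Submodule.span_induction with
  | mem x hx =>
    obtain ⟨m, rfl⟩ := hx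
    exact h1 m
  | zero => rw [map_zero, map_zero]
  | add x y _ _ hx hy => rw [map_add, map_add, hx, hy]
  | smul a x _ hx => rw [Scheme.Modules.Hom.app_smul, Scheme.Modules.Hom.app_smul, hx]

end Groth.Agent.H5.Lim
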