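import Groth.Agent.Lib.Lead.QC.PullbackUnit
import Groth.Agent.Lib.Lead.QC.Coh
import Groth.Agent.Lib.Lead.QC.SubExt
import Groth.Agent.Lib.Lead.QC.Iso

set_option autoImplicit false
universe u
open CategoryTheory CategoryTheory.Limits AlgebraicGeometry Opposite TopologicalSpace TensorProduct
open Groth.Agent.LD.QC

namespace Groth.Agent.H5.Lim

section Bridge

variable {X Y : Scheme.{u}} (f : X ⟶ Y) {U : X.Opens} {V : Y.Opens}

/-- the sections of a pulled back homomorphism over an affine open are the base change of the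
sections of the homomorphism. -/
theorem pullback_map_app_equiv (hU : IsAffineOpen U) (hV : IsAffineOpen V) (e : U ≤ f ⁻¹ᵁ V)
    {M N : Y.Modules} [M.IsQuasicoherent] [N.IsQuasicoherent] (α : M ⟶ N) :
    letI := (f.appLE V U e).hom.toAlgebra
    ∃ (e₁ : Γ(X, U) ⊗[Γ(Y, V)] Γ(M, V) ≃ₗ[Γ(X, U)] Γ((Scheme.Modules.pullback f).obj M, U))
      (e₂ : Γ(X, U) ⊗[Γ(Y, V)] Γ(N, V) ≃ₗ[Γ(X, U)] Γ((Scheme.Modules.pullback f).obj N, U)),
      (∀ (a : Γ(X, U)) (m : Γ(M, V)), e₁ (a ⊗ₜ m) = a • pbSec f M e m) ∧
      (∀ (a : Γ(X, U)) (n : Γ(N, V)), e₂ (a ⊗ₜ n) = a • pbSec f N e n) ∧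
      ∀ z, ((Scheme.Modules.pullback f).map α).app U (e₁ z) =
        e₂ ((appLinear α V).baseChange Γ(X, U) z) := by
  letI : Algebra Γ(Y, V) Γ(X, U) := (f.appLE V U e).hom.toAlgebra
  letI := pbModule f M e
  haveI : IsScalarTower Γ(Y, V) Γ(X, U) Γ((Scheme.Modules.pullback f).obj M, U) :=
    pbModule_isScalarTower f M e
  have hM : IsBaseChange Γ(X, U) (pbSecₗ f M e) := isBaseChange_pbSec f hU hV e M
  letI := pbModule f N e
  haveI : IsScalarTower Γ(Y, V) Γ(X, U) Γ((Scheme.Modules.pullback f).obj N, U) :=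
    pbModule_isScalarTower f N e
  have hN : IsBaseChange Γ(X, U) (pbSecₗ f N e) := isBaseChange_pbSec f hU hV e N
  refine ⟨hM.equiv, hN.equiv, fun a m => ?_, fun a n => ?_, fun z => ?_⟩
  · rw [IsBaseChange.equiv_tmul]; rfl
  · rw [IsBaseChange.equiv_tmul]; rfl
  · induction z using TensorProduct.induction_on with
    | zero => simp
    | tmul a m =>
      rw [IsBaseChange.equiv_tmul, LinearMap.baseChange_tmul, IsBaseChange.equiv_tmul,
        Scheme.Modules.Hom.app_smul]
      congr 1
      exact pbSec_naturality f α e m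
    | add x y hx hy => rw [map_add, map_add, hx, hy, map_add, map_add]

end Bridge

end Groth.Agent.H5.Lim

namespace Groth.Agent.H5.Lim

section Exact

variable {X : Scheme.{u}}

/-- a morphism of quasi-coherent modules which is surjective on the sections over the members of
an affine cover is an epimorphism. -/
theorem epi_of_surjective_affine_cover {A B : X.Modules} [hA : A.IsQuasicoherent]
    [hB : B.IsQuasicoherent] (φ : A ⟶ B)
    (h : ∀ x : X, ∃ U : X.Opens, IsAffineOpen U ∧ x ∈ U ∧ Function.Surjective (φ.app U)) :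
    Epi φ := by
  haveI hC : (cokernel φ).IsQuasicoherent := qc_cokernel φ hA hB
  have hz : IsZero (cokernel φ) := by
    apply isZero_of_affine_cover
    intro x
    obtain ⟨U, hU, hxU, hs⟩ := h x
    refine ⟨U, hU, hxU, fun c => ?_⟩
    obtain ⟨s, rfl⟩ := epi_app_affine hB hC (cokernel.π φ) hU c
    obtain ⟨t, rfl⟩ := hs s
    have h1 : (φ ≫ cokernel.π φ).app U t = 0 := by
      rw [cokernel.condition]; rfl
    exact h1
  exact Preadditive.epi_of_isZero_cokernel φ hz

lemma kernel_lift_app {A B C : X.Modules} (f : A ⟶ B) (g : B ⟶ C) (w : f ≫ g = 0) (U : X.Opens)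
    (s : Γ(A, U)) : (kernel.ι g).app U ((kernel.lift g f w).app U s) = f.app U s := by
  have : (kernel.lift g f w ≫ kernel.ι g).app U s = f.app U s := by rw [kernel.lift_ι]
  exact this

/-- a short complex of quasi-coherent modules whose sections over the members of an affine cover
are exact is exact. -/
theorem exact_of_affine_cover (S : ShortComplex X.Modules) [h₁ : S.X₁.IsQuasicoherent]
    [h₂ : S.X₂.IsQuasicoherent] [h₃ : S.X₃.IsQuasicoherent]
    (h : ∀ x : X, ∃ U : X.Opens, IsAffineOpen U ∧ x ∈ U ∧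
      Function.Exact (S.f.app U) (S.g.app U)) : S.Exact := by
  rw [S.exact_iff_epi_kernel_lift]
  haveI : (kernel S.g).IsQuasicoherent := qc_kernel S.g h₂ h₃
  apply epi_of_surjective_affine_cover
  intro x
  obtain ⟨U, hU, hxU, hex⟩ := h x
  refine ⟨U, hU, hxU, fun t => ?_⟩
  obtain ⟨s, hs⟩ := (hex ((kernel.ι S.g).app U t)).1 (kernel_ι_app_comp S.g U t)
  refine ⟨s, mono_app (kernel.ι S.g) U ?_⟩
  rw [kernel_lift_app, hs]

/-- the sections of an exact complex of quasi-coherent modules over an affine open are exact. -/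
theorem exact_app_affine (S : ShortComplex X.Modules) [h₁ : S.X₁.IsQuasicoherent]
    [h₂ : S.X₂.IsQuasicoherent] [h₃ : S.X₃.IsQuasicoherent] (hS : S.Exact) {U : X.Opens}
    (hU : IsAffineOpen U) : Function.Exact (S.f.app U) (S.g.app U) := by
  rw [S.exact_iff_epi_kernel_lift] at hS
  haveI hK : (kernel S.g).IsQuasicoherent := qc_kernel S.g h₂ h₃
  intro t
  constructor
  · intro ht
    obtain ⟨k, hk⟩ := exists_kernel_section S.g U t ht
    obtain ⟨s, hs⟩ := epi_app_affine h₁ hK (kernel.lift S.g S.f S.zero) hU k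
    exact ⟨s, by rw [← hk, ← hs, kernel_lift_app]⟩
  · rintro ⟨s, rfl⟩
    have : (S.f ≫ S.g).app U s = 0 := by rw [S.zero]; rfl
    exact this

end Exact

end Groth.Agent.H5.Lim

namespace Groth.Agent.H5.Lim

section FlatPullback

variable {X Y : Scheme.{u}} (f : X ⟶ Y)

lemma flat_appLE [Flat f] {U : X.Opens} {V : Y.Opens} (hU : IsAffineOpen U) (hV : IsAffineOpen V)
    (e : U ≤ f ⁻¹ᵁ V) :
    letI := (f.appLE V U e).hom.toAlgebra
    Module.Flat Γ(Y, V) Γ(X, U) :=
  HasRingHomProperty.appLE (P := @Flat) f inferInstance ⟨V, hV⟩ ⟨U, hU⟩ e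

/-- the sections over `U ⊆ f⁻¹ V` (affine opens) of the pullback of an exact sequence of
quasi-coherent modules along a flat morphism are exact. -/
theorem exact_pullback_app_of_flat [Flat f] {U : X.Opens} {V : Y.Opens} (hU : IsAffineOpen U)
    (hV : IsAffineOpen V) (e : U ≤ f ⁻¹ᵁ V) {M₁ M₂ M₃ : Y.Modules} [M₁.IsQuasicoherent]
    [M₂.IsQuasicoherent] [M₃.IsQuasicoherent] (α : M₁ ⟶ M₂) (β : M₂ ⟶ M₃)
    (h : Function.Exact (α.app V) (β.app V)) :
    Function.Exact (((Scheme.Modules.pullback f).map α).app U)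
      (((Scheme.Modules.pullback f).map β).app U) := by
  letI : Algebra Γ(Y, V) Γ(X, U) := (f.appLE V U e).hom.toAlgebra
  haveI : Module.Flat Γ(Y, V) Γ(X, U) := flat_appLE f hU hV e
  obtain ⟨e₁, e₂, -, h₂, hα⟩ := pullback_map_app_equiv f hU hV e α
  obtain ⟨e₂', e₃, h₂', -, hβ⟩ := pullback_map_app_equiv f hU hV e β
  have he : ∀ z, e₂ z = e₂' z := by
    intro z
    induction z using TensorProduct.induction_on with
    | zero => simp
    | tmul a m => rw [h₂, h₂']
    | add x y hx hy => rw [map_add, map_add, hx, hy]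
  have hex : Function.Exact ((appLinear α V).baseChange Γ(X, U))
      ((appLinear β V).baseChange Γ(X, U)) := by
    have := Module.Flat.lTensor_exact Γ(X, U) (f := appLinear α V) (g := appLinear β V) h
    intro z
    rw [LinearMap.baseChange_eq_ltensor, LinearMap.baseChange_eq_ltensor]
    exact this z
  intro t
  obtain ⟨z, rfl⟩ := e₂'.surjective t
  rw [hβ, EmbeddingLike.map_eq_zero_iff, hex z]
  constructor
  · rintro ⟨w, rfl⟩
    exact ⟨e₁ w, by rw [hα, he]⟩
  · rintro ⟨s, hs⟩
    obtain ⟨w, rfl⟩ := e₁.surjective s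
    rw [hα, he] at hs
    exact ⟨w, e₂'.injective hs⟩

/-- pullback along a flat morphism preserves exactness of complexes of quasi-coherent modules. -/
theorem exact_map_pullback_of_flat [Flat f] (S : ShortComplex Y.Modules) [h₁ : S.X₁.IsQuasicoherent]
    [h₂ : S.X₂.IsQuasicoherent] [h₃ : S.X₃.IsQuasicoherent] (hS : S.Exact) :
    (S.map (Scheme.Modules.pullback f)).Exact := by
  haveI : (S.map (Scheme.Modules.pullback f)).X₁.IsQuasicoherent := qc_pullback f S.X₁
  haveI : (S.map (Scheme.Modules.pullback f)).X₂.IsQuasicoherent := qc_pullback f S.X₂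
  haveI : (S.map (Scheme.Modules.pullback f)).X₃.IsQuasicoherent := qc_pullback f S.X₃
  apply exact_of_affine_cover
  intro x
  obtain ⟨U, V, hU, hV, hxU, hUV⟩ := exists_affine_nhds_le_preimage f x
  exact ⟨U, hU, hxU, exact_pullback_app_of_flat f hU hV hUV S.f S.g (exact_app_affine S hS hV)⟩

/-- pullback along a flat morphism preserves monomorphisms of quasi-coherent modules. -/
theorem mono_pullback_map_of_flat [Flat f] {M N : Y.Modules} [hM : M.IsQuasicoherent]
    [hN : N.IsQuasicoherent] (α : M ⟶ N) [Mono α] :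
    Mono ((Scheme.Modules.pullback f).map α) := by
  let S : ShortComplex Y.Modules := ShortComplex.mk (0 : M ⟶ M) α zero_comp
  haveI : S.X₁.IsQuasicoherent := hM
  haveI : S.X₂.IsQuasicoherent := hM
  haveI : S.X₃.IsQuasicoherent := hN
  have hS : S.Exact := (S.exact_iff_mono rfl).2 (inferInstanceAs (Mono α))
  have h := exact_map_pullback_of_flat f S hS
  exact ((S.map (Scheme.Modules.pullback f)).exact_iff_mono
    ((Scheme.Modules.pullback f).map_zero _ _)).1 h

/-- pullback along a flat morphism preserves kernels of quasi-coherent modules. -/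
noncomputable def isLimitKernelForkPullbackOfFlat [Flat f] {M N : Y.Modules}
    [hM : M.IsQuasicoherent] [hN : N.IsQuasicoherent] (α : M ⟶ N) :
    IsLimit (KernelFork.ofι ((Scheme.Modules.pullback f).map (kernel.ι α))
      (show (Scheme.Modules.pullback f).map (kernel.ι α) ≫ (Scheme.Modules.pullback f).map α = 0 by
        rw [← Functor.map_comp, kernel.condition, Functor.map_zero])) := by
  let S : ShortComplex Y.Modules := ShortComplex.mk (kernel.ι α) α (kernel.condition α)
  haveI hK : (kernel α).IsQuasicoherent := qc_kernel α hM hN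
  haveI : S.X₁.IsQuasicoherent := hK
  haveI : S.X₂.IsQuasicoherent := hM
  haveI : S.X₃.IsQuasicoherent := hN
  have hS : S.Exact := ShortComplex.exact_of_f_is_kernel S (kernelIsKernel α)
  have h := exact_map_pullback_of_flat f S hS
  haveI : Mono (S.map (Scheme.Modules.pullback f)).f :=
    mono_pullback_map_of_flat f (kernel.ι α)
  exact h.fIsKernel

theorem mono_pullback_map_iff_isZero_of_flat [Flat f] {M N : Y.Modules}
    [hM : M.IsQuasicoherent] [hN : N.IsQuasicoherent] (α : M ⟶ N) :
    Mono ((Scheme.Modules.pullback f).map α) ↔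
      IsZero ((Scheme.Modules.pullback f).obj (kernel α)) :=
  Preadditive.mono_iff_isZero_kernel' _ (isLimitKernelForkPullbackOfFlat f α)

end FlatPullback

end Groth.Agent.H5.Lim
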