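import Groth.Agent.Lib.Helper5.Lim.ModuleMono

set_option autoImplicit false
universe u
open CategoryTheory CategoryTheory.Limits AlgebraicGeometry Opposite TopologicalSpace
open Groth.Agent.LD.QC

namespace Groth.Agent.H5.Lim

section

variable {X : Scheme.{u}}

theorem qc_image {M N : X.Modules} (φ : M ⟶ N) (hM : M.IsQuasicoherent)
    (hN : N.IsQuasicoherent) : (Limits.image φ).IsQuasicoherent :=
  qc_of_iso (Abelian.imageIsoImage φ) (qc_kernel _ hN (qc_cokernel φ hM hN))

theorem isFiniteType_image {M N : X.Modules} (φ : M ⟶ N) (hM : M.IsQuasicoherent)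
    (hN : N.IsQuasicoherent) (hft : M.IsFiniteType) : (Limits.image φ).IsFiniteType :=
  isFiniteType_of_epi (factorThruImage φ) hM (qc_image φ hM hN) hft

end

section Flat

variable {X Y : Scheme.{u}} (f : X ⟶ Y)

/-- a flat pullback kills a homomorphism of quasi-coherent modules iff it kills its image. -/
theorem pullback_map_eq_zero_iff_of_flat [Flat f] {M N : Y.Modules} [hM : M.IsQuasicoherent]
    [hN : N.IsQuasicoherent] (h : M ⟶ N) :
    (Scheme.Modules.pullback f).map h = 0 ↔
      IsZero ((Scheme.Modules.pullback f).obj (Limits.image h)) := by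
  haveI : (Limits.image h).IsQuasicoherent := qc_image h hM hN
  haveI : Mono ((Scheme.Modules.pullback f).map (Limits.image.ι h)) :=
    mono_pullback_map_of_flat f (Limits.image.ι h)
  have hfac : (Scheme.Modules.pullback f).map h =
      (Scheme.Modules.pullback f).map (factorThruImage h) ≫
        (Scheme.Modules.pullback f).map (Limits.image.ι h) := by
    rw [← Functor.map_comp, Limits.image.fac]
  constructor
  · intro h0
    have h1 : (Scheme.Modules.pullback f).map (factorThruImage h) = 0 := by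
      rw [← cancel_mono ((Scheme.Modules.pullback f).map (Limits.image.ι h)), ← hfac, h0,
        zero_comp]
    rw [IsZero.iff_id_eq_zero,
      ← cancel_epi ((Scheme.Modules.pullback f).map (factorThruImage h)), h1, zero_comp,
      zero_comp]
  · intro hz
    rw [hfac, hz.eq_of_tgt ((Scheme.Modules.pullback f).map (factorThruImage h)) 0, zero_comp]

/-- exactness of the flat pullback of `F₀ ⟶ G₀ ⟶ H₀` in terms of two vanishing conditions. -/
theorem exact_pullback_iff_of_flat [Flat f] {F₀ G₀ H₀ : Y.Modules} [hF : F₀.IsQuasicoherent]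
    [hG : G₀.IsQuasicoherent] [hH : H₀.IsQuasicoherent] (f₀ : F₀ ⟶ G₀) (g₀ : G₀ ⟶ H₀) :
    (∃ w : (Scheme.Modules.pullback f).map f₀ ≫ (Scheme.Modules.pullback f).map g₀ = 0,
      (ShortComplex.mk _ _ w).Exact) ↔
    IsZero ((Scheme.Modules.pullback f).obj (Limits.image (Limits.image.ι f₀ ≫ g₀))) ∧
      IsZero ((Scheme.Modules.pullback f).obj (Limits.image (kernel.ι g₀ ≫ cokernel.π f₀))) := by
  haveI hI : (Limits.image f₀).IsQuasicoherent := qc_image f₀ hF hG
  haveI hK : (kernel g₀).IsQuasicoherent := qc_kernel g₀ hG hH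
  haveI hC : (cokernel f₀).IsQuasicoherent := qc_cokernel f₀ hF hG
  rw [← pullback_map_eq_zero_iff_of_flat, ← pullback_map_eq_zero_iff_of_flat]
  set L := Scheme.Modules.pullback f with hL
  -- the first condition is the vanishing of the composite
  have h1 : L.map (Limits.image.ι f₀ ≫ g₀) = 0 ↔ L.map f₀ ≫ L.map g₀ = 0 := by
    have : L.map f₀ ≫ L.map g₀ = L.map (factorThruImage f₀) ≫ L.map (Limits.image.ι f₀ ≫ g₀) := by
      rw [← L.map_comp, ← L.map_comp, Limits.image.fac_assoc]
    rw [this]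
    constructor
    · intro h; rw [h, comp_zero]
    · intro h
      rwa [← cancel_epi (L.map (factorThruImage f₀)), comp_zero]
  -- the second condition is exactness
  have hker := isLimitKernelForkPullbackOfFlat f g₀
  have h2 : ∀ w : L.map f₀ ≫ L.map g₀ = 0, (ShortComplex.mk _ _ w).Exact ↔
      L.map (kernel.ι g₀ ≫ cokernel.π f₀) = 0 := by
    intro w
    rw [ShortComplex.exact_iff_kernel_ι_comp_cokernel_π_zero]
    dsimp only
    let e₁ : kernel (L.map g₀) ≅ L.obj (kernel g₀) :=
      IsLimit.conePointUniqueUpToIso (kernelIsKernel (L.map g₀)) hker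
    have he₁ : kernel.ι (L.map g₀) = e₁.hom ≫ L.map (kernel.ι g₀) :=
      (IsLimit.conePointUniqueUpToIso_hom_comp (kernelIsKernel (L.map g₀)) hker
        WalkingParallelPair.zero).symm
    have he₂ : cokernel.π (L.map f₀) = L.map (cokernel.π f₀) ≫ (PreservesCokernel.iso L f₀).hom := by
      rw [← Iso.comp_inv_eq, PreservesCokernel.iso_inv, π_comp_cokernelComparison]
    rw [he₁, he₂, Category.assoc, ← L.map_comp_assoc]
    constructor
    · intro h
      have := congrArg (fun t => e₁.inv ≫ t ≫ (PreservesCokernel.iso L f₀).inv) h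
      simpa using this
    · intro h
      rw [h, zero_comp, comp_zero]
  constructor
  · rintro ⟨w, hex⟩
    exact ⟨h1.2 w, (h2 w).1 hex⟩
  · rintro ⟨ha, hb⟩
    exact ⟨h1.1 ha, (h2 _).2 hb⟩

end Flat

end Groth.Agent.H5.Lim

namespace Groth.Agent.H5.Lim

section

variable {I : Type u} [SmallCategory I] (D : I ⥤ Scheme.{u}) (i₀ : I)

lemma isZero_pullback_of_hom {C₀ : (D.obj i₀).Modules} {k k' : Over i₀} (a : k' ⟶ k)
    (h : IsZero ((Scheme.Modules.pullback (D.map k.hom)).obj C₀)) :
    IsZero ((Scheme.Modules.pullback (D.map k'.hom)).obj C₀) :=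
  IsZero.of_iso ((Scheme.Modules.pullback (D.map a.left)).map_isZero h)
    ((pullbackCompIso (D.map a.left) (D.map k.hom) (D.map k'.hom)
      (by rw [← D.map_comp, Over.w a])).app C₀).symm

end

section

variable {I : Type u} [SmallCategory I] [IsCofiltered I] (D : I ⥤ Scheme.{u}) (c : Cone D)
  (hc : IsLimit c) [∀ (i j : I) (f : i ⟶ j), IsAffineHom (D.map f)] (i₀ : I)

include hc in
/-- EGA IV 8.5.? : with flat transition maps, exactness of `F₀ ⟶ G₀ ⟶ H₀` (image and kernel of
finite type) after pullback to the limit holds iff it holds at some stage. -/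
theorem exact_pullback_iff_eventually_of_flat [CompactSpace (D.obj i₀)]
    (hfl : ∀ (i j : I) (φ : i ⟶ j), Flat (D.map φ))
    {F₀ G₀ H₀ : (D.obj i₀).Modules} [hF : F₀.IsQuasicoherent] [hG : G₀.IsQuasicoherent]
    [hH : H₀.IsQuasicoherent] (f₀ : F₀ ⟶ G₀) (g₀ : G₀ ⟶ H₀)
    (hIm : (Limits.image f₀).IsFiniteType) (hKer : (kernel g₀).IsFiniteType) :
    (∃ w : (Scheme.Modules.pullback (c.π.app i₀)).map f₀ ≫
        (Scheme.Modules.pullback (c.π.app i₀)).map g₀ = 0, (ShortComplex.mk _ _ w).Exact) ↔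
      ∃ (j : I) (φ : j ⟶ i₀) (w : (Scheme.Modules.pullback (D.map φ)).map f₀ ≫
        (Scheme.Modules.pullback (D.map φ)).map g₀ = 0), (ShortComplex.mk _ _ w).Exact := by
  haveI hI : (Limits.image f₀).IsQuasicoherent := qc_image f₀ hF hG
  haveI hK : (kernel g₀).IsQuasicoherent := qc_kernel g₀ hG hH
  haveI hC : (cokernel f₀).IsQuasicoherent := qc_cokernel f₀ hF hG
  haveI hQ : (Limits.image (Limits.image.ι f₀ ≫ g₀)).IsQuasicoherent := qc_image _ hI hH
  haveI hQ' : (Limits.image (kernel.ι g₀ ≫ cokernel.π f₀)).IsQuasicoherent := qc_image _ hK hC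
  have hQft : (Limits.image (Limits.image.ι f₀ ≫ g₀)).IsFiniteType :=
    isFiniteType_image _ hI hH hIm
  have hQ'ft : (Limits.image (kernel.ι g₀ ≫ cokernel.π f₀)).IsFiniteType :=
    isFiniteType_image _ hK hC hKer
  haveI : Flat (c.π.app i₀) := flat_π_app D c hc i₀ (fun j φ => hfl j i₀ φ)
  rw [exact_pullback_iff_of_flat]
  constructor
  · rintro ⟨h1, h2⟩
    obtain ⟨k, hk⟩ := exists_stage_isZero_pullback D c hc i₀ hQft h1
    obtain ⟨k', hk'⟩ := exists_stage_isZero_pullback D c hc i₀ hQ'ft h2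
    refine ⟨(IsCofiltered.min k k').left, (IsCofiltered.min k k').hom, ?_⟩
    haveI : Flat (D.map (IsCofiltered.min k k').hom) := hfl _ _ _
    rw [exact_pullback_iff_of_flat]
    exact ⟨isZero_pullback_of_hom D i₀ (IsCofiltered.minToLeft k k') hk,
      isZero_pullback_of_hom D i₀ (IsCofiltered.minToRight k k') hk'⟩
  · rintro ⟨j, φ, h⟩
    haveI : Flat (D.map φ) := hfl _ _ _
    rw [exact_pullback_iff_of_flat] at h
    exact ⟨isZero_pullback_of_stage D c i₀ φ h.1, isZero_pullback_of_stage D c i₀ φ h.2⟩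

end

end Groth.Agent.H5.Lim
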