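import Groth.Agent.Lib.Helper5.Lim.BaseChangeSystem
import Mathlib

set_option autoImplicit false
universe u
open CategoryTheory CategoryTheory.Limits AlgebraicGeometry

namespace Groth.Agent.H5.Lim

variable {I : Type u} [SmallCategory I] [IsCofiltered I] (D : I ⥤ Scheme.{u}) (c : Cone D)
  (hc : IsLimit c)

include hc in
/-- A quasi-compact scheme over a stage all of whose base changes along the transition maps are
nonempty has a nonempty base change to the limit. -/
theorem nonempty_pullback_π_app [∀ (i j : I) (f : i ⟶ j), IsAffineHom (D.map f)] {i : I}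
    {T : Scheme.{u}} [CompactSpace T] (a : T ⟶ D.obj i)
    (h : ∀ j : Over i, Nonempty ↥(pullback a (D.map j.hom))) :
    Nonempty ↥(pullback a (c.π.app i)) := by
  have hDaff : ∀ {i j : I} (f : i ⟶ j), IsAffineHom (D.map f) := fun f => inferInstance
  have h3 : ∀ {j k : Over i} (φ : j ⟶ k), IsAffineHom ((bcDiagram D a).map φ) := fun {j k} φ =>
    isAffineHom_bcMap D a φ (hDaff _)
  have h1 : ∀ j, CompactSpace ((bcDiagram D a).obj j) := fun j =>
    compactSpace_bcDiagram_obj D a j (hDaff _)
  have h2 : ∀ j, Nonempty ((bcDiagram D a).obj j) := h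
  exact Scheme.nonempty_of_isLimit (bcDiagram D a) (bcCone D c a) (isLimitBcCone D c a hc)

include hc in
/-- A point of a stage lying in the image of all transition maps lies in the image of the
limit. -/
theorem exists_π_app_eq [∀ (i j : I) (f : i ⟶ j), IsAffineHom (D.map f)] (i : I) (y : D.obj i)
    (h : ∀ (j : I) (φ : j ⟶ i), y ∈ Set.range (D.map φ)) : ∃ x : c.pt, c.π.app i x = y := by
  let a : Spec (.of ((D.obj i).residueField y)) ⟶ D.obj i := (D.obj i).fromSpecResidueField y
  have hne : ∀ j : Over i, Nonempty ↥(pullback a (D.map j.hom)) := by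
    intro j
    obtain ⟨z, hz⟩ := h j.left j.hom
    have hy : y ∈ Set.range a := by
      rw [Scheme.range_fromSpecResidueField]; rfl
    obtain ⟨w, hw⟩ := hy
    obtain ⟨p, -, -⟩ := Scheme.Pullback.exists_preimage_pullback (f := a) (g := D.map j.hom) w z
      (hw.trans hz.symm)
    exact ⟨p⟩
  obtain ⟨p⟩ := nonempty_pullback_π_app D c hc a hne
  refine ⟨pullback.snd a (c.π.app i) p, ?_⟩
  have h1 : c.π.app i (pullback.snd a (c.π.app i) p) = a (pullback.fst a (c.π.app i) p) := by
    rw [← Scheme.Hom.comp_apply, ← Scheme.Hom.comp_apply, pullback.condition]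
  rw [h1]
  have : a (pullback.fst a (c.π.app i) p) ∈ Set.range a := ⟨_, rfl⟩
  rw [Scheme.range_fromSpecResidueField] at this
  exact this

include hc in
/-- The image of the limit in a stage is the intersection of the images of the transition
maps (EGA IV 8.3.2). -/
theorem range_π_app [∀ (i j : I) (f : i ⟶ j), IsAffineHom (D.map f)] (i : I) :
    Set.range ⇑(c.π.app i) = ⋂ (j : I) (φ : j ⟶ i), Set.range ⇑(D.map φ) := by
  apply Set.Subset.antisymm
  · rintro _ ⟨x, rfl⟩
    simp only [Set.mem_iInter]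
    intro j φ
    refine ⟨c.π.app j x, ?_⟩
    rw [← Scheme.Hom.comp_apply, c.w]
  · intro y hy
    simp only [Set.mem_iInter] at hy
    exact exists_π_app_eq D c hc i y hy

end Groth.Agent.H5.Lim

namespace Groth.Agent.H5.Lim

variable {I : Type u} [SmallCategory I] [IsCofiltered I] (D : I ⥤ Scheme.{u}) (c : Cone D)
  (hc : IsLimit c)

include hc in
/-- A quasi-compact open of a stage meeting the images of all transition maps meets the image of
the limit. -/
theorem exists_π_app_mem_opens [∀ (i j : I) (f : i ⟶ j), IsAffineHom (D.map f)] (i : I)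
    (U : (D.obj i).Opens) (hU : IsCompact (U : Set (D.obj i)))
    (h : ∀ (j : I) (φ : j ⟶ i), ∃ z : D.obj j, D.map φ z ∈ U) : ∃ x : c.pt, c.π.app i x ∈ U := by
  have : CompactSpace ↥(U : Scheme.{u}) := isCompact_iff_compactSpace.mp hU
  have hne : ∀ j : Over i, Nonempty ↥(pullback U.ι (D.map j.hom)) := by
    intro j
    obtain ⟨z, hz⟩ := h j.left j.hom
    obtain ⟨p, -, -⟩ := Scheme.Pullback.exists_preimage_pullback (f := U.ι) (g := D.map j.hom)
      ⟨_, hz⟩ z rfl
    exact ⟨p⟩
  obtain ⟨p⟩ := nonempty_pullback_π_app D c hc U.ι hne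
  refine ⟨pullback.snd U.ι (c.π.app i) p, ?_⟩
  have h1 : c.π.app i (pullback.snd U.ι (c.π.app i) p) = U.ι (pullback.fst U.ι (c.π.app i) p) := by
    rw [← Scheme.Hom.comp_apply, ← Scheme.Hom.comp_apply, pullback.condition]
  rw [h1]
  exact (pullback.fst U.ι (c.π.app i) p).2

include hc in
/-- The projection from the limit is dominant iff all transition maps are (EGA IV 8.3.8). -/
theorem isDominant_π_app_iff [∀ (i j : I) (f : i ⟶ j), IsAffineHom (D.map f)] (i : I) :
    IsDominant (c.π.app i) ↔ ∀ (j : I) (φ : j ⟶ i), IsDominant (D.map φ) := by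
  constructor
  · intro h j φ
    have h1 : IsDominant (c.π.app j ≫ D.map φ) := by rw [c.w]; exact h
    exact IsDominant.of_comp (c.π.app j) (D.map φ)
  · intro h
    refine ⟨?_⟩
    rw [DenseRange, dense_iff_inter_open]
    intro U hUo ⟨y, hy⟩
    obtain ⟨_, ⟨V, hV : IsAffineOpen V, rfl⟩, hyV, hVU⟩ :=
      (D.obj i).isBasis_affineOpens.exists_subset_of_mem_open hy hUo
    obtain ⟨x, hx⟩ := exists_π_app_mem_opens D c hc i V hV.isCompact (fun j φ => by
      have := (h j φ).denseRange
      rw [DenseRange, dense_iff_inter_open] at this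
      obtain ⟨_, hz1, ⟨z, rfl⟩⟩ := this V V.2 ⟨y, hyV⟩
      exact ⟨z, hz1⟩)
    exact ⟨_, hVU hx, ⟨x, rfl⟩⟩

end Groth.Agent.H5.Lim
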