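import Groth.Agent.Lib.Helper5.Lim.FlatLimit
import Groth.Agent.Lib.Helper5.Lim.Points
import Mathlib

set_option autoImplicit false
universe u
open CategoryTheory CategoryTheory.Limits AlgebraicGeometry

namespace Groth.Agent.H5.Lim

section Affine

variable {J : Type u} [SmallCategory J] [IsCofiltered J] (E : J ⥤ Scheme.{u})
  [∀ j, IsAffine (E.obj j)] (cE : Cone E) (hcE : IsLimit cE)

include hcE in
/-- A cofiltered limit of affine schemes, cofinally many of which are reduced, is reduced. -/
theorem isReduced_of_cofinal_isReduced_of_isAffine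
    (h : ∀ j : J, ∃ (k : J) (_ : k ⟶ j), IsReduced (E.obj k)) : IsReduced cE.pt := by
  have : IsAffine cE.pt := Scheme.isAffine_of_isLimit cE hcE
  have hred : _root_.IsReduced Γ(cE.pt, ⊤) := by
    refine ⟨fun s hs => ?_⟩
    obtain ⟨n, hn⟩ := hs
    obtain ⟨j, x, rfl⟩ := exists_appTop_π_eq_of_isAffine_of_isLimit E cE hcE s
    have h0 : (cE.π.app j).appTop.hom (x ^ n) = 0 := by rw [map_pow]; exact hn
    obtain ⟨k, a, hk⟩ := exists_appTop_map_eq_zero_of_isAffine_of_isLimit E cE hcE j (x ^ n) h0
    obtain ⟨k', b, hk'⟩ := h k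
    have h1 : ((E.map (b ≫ a)).appTop.hom x) ^ n = 0 := by
      rw [← map_pow, E.map_comp, Scheme.Hom.comp_appTop, CommRingCat.hom_comp,
        RingHom.comp_apply, hk, map_zero]
    have h2 : (E.map (b ≫ a)).appTop.hom x = 0 := by
      have : _root_.IsReduced Γ(E.obj k', ⊤) := inferInstance
      exact this.eq_zero _ ⟨n, h1⟩
    have h3 : (cE.π.app j).appTop.hom x =
        (cE.π.app k').appTop.hom ((E.map (b ≫ a)).appTop.hom x) := by
      rw [← RingHom.comp_apply, ← CommRingCat.hom_comp, ← Scheme.Hom.comp_appTop, cE.w]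
    rw [h3, h2, map_zero]
  exact isReduced_of_isAffine_isReduced cE.pt

end Affine

section General

variable {I : Type u} [SmallCategory I] [IsCofiltered I] (D : I ⥤ Scheme.{u}) (c : Cone D)
  (hc : IsLimit c)

include hc in
/-- A cofiltered limit with affine transition maps, cofinally many of whose terms are reduced,
is reduced. -/
theorem isReduced_of_cofinal_isReduced [∀ (i j : I) (f : i ⟶ j), IsAffineHom (D.map f)]
    (h : ∀ i : I, ∃ (k : I) (_ : k ⟶ i), IsReduced (D.obj k)) : IsReduced c.pt := by
  have hDaff : ∀ {i j : I} (f : i ⟶ j), IsAffineHom (D.map f) := fun f => inferInstance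
  obtain ⟨i₀⟩ := IsCofiltered.nonempty (C := I)
  let 𝒰 := (D.obj i₀).affineCover
  have h𝒰 : ∀ a, IsAffine (𝒰.X a) := fun a => by
    dsimp [𝒰, Scheme.affineCover]; infer_instance
  have hpiece : ∀ a, IsReduced ((𝒰.pullback₂ (c.π.app i₀)).X a) := by
    intro a
    let fa := 𝒰.f a
    have hE : ∀ j, IsAffine ((bcDiagram D fa).obj j) := fun j =>
      isAffine_bcDiagram_obj D fa j (hDaff _)
    refine isReduced_of_cofinal_isReduced_of_isAffine (bcDiagram D fa) (bcCone D c fa)
      (isLimitBcCone D c fa hc) (fun j => ?_)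
    obtain ⟨k, b, hk⟩ := h j.left
    refine ⟨Over.mk (b ≫ j.hom), Over.homMk b rfl, ?_⟩
    have hfa : IsOpenImmersion fa := by dsimp [fa]; infer_instance
    have hoi : IsOpenImmersion (pullback.snd fa (D.map (b ≫ j.hom))) :=
      MorphismProperty.pullback_snd (P := @IsOpenImmersion) _ _ hfa
    exact @isReduced_of_isOpenImmersion _ _ (pullback.snd fa (D.map (b ≫ j.hom))) hoi hk
  exact IsReduced.of_openCover _ (𝒰.pullback₂ (c.π.app i₀))

end General

/-- Reducedness descends along flat surjective morphisms. -/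
theorem isReduced_of_flat_of_surjective {X Y : Scheme.{u}} (f : X ⟶ Y) [Flat f] [Surjective f]
    [IsReduced X] : IsReduced Y := by
  have : ∀ y : Y, _root_.IsReduced (Y.presheaf.stalk y) := by
    intro y
    obtain ⟨x, rfl⟩ := f.surjective y
    have hinj : Function.Injective (f.stalkMap x).hom := by
      algebraize [(f.stalkMap x).hom]
      have : Module.FaithfullyFlat (Y.presheaf.stalk (f x)) (X.presheaf.stalk x) :=
        @Module.FaithfullyFlat.of_flat_of_isLocalHom _ _ _ _ _ _ _
          (Flat.stalkMap f x) (f.toLRSHom.prop x)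
      exact ‹RingHom.FaithfullyFlat _›.injective
    exact isReduced_of_injective (f.stalkMap x).hom hinj
  exact isReduced_of_isReduced_stalk Y

end Groth.Agent.H5.Lim
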