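import Groth.Prelude.Def_Mor2
import Mathlib

set_option autoImplicit false
universe u
open CategoryTheory CategoryTheory.Limits AlgebraicGeometry Topology TopologicalSpace

namespace Groth.Agent.H5.QA

/-- Quasi-affineness transfers between the sources of open immersions with the same range. -/
lemma isQuasiAffine_of_range_eq {X A A' : Scheme.{u}} (j : A ⟶ X) (j' : A' ⟶ X)
    [IsOpenImmersion j] [IsOpenImmersion j'] (he : Set.range j = Set.range j')
    [A'.IsQuasiAffine] : A.IsQuasiAffine :=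
  Scheme.IsQuasiAffine.of_isAffineHom (IsOpenImmersion.isoOfRangeEq j j' he).hom

/-- Quasi-affineness of an open subscheme only depends on the open subset. -/
lemma isQuasiAffine_of_opens_eq {X : Scheme.{u}} {U U' : X.Opens} (he : U = U')
    [h : (U' : Scheme.{u}).IsQuasiAffine] : (U : Scheme.{u}).IsQuasiAffine := by
  subst he; exact h

/-- A basic open of a quasi-affine open subscheme is quasi-affine. -/
lemma isQuasiAffine_basicOpen {X : Scheme.{u}} (U : X.Opens) [(U : Scheme.{u}).IsQuasiAffine]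
    (r : Γ(X, U)) : (X.basicOpen r : Scheme.{u}).IsQuasiAffine := by
  let B : (U : Scheme.{u}).Opens := (U : Scheme.{u}).basicOpen (U.topIso.inv r)
  have hB : (B : Scheme.{u}).IsQuasiAffine := Scheme.IsQuasiAffine.of_isAffineHom B.ι
  refine isQuasiAffine_of_range_eq (X.basicOpen r).ι (B.ι ≫ U.ι) ?_
  have h1 : (B.ι ≫ U.ι).opensRange = X.basicOpen r := by
    rw [Scheme.Hom.opensRange_comp, Scheme.Opens.opensRange_ι]
    exact Scheme.Opens.ι_image_basicOpen_topIso_inv U r
  have h2 : (X.basicOpen r).ι.opensRange = X.basicOpen r := Scheme.Opens.opensRange_ι _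
  exact congrArg (fun W : X.Opens => (W : Set X)) (h2.trans h1.symm)

/-- A quasi-compact scheme covered by quasi-affine basic opens of global sections is
quasi-affine. -/
theorem isQuasiAffine_of_forall_exists_basicOpen (Z : Scheme.{u}) [CompactSpace Z]
    (H : ∀ z : Z, ∃ g : Γ(Z, ⊤), z ∈ Z.basicOpen g ∧ (Z.basicOpen g : Scheme.{u}).IsQuasiAffine) :
    Z.IsQuasiAffine := by
  have hqs : QuasiSeparatedSpace Z := by
    choose g hzg hg using H
    refine .of_isOpenCover (U := (Z.basicOpen <| g ·))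
      (eq_top_iff.mpr fun _ _ ↦ Opens.mem_iSup.mpr ⟨_, hzg _⟩)
      (fun _ ↦ isRetrocompact_basicOpen _) (fun z ↦ ?_)
    have := hg z
    have hq : QuasiSeparatedSpace ↥(Z.basicOpen (g z) : Scheme.{u}) := inferInstance
    exact (isQuasiSeparated_iff_quasiSeparatedSpace _ (Z.basicOpen (g z)).2).mpr hq
  refine .of_forall_exists_mem_basicOpen _ fun z ↦ ?_
  obtain ⟨g, hzg, hg⟩ := H z
  let Q : Scheme.{u} := Z.basicOpen g
  let z' : Q := ⟨z, hzg⟩
  obtain ⟨_, ⟨_, ⟨t, ht, rfl⟩, rfl⟩, hzt, -⟩ := (Scheme.IsQuasiAffine.isBasis_basicOpen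
    Q).exists_subset_of_mem_open (Set.mem_univ z') isOpen_univ
  -- the affine open `W` of `Z`
  let W : Z.Opens := (Z.basicOpen g).ι ''ᵁ (Q.basicOpen t)
  have hW : IsAffineOpen W := ht.image_of_isOpenImmersion _
  have hzW : z ∈ W := ⟨z', hzt, rfl⟩
  let t' : Γ(Z, Z.basicOpen g) := (Z.basicOpen g).topIso.hom t
  have hWt : W = Z.basicOpen t' := by
    have := Scheme.Opens.ι_image_basicOpen_topIso_inv (Z.basicOpen g) t'
    rw [← this]
    change _ = (Z.basicOpen g).ι ''ᵁ Q.basicOpen ((Z.basicOpen g).topIso.inv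
      ((Z.basicOpen g).topIso.hom t))
    rw [← CommRingCat.comp_apply, Iso.hom_inv_id]
    rfl
  obtain ⟨n, s, hs⟩ := exists_eq_pow_mul_of_isCompact_of_isQuasiSeparated Z ⊤
    isCompact_univ isQuasiSeparated_univ g t'
  refine ⟨s * g, ?_, ?_⟩
  · suffices Z.basicOpen (s * g) = W by rw [this]; exact hW
    rw [hWt, Scheme.basicOpen_mul]
    have h1 : Z.basicOpen (s |_ Z.basicOpen g) = Z.basicOpen g ⊓ Z.basicOpen s :=
      Scheme.basicOpen_res _ _ _
    have h2 : Z.basicOpen ((g |_ Z.basicOpen g) ^ n * t') = Z.basicOpen t' := by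
      rw [Scheme.basicOpen_mul]
      have hu : IsUnit ((g |_ Z.basicOpen g) ^ n) :=
        (RingedSpace.isUnit_res_basicOpen _ g).pow n
      rw [Scheme.basicOpen_of_isUnit _ hu]
      exact inf_eq_right.mpr (Scheme.basicOpen_le _ _)
    rw [hs, h2] at h1
    rw [inf_comm, ← h1]
  · rw [Scheme.basicOpen_mul]
    refine ⟨?_, hzg⟩
    have h1 : Z.basicOpen (s |_ Z.basicOpen g) = Z.basicOpen g ⊓ Z.basicOpen s :=
      Scheme.basicOpen_res _ _ _
    have h2 : Z.basicOpen ((g |_ Z.basicOpen g) ^ n * t') = Z.basicOpen t' := by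
      rw [Scheme.basicOpen_mul]
      have hu : IsUnit ((g |_ Z.basicOpen g) ^ n) :=
        (RingedSpace.isUnit_res_basicOpen _ g).pow n
      rw [Scheme.basicOpen_of_isUnit _ hu]
      exact inf_eq_right.mpr (Scheme.basicOpen_le _ _)
    rw [hs, h2, ← hWt] at h1
    have : z ∈ Z.basicOpen g ⊓ Z.basicOpen s := h1 ▸ hzW
    exact this.2

/-- Quasi-affine morphisms are local on the target: a quasi-compact morphism such that the target
is covered by affine opens with quasi-affine preimages is quasi-affine. -/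
theorem isQuasiAffine_of_cover {X Y : Scheme.{u}} (f : X ⟶ Y) [QuasiCompact f]
    (H : ∀ y : Y, ∃ V : Y.Opens, IsAffineOpen V ∧ y ∈ V ∧
      (f ⁻¹ᵁ V : Scheme.{u}).IsQuasiAffine) : Mor2.IsQuasiAffine f := by
  refine ⟨inferInstance, fun W hW => ?_⟩
  let Z : Scheme.{u} := f ⁻¹ᵁ W
  have hZc : CompactSpace Z :=
    isCompact_iff_compactSpace.mp (QuasiCompact.isCompact_preimage (f := f) _ W.2 hW.isCompact)
  apply isQuasiAffine_of_forall_exists_basicOpen Z
  intro z
  obtain ⟨V, hV, hyV, hqV⟩ := H (f z.1)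
  obtain ⟨r, r', hrr', hyr⟩ := exists_basicOpen_le_affine_inter hW hV (f z.1) ⟨z.2, hyV⟩
  let g : Γ(Z, ⊤) := (f ⁻¹ᵁ W).topIso.inv (f.app W r)
  have himg : (f ⁻¹ᵁ W).ι ''ᵁ (Z.basicOpen g) = X.basicOpen (f.app W r) :=
    Scheme.Opens.ι_image_basicOpen_topIso_inv (f ⁻¹ᵁ W) (f.app W r)
  have hpre : X.basicOpen (f.app W r) = X.basicOpen (f.app V r') := by
    rw [← Scheme.preimage_basicOpen, ← Scheme.preimage_basicOpen, hrr']
  refine ⟨g, ?_, ?_⟩
  · have hz : z.1 ∈ X.basicOpen (f.app W r) := by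
      rw [← Scheme.preimage_basicOpen]; exact hyr
    rw [← himg] at hz
    obtain ⟨w, hw, hwz⟩ := hz
    have : w = z := Subtype.ext hwz
    rw [← this]; exact hw
  · have hq : (X.basicOpen (f.app V r') : Scheme.{u}).IsQuasiAffine :=
      isQuasiAffine_basicOpen (f ⁻¹ᵁ V) (f.app V r')
    refine isQuasiAffine_of_range_eq ((Z.basicOpen g).ι ≫ (f ⁻¹ᵁ W).ι)
      (X.basicOpen (f.app V r')).ι ?_
    have h1 : ((Z.basicOpen g).ι ≫ (f ⁻¹ᵁ W).ι).opensRange = X.basicOpen (f.app V r') := by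
      rw [Scheme.Hom.opensRange_comp, Scheme.Opens.opensRange_ι, himg, hpre]
    have h2 : (X.basicOpen (f.app V r')).ι.opensRange = X.basicOpen (f.app V r') :=
      Scheme.Opens.opensRange_ι _
    exact congrArg (fun W : X.Opens => (W : Set X)) (h1.trans h2.symm)

end Groth.Agent.H5.QA
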