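import Mathlib
import Groth.Prelude.Def_FEt
import Groth.Agent.Lib.Helper5.Lim.FGSub
import Groth.Agent.Lib.Helper5.Lim.DescendProps
set_option autoImplicit false
universe u
open CategoryTheory CategoryTheory.Limits AlgebraicGeometry MorphismProperty Opposite

namespace Groth.Agent.H5.Lim

section FEt

variable {I : Type u} [SmallCategory I] [IsCofiltered I]
    (D : I ⥤ Scheme.{u}) (c : Limits.Cone D) (hc : Limits.IsLimit c)
    [∀ (i j : I) (f : i ⟶ j), IsAffineHom (D.map f)] [∀ i, CompactSpace (D.obj i)]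
    [∀ i, QuasiSeparatedSpace (D.obj i)]

include hc in
theorem fet_essSurj (V : FEt.Cat c.pt) :
    ∃ (i : I) (Vi : FEt.Cat (D.obj i)), Nonempty ((FEt.restrict (c.π.app i)).obj Vi ≅ V) := by
  haveI : IsFinite V.hom := V.prop.1
  haveI : Etale V.hom := V.prop.2
  obtain ⟨j, ⟨M⟩⟩ := exists_model D c hc V.hom
  obtain ⟨k₁, φ₁, h₁⟩ := M.exists_property hc affineSystemDescent_etale ⟨M.lfp, M.qc, M.qs⟩
    (inferInstance : Etale V.hom)
  obtain ⟨k₂, φ₂, h₂⟩ := (M.bc φ₁).exists_property hc affineSystemDescent_isFinite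
    ⟨inferInstance, (M.bc φ₁).qc, (M.bc φ₁).qs⟩ (inferInstance : IsFinite V.hom)
  have h₁' : Etale ((M.bc φ₁).bc φ₂).p :=
    MorphismProperty.pullback_snd (P := @Etale) _ _ h₁
  let Vi : FEt.Cat (D.obj k₂) := MorphismProperty.Over.mk ⊤ ((M.bc φ₁).bc φ₂).p ⟨h₂, h₁'⟩
  refine ⟨k₂, Vi, ⟨MorphismProperty.Over.isoMk (((M.bc φ₁).bc φ₂).pb.isoPullback.symm) ?_⟩⟩
  exact IsPullback.isoPullback_inv_snd _

include hc in
theorem hom_eq_of_bc_eq (i : I) {V W : Scheme.{u}} (v : V ⟶ D.obj i) (w : W ⟶ D.obj i)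
    [QuasiCompact v] [LocallyOfFiniteType w] (φ ψ : V ⟶ W) (hφ : φ ≫ w = v) (hψ : ψ ≫ w = v)
    (h : pullback.fst v (c.π.app i) ≫ φ = pullback.fst v (c.π.app i) ≫ ψ) :
    ∃ k : Over i, pullback.fst v (D.map k.hom) ≫ φ = pullback.fst v (D.map k.hom) ≫ ψ := by
  have hDaff : ∀ {i j : I} (f : i ⟶ j), IsAffineHom (D.map f) := fun f => inferInstance
  haveI : CompactSpace V := QuasiCompact.compactSpace_of_compactSpace v
  haveI : ∀ j, CompactSpace ((bcDiagram D v).obj j) := fun j =>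
    compactSpace_bcDiagram_obj D v j (hDaff _)
  haveI : ∀ {j k : Over i} (f : j ⟶ k), IsAffineHom ((bcDiagram D v).map f) := fun f =>
    isAffineHom_bcMap D v f (hDaff _)
  let tt : bcDiagram D v ⟶ (Functor.const (Over i)).obj (D.obj i) :=
    bcDiagramFst D v ≫ (Functor.const (Over i)).map v
  let j₁ : Over i := Over.mk (𝟙 i)
  obtain ⟨k, hik, hk⟩ := Scheme.exists_hom_comp_eq_comp_of_locallyOfFiniteType
    (bcDiagram D v) tt w (bcCone D c v) (isLimitBcCone D c v hc) (i := j₁)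
    (pullback.fst v (D.map j₁.hom) ≫ φ) (pullback.fst v (D.map j₁.hom) ≫ ψ)
    (by
      change pullback.fst v (D.map j₁.hom) ≫ v = _
      rw [Category.assoc, hφ]
      rfl)
    (by
      change pullback.fst v (D.map j₁.hom) ≫ v = _
      rw [Category.assoc, hψ]
      rfl)
    (by
      change bcProj D c v j₁ ≫ _ ≫ _ = bcProj D c v j₁ ≫ _ ≫ _
      rw [bcProj_fst_assoc, bcProj_fst_assoc, h])
  refine ⟨k, ?_⟩
  change bcMap D v hik ≫ _ ≫ _ = bcMap D v hik ≫ _ ≫ _ at hk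
  rwa [bcMap_fst_assoc, bcMap_fst_assoc] at hk

include hc in
theorem fet_faithful (i : I) (Vi Wi : FEt.Cat (D.obj i)) (φ ψ : Vi ⟶ Wi)
    (h : (FEt.restrict (c.π.app i)).map φ = (FEt.restrict (c.π.app i)).map ψ) :
    ∃ (j : I) (a : j ⟶ i), (FEt.restrict (D.map a)).map φ = (FEt.restrict (D.map a)).map ψ := by
  have e1 : ((FEt.restrict (c.π.app i)).map φ).left ≫ pullback.fst Wi.hom (c.π.app i) =
      pullback.fst Vi.hom (c.π.app i) ≫ φ.left := pullback.lift_fst _ _ _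
  have e2 : ((FEt.restrict (c.π.app i)).map ψ).left ≫ pullback.fst Wi.hom (c.π.app i) =
      pullback.fst Vi.hom (c.π.app i) ≫ ψ.left := pullback.lift_fst _ _ _
  have h1 : pullback.fst Vi.hom (c.π.app i) ≫ φ.left =
      pullback.fst Vi.hom (c.π.app i) ≫ ψ.left := by rw [← e1, ← e2, h]
  have hfin : IsFinite Vi.hom := Vi.prop.1
  have hfinW : IsFinite Wi.hom := Wi.prop.1
  haveI : QuasiCompact (Vi.hom : Vi.left ⟶ D.obj i) := by
    haveI : IsFinite (Vi.hom : Vi.left ⟶ D.obj i) := hfin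
    infer_instance
  haveI : LocallyOfFiniteType (Wi.hom : Wi.left ⟶ D.obj i) := by
    haveI : IsFinite (Wi.hom : Wi.left ⟶ D.obj i) := hfinW
    infer_instance
  obtain ⟨k, hk⟩ := hom_eq_of_bc_eq D c hc i (Vi.hom : Vi.left ⟶ D.obj i)
    (Wi.hom : Wi.left ⟶ D.obj i) φ.left ψ.left (MorphismProperty.Over.w φ)
    (MorphismProperty.Over.w ψ) h1
  refine ⟨k.left, k.hom, ?_⟩
  apply MorphismProperty.Over.Hom.ext
  have f1 : ((FEt.restrict (D.map k.hom)).map φ).left ≫ pullback.fst Wi.hom (D.map k.hom) =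
      pullback.fst Vi.hom (D.map k.hom) ≫ φ.left := pullback.lift_fst _ _ _
  have f2 : ((FEt.restrict (D.map k.hom)).map ψ).left ≫ pullback.fst Wi.hom (D.map k.hom) =
      pullback.fst Vi.hom (D.map k.hom) ≫ ψ.left := pullback.lift_fst _ _ _
  have g1 : ((FEt.restrict (D.map k.hom)).map φ).left ≫ pullback.snd Wi.hom (D.map k.hom) =
      pullback.snd Vi.hom (D.map k.hom) := pullback.lift_snd _ _ _
  have g2 : ((FEt.restrict (D.map k.hom)).map ψ).left ≫ pullback.snd Wi.hom (D.map k.hom) =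
      pullback.snd Vi.hom (D.map k.hom) := pullback.lift_snd _ _ _
  apply pullback.hom_ext
  · exact (f1.trans hk).trans f2.symm
  · exact g1.trans g2.symm

end FEt

end Groth.Agent.H5.Lim
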