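import Groth.Agent.Lib.Helper2.ProConsLib
import Groth.Agent.Lib.Helper5.Lim.Points
import Mathlib

set_option autoImplicit false
universe u
open CategoryTheory CategoryTheory.Limits AlgebraicGeometry Topology
open Groth.Agent.H2.ConsTop Groth.Agent.H2.ProConsLib
open scoped Set.Notation

namespace Groth.Agent.H5.Lim

/-- Compactness of a quasi-compact scheme for the constructible topology: if an intersection of
pro-constructible sets is contained in a union of ind-constructible sets, finitely many of each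
suffice. -/
theorem exists_finite_of_sInter_subset_sUnion_scheme {X : Scheme.{u}} [CompactSpace X]
    {𝒜 ℬ : Set (Set X)} (h𝒜 : ∀ s ∈ 𝒜, ProCons.IsProConstructible s)
    (hℬ : ∀ s ∈ ℬ, ProCons.IsIndConstructible s) (h : ⋂₀ 𝒜 ⊆ ⋃₀ ℬ) :
    ∃ 𝒜' ℬ' : Set (Set X), 𝒜' ⊆ 𝒜 ∧ ℬ' ⊆ ℬ ∧ 𝒜'.Finite ∧ ℬ'.Finite ∧ ⋂₀ 𝒜' ⊆ ⋃₀ ℬ' := by
  classical
  obtain ⟨s, hsfin, hs⟩ := isCompact_and_isOpen_iff_finite_and_eq_biUnion_affineOpens.mp
    ⟨(CompactSpace.isCompact_univ : IsCompact (Set.univ : Set X)), isOpen_univ⟩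
  have key : ∀ V : X.affineOpens, ∃ 𝒜V ℬV : Set (Set X), 𝒜V ⊆ 𝒜 ∧ ℬV ⊆ ℬ ∧ 𝒜V.Finite ∧
      ℬV.Finite ∧ ∀ x ∈ (V : X.Opens), (∀ A ∈ 𝒜V, x ∈ A) → ∃ B ∈ ℬV, x ∈ B := by
    intro V
    obtain ⟨i1, i2, i3, i4⟩ := spectral_of_isAffineOpen V.2
    let r : Set X → Set ↥((V : X.Opens) : Set X) := fun A => ((V : X.Opens) : Set X) ↓∩ A
    have h1 : ∀ t ∈ r '' 𝒜, CC t := by
      rintro _ ⟨A, hA, rfl⟩
      exact cc_of_isProConstructible (V : X.Opens).isOpen (h𝒜 A hA)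
    have h2 : ∀ t ∈ r '' ℬ, CO t := by
      rintro _ ⟨B, hB, rfl⟩
      exact co_of_isIndConstructible (V : X.Opens).isOpen (hℬ B hB)
    have h3 : ⋂₀ (r '' 𝒜) ⊆ ⋃₀ (r '' ℬ) := by
      intro v hv
      have hv' : v.1 ∈ ⋂₀ 𝒜 := fun A hA => hv (r A) ⟨A, hA, rfl⟩
      obtain ⟨B, hB, hvB⟩ := h hv'
      exact ⟨r B, ⟨B, hB, rfl⟩, hvB⟩
    obtain ⟨𝒞', 𝒪', h𝒞', h𝒪', h𝒞fin, h𝒪fin, hsub⟩ :=
      exists_finite_of_sInter_subset_sUnion h1 h2 h3
    obtain ⟨𝒜V, h𝒜V, h𝒜Vfin, rfl⟩ :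
        ∃ t ⊆ 𝒜, t.Finite ∧ r '' t = 𝒞' := by
      have := (Set.exists_subset_image_finite_and (f := r) (s := 𝒜) (p := fun t => t = 𝒞')).mp
        ⟨𝒞', h𝒞', h𝒞fin, rfl⟩
      exact this
    obtain ⟨ℬV, hℬV, hℬVfin, rfl⟩ :
        ∃ t ⊆ ℬ, t.Finite ∧ r '' t = 𝒪' := by
      have := (Set.exists_subset_image_finite_and (f := r) (s := ℬ) (p := fun t => t = 𝒪')).mp
        ⟨𝒪', h𝒪', h𝒪fin, rfl⟩
      exact this
    refine ⟨𝒜V, ℬV, h𝒜V, hℬV, h𝒜Vfin, hℬVfin, fun x hxV hxA => ?_⟩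
    have hx : (⟨x, hxV⟩ : ↥((V : X.Opens) : Set X)) ∈ ⋂₀ (r '' 𝒜V) := by
      rintro _ ⟨A, hA, rfl⟩
      exact hxA A hA
    obtain ⟨_, ⟨B, hB, rfl⟩, hxB⟩ := hsub hx
    exact ⟨B, hB, hxB⟩
  choose 𝒜V ℬV h1 h2 h3 h4 h5 using key
  refine ⟨⋃ V ∈ s, 𝒜V V, ⋃ V ∈ s, ℬV V, Set.iUnion₂_subset fun V _ => h1 V,
    Set.iUnion₂_subset fun V _ => h2 V, hsfin.biUnion fun V _ => h3 V,
    hsfin.biUnion fun V _ => h4 V, ?_⟩
  intro x hx
  have hxu : x ∈ (Set.univ : Set X) := Set.mem_univ x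
  rw [hs] at hxu
  simp only [Set.mem_iUnion, exists_prop] at hxu
  obtain ⟨V, hVs, hxV⟩ := hxu
  obtain ⟨B, hB, hxB⟩ := h5 V x hxV (fun A hA => hx A (Set.mem_biUnion hVs hA))
  exact ⟨B, Set.mem_biUnion hVs hB, hxB⟩

lemma isProConstructible_univ {X : Scheme.{u}} : ProCons.IsProConstructible (Set.univ : Set X) :=
  (isLocallyConstructible_iff.mp IsConstructible.univ.isLocallyConstructible).2

lemma isProConstructible_range {X Y : Scheme.{u}} (f : X ⟶ Y) [QuasiCompact f] :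
    ProCons.IsProConstructible (Set.range f) := by
  rw [← Set.image_univ]
  exact isProConstructible_image f isProConstructible_univ

variable {I : Type u} [SmallCategory I] [IsCofiltered I] (D : I ⥤ Scheme.{u}) (c : Cone D)
  (hc : IsLimit c)

include hc in
/-- EGA IV 8.3.4: pro-constructible versus ind-constructible along a limit. -/
theorem sInter_subset_sUnion_iff_eventually
    [∀ (i j : I) (f : i ⟶ j), IsAffineHom (D.map f)] (i₀ : I)
    [CompactSpace (D.obj i₀)] (E F : ∀ i : I, Set (D.obj i))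
    (hE : ∀ i, ProCons.IsProConstructible (E i)) (hF : ∀ i, ProCons.IsIndConstructible (F i))
    (hEm : ∀ (i j : I) (φ : i ⟶ j), E i ⊆ (D.map φ) ⁻¹' E j)
    (hFm : ∀ (i j : I) (φ : i ⟶ j), (D.map φ) ⁻¹' F j ⊆ F i) :
    (⋂ i, (c.π.app i) ⁻¹' E i : Set c.pt) ⊆ (⋃ i, (c.π.app i) ⁻¹' F i : Set c.pt) ↔
      ∃ (i : I) (_ : i ⟶ i₀), ∀ (j : I) (_ : j ⟶ i), E j ⊆ F j := by
  classical
  constructor
  swap
  · rintro ⟨i, -, hi⟩ x hx
    simp only [Set.mem_iInter, Set.mem_preimage] at hx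
    exact Set.mem_iUnion.mpr ⟨i, hi i (𝟙 i) (hx i)⟩
  intro h
  have hcpt : CompactSpace c.pt := by
    have : QuasiCompact (c.π.app i₀) := by
      have := isAffineHom_π_app D c hc i₀
      infer_instance
    exact QuasiCompact.compactSpace_of_compactSpace (c.π.app i₀)
  -- pulled-back families
  have hEπ : ∀ (i j : I) (φ : i ⟶ j), (c.π.app i) ⁻¹' E i ⊆ (c.π.app j) ⁻¹' E j := by
    intro i j φ x hx
    have := hEm i j φ hx
    change D.map φ (c.π.app i x) ∈ E j at this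
    rwa [← Scheme.Hom.comp_apply, c.w] at this
  have hFπ : ∀ (i j : I) (φ : i ⟶ j), (c.π.app j) ⁻¹' F j ⊆ (c.π.app i) ⁻¹' F i := by
    intro i j φ x hx
    apply hFm i j φ
    change D.map φ (c.π.app i x) ∈ F j
    rwa [← Scheme.Hom.comp_apply, c.w]
  -- Step 1: compactness in the limit
  obtain ⟨𝒜', ℬ', h𝒜', hℬ', h𝒜fin, hℬfin, hsub⟩ :=
    exists_finite_of_sInter_subset_sUnion_scheme (X := c.pt)
      (𝒜 := Set.range fun i => (c.π.app i) ⁻¹' E i) (ℬ := Set.range fun i => (c.π.app i) ⁻¹' F i)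
      (by rintro _ ⟨i, rfl⟩; exact isProConstructible_preimage (c.π.app i) (hE i))
      (by rintro _ ⟨i, rfl⟩; exact isIndConstructible_preimage (c.π.app i) (hF i))
      (by
        intro x hx
        rw [Set.sInter_range] at hx
        have := h hx
        rwa [← Set.sUnion_range] at this)
  -- choose indices
  have hidxA : ∀ A ∈ 𝒜', ∃ i : I, (c.π.app i) ⁻¹' E i = A := fun A hA => h𝒜' hA
  have hidxB : ∀ B ∈ ℬ', ∃ i : I, (c.π.app i) ⁻¹' F i = B := fun B hB => hℬ' hB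
  let idxA : Set c.pt → I := fun A => if hA : A ∈ 𝒜' then (hidxA A hA).choose else i₀
  let idxB : Set c.pt → I := fun B => if hB : B ∈ ℬ' then (hidxB B hB).choose else i₀
  let O : Finset I := insert i₀ (h𝒜fin.toFinset.image idxA ∪ hℬfin.toFinset.image idxB)
  obtain ⟨j, hj⟩ := IsCofiltered.inf_objs_exists O
  let φ₀ : j ⟶ i₀ := (hj (Finset.mem_insert_self _ _)).some
  have hjsub : (c.π.app j) ⁻¹' E j ⊆ (c.π.app j) ⁻¹' F j := by
    intro x hx
    have hxA : x ∈ ⋂₀ 𝒜' := by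
      intro A hA
      have hmem : idxA A ∈ O := Finset.mem_insert_of_mem (Finset.mem_union_left _
        (Finset.mem_image_of_mem idxA (h𝒜fin.mem_toFinset.mpr hA)))
      have hidx : idxA A = (hidxA A hA).choose := dif_pos hA
      have hspec := (hidxA A hA).choose_spec
      rw [← hidx] at hspec
      rw [← hspec]
      exact hEπ j _ (hj hmem).some hx
    obtain ⟨B, hB, hxB⟩ := hsub hxA
    have hmem : idxB B ∈ O := Finset.mem_insert_of_mem (Finset.mem_union_right _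
      (Finset.mem_image_of_mem idxB (hℬfin.mem_toFinset.mpr hB)))
    have hidx : idxB B = (hidxB B hB).choose := dif_pos hB
    have hspec := (hidxB B hB).choose_spec
    rw [← hidx] at hspec
    rw [← hspec] at hxB
    exact hFπ j _ (hj hmem).some hxB
  -- Step 2: compactness at the stage `j`
  have hcptj : CompactSpace (D.obj j) := QuasiCompact.compactSpace_of_compactSpace (D.map φ₀)
  have hrange : E j ∩ Set.range (c.π.app j) ⊆ F j := by
    rintro _ ⟨hy, x, rfl⟩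
    exact hjsub hy
  rw [range_π_app D c hc j] at hrange
  let 𝒜j : Set (Set (D.obj j)) := insert (E j) (Set.range fun k : Over j => Set.range (D.map k.hom))
  obtain ⟨𝒜'', ℬ'', h𝒜'', hℬ'', h𝒜fin', -, hsub'⟩ :=
    exists_finite_of_sInter_subset_sUnion_scheme (X := D.obj j) (𝒜 := 𝒜j) (ℬ := {F j})
      (by
        rintro _ (rfl | ⟨k, rfl⟩)
        · exact hE j
        · exact isProConstructible_range (D.map k.hom))
      (by rintro _ rfl; exact hF j)
      (by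
        intro y hy
        rw [Set.sUnion_singleton]
        apply hrange
        refine ⟨hy (E j) (Set.mem_insert _ _), ?_⟩
        simp only [Set.mem_iInter]
        intro k φ
        exact hy _ (Set.mem_insert_of_mem _ ⟨Over.mk φ, rfl⟩))
  have hidxK : ∀ A ∈ 𝒜'', A ≠ E j → ∃ k : Over j, Set.range (D.map k.hom) = A := by
    intro A hA hne
    rcases h𝒜'' hA with rfl | ⟨k, rfl⟩
    · exact absurd rfl hne
    · exact ⟨k, rfl⟩
  let idxK : Set (D.obj j) → Over j := fun A =>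
    if hA : A ∈ 𝒜'' ∧ A ≠ E j then (hidxK A hA.1 hA.2).choose else Over.mk (𝟙 j)
  let O' : Finset (Over j) := h𝒜fin'.toFinset.image idxK
  obtain ⟨k, hk⟩ := IsCofiltered.inf_objs_exists O'
  have hkey : E j ∩ Set.range (D.map k.hom) ⊆ F j := by
    rintro y ⟨hyE, hyR⟩
    have hyA : y ∈ ⋂₀ 𝒜'' := by
      intro A hA
      by_cases hne : A = E j
      · rw [hne]; exact hyE
      · have hmem : idxK A ∈ O' := Finset.mem_image_of_mem idxK (h𝒜fin'.mem_toFinset.mpr hA)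
        have hidx : idxK A = (hidxK A hA hne).choose := dif_pos ⟨hA, hne⟩
        have hspec := (hidxK A hA hne).choose_spec
        rw [← hidx] at hspec
        rw [← hspec]
        obtain ⟨z, rfl⟩ := hyR
        let ψ : k ⟶ idxK A := (hk hmem).some
        refine ⟨D.map ψ.left z, ?_⟩
        rw [← Scheme.Hom.comp_apply, ← D.map_comp, Over.w ψ]
    obtain ⟨B, hB, hyB⟩ := hsub' hyA
    have : B = F j := hℬ'' hB
    rw [this] at hyB
    exact hyB
  refine ⟨k.left, k.hom ≫ φ₀, fun l ψ x hx => ?_⟩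
  apply hFm l j (ψ ≫ k.hom)
  apply hkey
  refine ⟨hEm l j (ψ ≫ k.hom) hx, D.map ψ x, ?_⟩
  rw [← Scheme.Hom.comp_apply, ← D.map_comp]

end Groth.Agent.H5.Lim
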