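import Groth.Agent.Lib.Helper5.Lim.Descend
import Mathlib

set_option autoImplicit false
universe u
open CategoryTheory CategoryTheory.Limits AlgebraicGeometry MorphismProperty Topology

namespace Groth.Agent.H5.Lim

section

variable {I : Type u} [SmallCategory I] [IsCofiltered I] (D : I ⥤ Scheme.{u}) (c : Cone D)
  (hc : IsLimit c) [∀ (i j : I) (f : i ⟶ j), IsAffineHom (D.map f)]

include hc in
/-- Locally closed pieces with empty preimage in the limit have empty preimage at a finite stage. -/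
lemma exists_preimage_sdiff_eq_empty (i₀ : I) (U V : (D.obj i₀).Opens)
    (hU : IsCompact (U : Set (D.obj i₀)))
    (h : (c.π.app i₀) ⁻¹' ((U : Set (D.obj i₀)) \ V) = ∅) :
    ∃ k : Over i₀, (D.map k.hom) ⁻¹' ((U : Set (D.obj i₀)) \ V) = ∅ := by
  by_contra! H
  have hDaff : ∀ {i j : I} (f : i ⟶ j), IsAffineHom (D.map f) := fun f => inferInstance
  let ι := opensDiagramι D i₀ U
  let Z : ∀ k : Over i₀, Set ((opensDiagram D i₀ U).obj k) := fun k =>
    (ι.app k ≫ D.map k.hom) ⁻¹' (V : Set (D.obj i₀))ᶜ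
  have hZc : ∀ k, IsClosed (Z k) := fun k =>
    V.2.isClosed_compl.preimage (Scheme.Hom.continuous _)
  have hcomp : ∀ k : Over i₀, CompactSpace ((opensDiagram D i₀ U).obj k) := fun k =>
    isCompact_iff_compactSpace.mp ((D.map k.hom).isCompact_preimage hU)
  have hZne : ∀ k, (Z k).Nonempty := fun k => by
    obtain ⟨x, hx⟩ := H k
    exact ⟨⟨x, hx.1⟩, hx.2⟩
  have hZcpt : ∀ k, IsCompact (Z k) := fun k => (hZc k).isCompact
  have hmapsTo : ∀ {k k' : Over i₀} (f : k ⟶ k'),
      Set.MapsTo ((opensDiagram D i₀ U).map f) (Z k) (Z k') := by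
    intro k k' f x hx
    change (ι.app k' ≫ D.map k'.hom) ((opensDiagram D i₀ U).map f x) ∉ V
    have e : (opensDiagram D i₀ U).map f ≫ ι.app k' ≫ D.map k'.hom = ι.app k ≫ D.map k.hom := by
      rw [ι.naturality_assoc f]
      have : D.map f.left ≫ D.map k'.hom = D.map k.hom := by rw [← D.map_comp, Over.w f]
      exact congrArg (ι.app k ≫ ·) this
    rw [← Scheme.Hom.comp_apply, e]
    exact hx
  obtain ⟨s, hs⟩ := exists_mem_of_isClosed_of_nonempty (opensDiagram D i₀ U) (opensCone D c i₀ U)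
    (isLimitOpensCone D c hc i₀ U) Z hZc hZne hZcpt hmapsTo
  have h1 := hs (Over.mk (𝟙 i₀))
  have h2 : c.π.app i₀ ((c.π.app i₀ ⁻¹ᵁ U).ι s) ∈ ((U : Set (D.obj i₀)) \ V) := by
    refine ⟨s.2, ?_⟩
    have e : (opensCone D c i₀ U).π.app (Over.mk (𝟙 i₀)) ≫
        ι.app (Over.mk (𝟙 i₀)) ≫ D.map (Over.mk (𝟙 i₀)).hom =
        (c.π.app i₀ ⁻¹ᵁ U).ι ≫ c.π.app i₀ := by
      have : (opensCone D c i₀ U).π.app (Over.mk (𝟙 i₀)) ≫ ι.app (Over.mk (𝟙 i₀)) =
        (c.π.app i₀ ⁻¹ᵁ U).ι ≫ c.π.app i₀ := Scheme.Hom.resLE_comp_ι _ _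
      rw [reassoc_of% this]
      simp
    rw [← Scheme.Hom.comp_apply, ← e]
    exact h1
  have : (c.π.app i₀ ⁻¹ᵁ U).ι s ∈ (c.π.app i₀) ⁻¹' ((U : Set (D.obj i₀)) \ V) := h2
  rw [h] at this
  exact this

omit [IsCofiltered I] [∀ (i j : I) (f : i ⟶ j), IsAffineHom (D.map f)] in
lemma preimage_eq_empty_of_hom {i₀ : I} {k k' : Over i₀} (f : k' ⟶ k) (s : Set (D.obj i₀))
    (h : (D.map k.hom) ⁻¹' s = ∅) : (D.map k'.hom) ⁻¹' s = ∅ := by
  have e : D.map k'.hom = D.map f.left ≫ D.map k.hom := by rw [← D.map_comp, Over.w f]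
  rw [e, Scheme.Hom.comp_base, TopCat.coe_comp, Set.preimage_comp, h, Set.preimage_empty]

include hc in
/-- A constructible subset of a qcqs stage with empty preimage in the limit has empty preimage
at a finite stage. -/
theorem exists_preimage_eq_empty_of_isConstructible (i₀ : I) [CompactSpace (D.obj i₀)]
    [QuasiSeparatedSpace (D.obj i₀)] (s : Set (D.obj i₀)) (hs : IsConstructible s)
    (h : (c.π.app i₀) ⁻¹' s = ∅) : ∃ k : Over i₀, (D.map k.hom) ⁻¹' s = ∅ := by
  classical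
  have : Nonempty (D.obj i₀).affineOpens := ⟨⟨⊥, isAffineOpen_bot _⟩⟩
  revert h
  induction s, hs using IsConstructible.induction_of_isTopologicalBasis
    (fun U : (D.obj i₀).affineOpens => (U.1 : Set (D.obj i₀))) with
  | basis =>
    have := (D.obj i₀).isBasis_affineOpens
    unfold TopologicalSpace.Opens.IsBasis at this
    convert this using 1
    ext t
    simp
  | isCompact_basis U => exact U.2.isCompact
  | sdiff U F hF =>
    intro h
    let V : (D.obj i₀).Opens := ⨆ j ∈ F, j.1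
    have hV : (V : Set (D.obj i₀)) = ⋃ j ∈ F, (j.1 : Set (D.obj i₀)) := by
      simp [V]
    rw [← hV] at h ⊢
    exact exists_preimage_sdiff_eq_empty D c hc i₀ U.1 V U.2.isCompact h
  | union s hs t ht ihs iht =>
    intro h
    rw [Set.preimage_union, Set.union_empty_iff] at h
    obtain ⟨k₁, hk₁⟩ := ihs h.1
    obtain ⟨k₂, hk₂⟩ := iht h.2
    refine ⟨IsCofiltered.min k₁ k₂, ?_⟩
    rw [Set.preimage_union, Set.union_empty_iff]
    exact ⟨preimage_eq_empty_of_hom D (IsCofiltered.minToLeft k₁ k₂) s hk₁,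
      preimage_eq_empty_of_hom D (IsCofiltered.minToRight k₁ k₂) t hk₂⟩

end

lemma surjective_snd_iff {X S T : Scheme.{u}} (f : X ⟶ S) (a : T ⟶ S) :
    Surjective (pullback.snd f a) ↔ a ⁻¹' (Set.range f)ᶜ = ∅ := by
  rw [surjective_iff, ← Set.range_eq_univ, Scheme.Pullback.range_snd, Set.preimage_compl,
    Set.compl_empty_iff]

/-- Surjectivity descends along cofiltered limits of affine schemes. -/
theorem affineSystemDescent_surjective : AffineSystemDescent.{u} @Surjective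
    (@LocallyOfFinitePresentation ⊓ (@QuasiCompact ⊓ @QuasiSeparated)) := by
  intro J _ _ E cE hcE _ j₁ Z₀ h₀ hΦ hP
  have : LocallyOfFinitePresentation h₀ := hΦ.1
  have : QuasiCompact h₀ := hΦ.2.1
  have hs : IsConstructible (Set.range h₀)ᶜ := by
    rw [← Set.image_univ]
    exact (h₀.isConstructible_image IsConstructible.univ).compl
  rw [surjective_snd_iff] at hP
  obtain ⟨k, hk⟩ := exists_preimage_eq_empty_of_isConstructible E cE hcE j₁ _ hs hP
  exact ⟨k.left, k.hom, (surjective_snd_iff _ _).mpr hk⟩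

end Groth.Agent.H5.Lim
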