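import Groth.Agent.Lib.Helper5.Lim.Constructible
import Mathlib

set_option autoImplicit false
universe u
open CategoryTheory CategoryTheory.Limits AlgebraicGeometry Topology

namespace Groth.Agent.H5.Lim

section Eq

variable {I : Type u} [SmallCategory I] [IsCofiltered I] (D : I ⥤ Scheme.{u}) (c : Cone D)
  (hc : IsLimit c)

include hc in
/-- Two constructible subsets of a qcqs stage with the same preimage in the limit have the same
preimage at a finite stage. -/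
theorem exists_preimage_eq_of_isConstructible [∀ (i j : I) (f : i ⟶ j), IsAffineHom (D.map f)]
    (i : I) [CompactSpace (D.obj i)] [QuasiSeparatedSpace (D.obj i)] (A B : Set (D.obj i))
    (hA : IsConstructible A) (hB : IsConstructible B)
    (h : (c.π.app i) ⁻¹' A = (c.π.app i) ⁻¹' B) :
    ∃ k : Over i, (D.map k.hom) ⁻¹' A = (D.map k.hom) ⁻¹' B := by
  have hs : IsConstructible ((A \ B) ∪ (B \ A)) := (hA.sdiff hB).union (hB.sdiff hA)
  have hempty : (c.π.app i) ⁻¹' ((A \ B) ∪ (B \ A)) = ∅ := by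
    rw [Set.preimage_union, Set.preimage_diff, Set.preimage_diff, h]
    simp
  obtain ⟨k, hk⟩ := exists_preimage_eq_empty_of_isConstructible D c hc i _ hs hempty
  refine ⟨k, ?_⟩
  rw [Set.preimage_union, Set.preimage_diff, Set.preimage_diff, Set.union_empty_iff,
    Set.diff_eq_empty, Set.diff_eq_empty] at hk
  exact Set.Subset.antisymm hk.1 hk.2

include hc in
/-- Generic qcqs step: if `Q`-constructible subsets of the limit come from `Q`-constructible
subsets of a stage, then `Q` of a preimage of a constructible set descends. -/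
theorem exists_Q_preimage_of_qcqs {Q : ∀ (X : Scheme.{u}), Set X → Prop}
    (hpre : ∀ {X Y : Scheme.{u}} (f : X ⟶ Y) (S : Set Y), Q Y S → Q X (f ⁻¹' S))
    [∀ (i j : I) (f : i ⟶ j), IsAffineHom (D.map f)]
    (i₁ : I) [CompactSpace (D.obj i₁)] [QuasiSeparatedSpace (D.obj i₁)]
    (hdesc : ∀ Z : Set c.pt, IsConstructible Z → Q c.pt Z →
      ∃ (k : Over i₁) (Zk : Set (D.obj k.left)), IsConstructible Zk ∧ Q (D.obj k.left) Zk ∧
        (c.π.app k.left) ⁻¹' Zk = Z)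
    (Z₁ : Set (D.obj i₁)) (hZ₁ : IsConstructible Z₁) (h : Q c.pt ((c.π.app i₁) ⁻¹' Z₁)) :
    ∃ k : Over i₁, Q (D.obj k.left) ((D.map k.hom) ⁻¹' Z₁) := by
  obtain ⟨k, Zk, hZk, hQ, hk⟩ := hdesc _ ((c.π.app i₁).isConstructible_preimage hZ₁) h
  have : CompactSpace (D.obj k.left) := compactSpace_of_over D k
  have : QuasiSeparatedSpace (D.obj k.left) := quasiSeparatedSpace_of_over D k
  have heq : (c.π.app k.left) ⁻¹' Zk = (c.π.app k.left) ⁻¹' ((D.map k.hom) ⁻¹' Z₁) := by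
    rw [hk, preimage_π_app_map]
  obtain ⟨k', hk'⟩ := exists_preimage_eq_of_isConstructible D c hc k.left Zk _ hZk
    ((D.map k.hom).isConstructible_preimage hZ₁) heq
  refine ⟨Over.mk (k'.hom ≫ k.hom), ?_⟩
  have e : (D.map (Over.mk (k'.hom ≫ k.hom)).hom) ⁻¹' Z₁ =
      (D.map k'.hom) ⁻¹' ((D.map k.hom) ⁻¹' Z₁) := by
    change (D.map (k'.hom ≫ k.hom)) ⁻¹' Z₁ = _
    rw [D.map_comp, Scheme.Hom.comp_base, TopCat.coe_comp, Set.preimage_comp]
  rw [e, ← hk']
  exact hpre _ _ hQ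

end Eq

end Groth.Agent.H5.Lim

namespace Groth.Agent.H5.Lim

section Reduce

variable {I : Type u} [SmallCategory I] [IsCofiltered I] (D : I ⥤ Scheme.{u}) (c : Cone D)
  (hc : IsLimit c)

include hc in
/-- Reduction from a quasi-compact stage to a qcqs stage, for properties of subsets that are
stable under preimages and local on open covers. -/
theorem exists_Q_preimage_of_compact {Q : ∀ (X : Scheme.{u}), Set X → Prop}
    (hpre : ∀ {X Y : Scheme.{u}} (f : X ⟶ Y) (S : Set Y), Q Y S → Q X (f ⁻¹' S))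
    (hloc : ∀ (X : Scheme.{u}) (S : Set X) (𝒰 : Scheme.OpenCover.{u} X),
      (∀ a, Q (𝒰.X a) ((𝒰.f a) ⁻¹' S)) → Q X S)
    (hqcqs : ∀ {J : Type u} [SmallCategory J] [IsCofiltered J] (E : J ⥤ Scheme.{u})
      (cE : Cone E) (_ : IsLimit cE) [∀ (i j : J) (f : i ⟶ j), IsAffineHom (E.map f)] (j₁ : J)
      [CompactSpace (E.obj j₁)] [QuasiSeparatedSpace (E.obj j₁)] (Z₁ : Set (E.obj j₁)),
      IsConstructible Z₁ → Q cE.pt ((cE.π.app j₁) ⁻¹' Z₁) →
      ∃ k : Over j₁, Q (E.obj k.left) ((E.map k.hom) ⁻¹' Z₁))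
    [∀ (i j : I) (f : i ⟶ j), IsAffineHom (D.map f)] (i₁ : I) [CompactSpace (D.obj i₁)]
    (Z₁ : Set (D.obj i₁)) (hZ₁ : IsConstructible Z₁) (h : Q c.pt ((c.π.app i₁) ⁻¹' Z₁)) :
    ∃ k : Over i₁, Q (D.obj k.left) ((D.map k.hom) ⁻¹' Z₁) := by
  classical
  have hDaff : ∀ {i j : I} (f : i ⟶ j), IsAffineHom (D.map f) := fun f => inferInstance
  let 𝒰 := (D.obj i₁).affineCover.finiteSubcover
  have h𝒰 : ∀ a, IsAffine (𝒰.X a) := fun a => by
    dsimp [𝒰]; infer_instance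
  -- the step for one member of the cover
  have key : ∀ a, ∃ k : Over i₁, Q (pullback (𝒰.f a) (D.map k.hom))
      ((pullback.snd (𝒰.f a) (D.map k.hom)) ⁻¹' ((D.map k.hom) ⁻¹' Z₁)) := by
    intro a
    let fa := 𝒰.f a
    have h3 : ∀ (j k : Over i₁) (φ : j ⟶ k), IsAffineHom ((bcDiagram D fa).map φ) := fun j k φ =>
      isAffineHom_bcMap D fa φ (hDaff _)
    let j₁ : Over i₁ := Over.mk (𝟙 i₁)
    have hj₁ : IsAffine ((bcDiagram D fa).obj j₁) := isAffine_bcDiagram_obj D fa j₁ (hDaff _)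
    let Za : Set ((bcDiagram D fa).obj j₁) :=
      (pullback.fst fa (D.map j₁.hom)) ⁻¹' (fa ⁻¹' Z₁)
    have hZa : IsConstructible Za :=
      (pullback.fst fa (D.map j₁.hom)).isConstructible_preimage (fa.isConstructible_preimage hZ₁)
    have hQa : Q (bcCone D c fa).pt (((bcCone D c fa).π.app j₁) ⁻¹' Za) := by
      have e : ((bcCone D c fa).π.app j₁) ⁻¹' Za =
          (pullback.snd fa (c.π.app i₁)) ⁻¹' ((c.π.app i₁) ⁻¹' Z₁) := by
        change (bcProj D c fa j₁) ⁻¹' ((pullback.fst fa (D.map j₁.hom)) ⁻¹' (fa ⁻¹' Z₁)) = _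
        rw [← Set.preimage_comp, ← Set.preimage_comp, ← Set.preimage_comp, ← TopCat.coe_comp,
          ← TopCat.coe_comp, ← TopCat.coe_comp, ← Scheme.Hom.comp_base, ← Scheme.Hom.comp_base,
          ← Scheme.Hom.comp_base, bcProj_fst, pullback.condition]
      rw [e]
      exact hpre _ _ h
    obtain ⟨k, hk⟩ := hqcqs (bcDiagram D fa) (bcCone D c fa) (isLimitBcCone D c fa hc) j₁ Za hZa hQa
    refine ⟨k.left, ?_⟩
    have e : ((bcDiagram D fa).map k.hom) ⁻¹' Za =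
        (pullback.snd fa (D.map k.left.hom)) ⁻¹' ((D.map k.left.hom) ⁻¹' Z₁) := by
      change (bcMap D fa k.hom) ⁻¹' ((pullback.fst fa (D.map j₁.hom)) ⁻¹' (fa ⁻¹' Z₁)) = _
      rw [← Set.preimage_comp, ← Set.preimage_comp, ← Set.preimage_comp, ← TopCat.coe_comp,
        ← TopCat.coe_comp, ← TopCat.coe_comp, ← Scheme.Hom.comp_base, ← Scheme.Hom.comp_base,
        ← Scheme.Hom.comp_base, bcMap_fst, pullback.condition]
    rw [e] at hk
    exact hk
  choose ka hka using key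
  obtain ⟨k, hk⟩ := IsCofiltered.inf_objs_exists (Finset.univ.image ka)
  refine ⟨k, hloc _ _ (𝒰.pullback₂ (D.map k.hom)) fun (a : 𝒰.I₀) => ?_⟩
  let ψ : k ⟶ ka a := (hk (Finset.mem_image_of_mem ka (Finset.mem_univ a))).some
  have em : pullback.snd (𝒰.f a) (D.map k.hom) ≫ D.map k.hom =
      bcMap D (𝒰.f a) ψ ≫ pullback.snd (𝒰.f a) (D.map (ka a).hom) ≫ D.map (ka a).hom := by
    rw [bcMap_snd_assoc, ← D.map_comp, Over.w]
  have e : ((𝒰.pullback₂ (D.map k.hom)).f a) ⁻¹' ((D.map k.hom) ⁻¹' Z₁) =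
      (bcMap D (𝒰.f a) ψ) ⁻¹' ((pullback.snd (𝒰.f a) (D.map (ka a).hom)) ⁻¹'
        ((D.map (ka a).hom) ⁻¹' Z₁)) := by
    change (pullback.snd (𝒰.f a) (D.map k.hom)) ⁻¹' ((D.map k.hom) ⁻¹' Z₁) = _
    rw [← Set.preimage_comp, ← Set.preimage_comp, ← Set.preimage_comp, ← TopCat.coe_comp,
      ← TopCat.coe_comp, ← TopCat.coe_comp, ← Scheme.Hom.comp_base, ← Scheme.Hom.comp_base,
      ← Scheme.Hom.comp_base, em, Category.assoc]
  rw [e]
  exact hpre _ _ (hka a)

end Reduce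

end Groth.Agent.H5.Lim

namespace Groth.Agent.H5.Lim

lemma isOpen_of_openCover (X : Scheme.{u}) (S : Set X) (𝒰 : Scheme.OpenCover.{u} X)
    (h : ∀ a, IsOpen ((𝒰.f a) ⁻¹' S)) : IsOpen S := by
  rw [isOpen_iff_forall_mem_open]
  intro x hx
  obtain ⟨a, y, rfl⟩ := 𝒰.exists_eq x
  refine ⟨(𝒰.f a) '' ((𝒰.f a) ⁻¹' S), Set.image_preimage_subset _ _,
    (𝒰.f a).isOpenEmbedding.isOpenMap _ (h a), ⟨y, hx, rfl⟩⟩

lemma isLocallyClosed_of_openCover (X : Scheme.{u}) (S : Set X) (𝒰 : Scheme.OpenCover.{u} X)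
    (h : ∀ a, IsLocallyClosed ((𝒰.f a) ⁻¹' S)) : IsLocallyClosed S := by
  rw [isLocallyClosed_iff_isOpen_coborder]
  refine isOpen_of_openCover X _ 𝒰 fun a => ?_
  rw [← (𝒰.f a).isOpenEmbedding.coborder_preimage]
  exact (isLocallyClosed_iff_isOpen_coborder.mp (h a))

variable {I : Type u} [SmallCategory I] [IsCofiltered I] (D : I ⥤ Scheme.{u}) (c : Cone D)
  (hc : IsLimit c)

include hc in
/-- EGA IV 8.3.11 for open sets: the preimage in the limit of a constructible subset of a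
quasi-compact stage is open iff it is so at a finite stage. -/
theorem exists_isOpen_preimage [∀ (i j : I) (f : i ⟶ j), IsAffineHom (D.map f)] (i₁ : I)
    [CompactSpace (D.obj i₁)] (Z₁ : Set (D.obj i₁)) (hZ₁ : IsConstructible Z₁)
    (h : IsOpen ((c.π.app i₁) ⁻¹' Z₁)) : ∃ k : Over i₁, IsOpen ((D.map k.hom) ⁻¹' Z₁) := by
  refine exists_Q_preimage_of_compact (Q := fun X S => IsOpen S) D c hc
    (fun f S hS => hS.preimage f.continuous) isOpen_of_openCover ?_ i₁ Z₁ hZ₁ h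
  intro J _ _ E cE hcE _ j₁ _ _ Z hZ hQ
  refine exists_Q_preimage_of_qcqs (Q := fun X S => IsOpen S) E cE hcE
    (fun f S hS => hS.preimage f.continuous) j₁ ?_ Z hZ hQ
  intro Z' hZ' hZ'o
  have : CompactSpace cE.pt := compactSpace_pt_of_compactSpace E cE hcE j₁
  have : QuasiSeparatedSpace cE.pt := quasiSeparatedSpace_pt_of_quasiSeparatedSpace E cE hcE j₁
  obtain ⟨k, V, hV, hVU⟩ := exists_over_preimage_eq E cE hcE j₁ ⟨Z', hZ'o⟩
    (isCompact_of_isConstructible hZ')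
  have : QuasiSeparatedSpace (E.obj k.left) := quasiSeparatedSpace_of_over E k
  exact ⟨k, V, hV.isConstructible V.2, V.2,
    congrArg (fun W : cE.pt.Opens => (W : Set cE.pt)) hVU⟩

include hc in
/-- EGA IV 8.3.11 for locally closed sets. -/
theorem exists_isLocallyClosed_preimage [∀ (i j : I) (f : i ⟶ j), IsAffineHom (D.map f)]
    (i₁ : I) [CompactSpace (D.obj i₁)] (Z₁ : Set (D.obj i₁)) (hZ₁ : IsConstructible Z₁)
    (h : IsLocallyClosed ((c.π.app i₁) ⁻¹' Z₁)) :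
    ∃ k : Over i₁, IsLocallyClosed ((D.map k.hom) ⁻¹' Z₁) := by
  refine exists_Q_preimage_of_compact (Q := fun X S => IsLocallyClosed S) D c hc
    (fun f S hS => hS.preimage f.continuous) isLocallyClosed_of_openCover ?_ i₁ Z₁ hZ₁ h
  intro J _ _ E cE hcE _ j₁ _ _ Z hZ hQ
  refine exists_Q_preimage_of_qcqs (Q := fun X S => IsLocallyClosed S) E cE hcE
    (fun f S hS => hS.preimage f.continuous) j₁ ?_ Z hZ hQ
  intro Z' hZ' hZ'l
  exact exists_isLocallyClosed_isConstructible_preimage_eq E cE hcE j₁ Z' hZ' hZ'l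

end Groth.Agent.H5.Lim
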