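import Mathlib.Algebra.Category.Ring.FinitePresentation
import Mathlib.CategoryTheory.Comma.Over.Basic
import Mathlib.CategoryTheory.Limits.Constructions.Over.Connected
import Mathlib.CategoryTheory.Limits.Types.Filtered
import Mathlib.CategoryTheory.Filtered.Connected
import Mathlib.Order.Directed
import Mathlib.Algebra.Category.Ring.FilteredColimits
import Mathlib.Algebra.Category.Ring.Colimits

set_option autoImplicit false
universe u
open CategoryTheory CategoryTheory.Limits Opposite

namespace Groth.Agent.H5.FPConv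

variable {A : CommRingCat.{u}} {J : Type u} [Preorder J] [IsDirected J (· ≤ ·)] [Nonempty J]

attribute [local instance] IsFiltered.isConnected

noncomputable def isColimitUnderOfForget (F : J ⥤ Under A) (c : Cocone F)
    (hsurj : ∀ x : c.pt.right, ∃ (j : J) (y : (F.obj j).right), (c.ι.app j).right y = x)
    (hinj : ∀ (j : J) (x y : (F.obj j).right), (c.ι.app j).right x = (c.ι.app j).right y →
      ∃ (k : J) (e : j ⟶ k), (F.map e).right x = (F.map e).right y) : IsColimit c := by
  apply isColimitOfReflects (Under.forget A)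
  haveI : PreservesColimitsOfShape J (forget CommRingCat.{u}) :=
    PreservesFilteredColimitsOfSize.preserves_filtered_colimits J
  haveI : ReflectsColimit (F ⋙ Under.forget A) (forget CommRingCat) :=
    reflectsColimit_of_reflectsIsomorphisms _ _
  apply isColimitOfReflects (forget CommRingCat)
  refine Types.FilteredColimit.isColimitOf' _ _ ?_ ?_
  · intro x
    obtain ⟨j, y, hy⟩ := hsurj x
    exact ⟨j, y, hy.symm⟩
  · intro j x y hxy
    exact hinj j x y hxy

omit [IsDirected J (· ≤ ·)] [Nonempty J] in
/-- if `Hom(Under.mk f, -)` preserves the colimit `c`, every map to `c.pt` factors. -/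
lemma exists_factor {B : CommRingCat.{u}} (f : A ⟶ B) (F : J ⥤ Under A)
    [PreservesColimit F (coyoneda.obj (op (Under.mk f)))] (c : Cocone F) (hc : IsColimit c)
    (g : Under.mk f ⟶ c.pt) : ∃ (j : J) (s : Under.mk f ⟶ F.obj j), s ≫ c.ι.app j = g := by
  obtain ⟨j, s, hs⟩ := Types.jointly_surjective_of_isColimit
    (isColimitOfPreserves (coyoneda.obj (op (Under.mk f))) hc) g
  exact ⟨j, s, hs⟩

section FG

variable {B : CommRingCat.{u}} (f : A ⟶ B)

/-- index poset of finitely generated subalgebras -/
abbrev FGSub : Type u :=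
  letI := f.hom.toAlgebra
  {S : Subalgebra A B // S.FG}

instance : IsDirected (FGSub f) (· ≤ ·) :=
  letI := f.hom.toAlgebra
  ⟨fun S T => ⟨⟨S.1 ⊔ T.1, S.2.sup T.2⟩, le_sup_left (a := S.1), le_sup_right (b := T.1)⟩⟩

instance : Nonempty (FGSub f) :=
  letI := f.hom.toAlgebra
  ⟨⟨⊥, Subalgebra.fg_bot⟩⟩

/-- the system of f.g. subalgebras -/
noncomputable def fgDiagram : FGSub f ⥤ Under A :=
  letI := f.hom.toAlgebra
  { obj := fun S => Under.mk (CommRingCat.ofHom (algebraMap A S.1))
    map := fun {S T} h => Under.homMk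
      (CommRingCat.ofHom (Subalgebra.inclusion (leOfHom h)).toRingHom) (by ext; rfl)
    map_id := fun S => by ext; rfl
    map_comp := fun h h' => by ext; rfl }

noncomputable def fgCocone : Cocone (fgDiagram f) :=
  letI := f.hom.toAlgebra
  { pt := Under.mk f
    ι :=
      { app := fun S => Under.homMk (CommRingCat.ofHom S.1.val.toRingHom) (by ext; rfl)
        naturality := fun S T h => by ext; rfl } }

theorem finiteType_of_preserves
    (h : ∀ (J : Type u) [Preorder J] [IsDirected J (· ≤ ·)] [Nonempty J] (F : J ⥤ Under A),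
      PreservesColimit F (coyoneda.obj (op (Under.mk f)))) : f.hom.FiniteType := by
  letI := f.hom.toAlgebra
  have hc : IsColimit (fgCocone f) := by
    apply isColimitUnderOfForget
    · intro x
      change B at x
      refine ⟨⟨Algebra.adjoin A {x}, ⟨{x}, by rw [Finset.coe_singleton]⟩⟩,
        ⟨x, Algebra.subset_adjoin (Set.mem_singleton x)⟩, rfl⟩
    · intro S x y hxy
      exact ⟨S, 𝟙 S, by rw [(fgDiagram f).map_id]; exact congrArg _ (Subtype.ext hxy)⟩
  haveI := h (FGSub f) (fgDiagram f)
  obtain ⟨S, s, hs⟩ := exists_factor f (fgDiagram f) (fgCocone f) hc (𝟙 _)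
  have hsurj : Function.Surjective S.1.val := by
    intro b
    refine ⟨s.right.hom b, ?_⟩
    have := congrArg (fun t : Under.mk f ⟶ Under.mk f => t.right.hom b) hs
    exact this
  have htop : S.1 = ⊤ := by
    rw [eq_top_iff]
    intro b _
    obtain ⟨x, rfl⟩ := hsurj b
    exact x.2
  show Algebra.FiniteType A B
  exact ⟨htop ▸ S.2⟩

end FG

section FP

variable {B : CommRingCat.{u}} (f : A ⟶ B) {n : ℕ} (π : MvPolynomial (Fin n) A →+* B)

/-- index poset: f.g. ideals inside `ker π`. -/
abbrev FGIdeal : Type u :=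
  {K : Ideal (MvPolynomial (Fin n) A) // K.FG ∧ K ≤ RingHom.ker π}

instance fgIdeal_isDirected : IsDirected (FGIdeal π) (· ≤ ·) :=
  ⟨fun K K' => ⟨⟨K.1 ⊔ K'.1, Submodule.FG.sup K.2.1 K'.2.1, sup_le K.2.2 K'.2.2⟩,
    le_sup_left (a := K.1), le_sup_right (b := K'.1)⟩⟩

instance fgIdeal_nonempty : Nonempty (FGIdeal π) := ⟨⟨⊥, Submodule.fg_bot, bot_le⟩⟩

noncomputable def fpDiagram : FGIdeal π ⥤ Under A where
  obj K := Under.mk (CommRingCat.ofHom
    ((Ideal.Quotient.mk K.1).comp (MvPolynomial.C : A →+* MvPolynomial (Fin n) A)))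
  map {K K'} h := Under.homMk (CommRingCat.ofHom (Ideal.Quotient.factor (leOfHom h)))
    (by ext a; rfl)
  map_id K := by
    ext x
    obtain ⟨p, rfl⟩ := Ideal.Quotient.mk_surjective x
    rfl
  map_comp h h' := by
    ext x
    obtain ⟨p, rfl⟩ := Ideal.Quotient.mk_surjective x
    rfl

variable (hπ : π.comp MvPolynomial.C = f.hom)

noncomputable def fpCocone : Cocone (fpDiagram (A := A) π) where
  pt := Under.mk f
  ι :=
    { app := fun K => Under.homMk
        (CommRingCat.ofHom (Ideal.Quotient.lift K.1 π (fun a ha => K.2.2 ha)))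
        (by
          ext a
          exact RingHom.congr_fun hπ a)
      naturality := fun K K' h => by
        ext x
        obtain ⟨p, rfl⟩ := Ideal.Quotient.mk_surjective x
        rfl }

/-- `B` is the colimit of the quotients of the polynomial ring by f.g. ideals in the kernel. -/
noncomputable def isColimitFpCocone (hsurj : Function.Surjective π) :
    IsColimit (fpCocone f π hπ) := by
  apply isColimitUnderOfForget
  · intro x
    obtain ⟨p, rfl⟩ := hsurj x
    exact ⟨⟨⊥, Submodule.fg_bot, bot_le⟩, Ideal.Quotient.mk _ p, rfl⟩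
  · intro K x y hxy
    obtain ⟨p, rfl⟩ := Ideal.Quotient.mk_surjective x
    obtain ⟨p', rfl⟩ := Ideal.Quotient.mk_surjective y
    have hpp' : π p = π p' := hxy
    have hmem : p - p' ∈ RingHom.ker π := by
      rw [RingHom.mem_ker, map_sub, hpp', sub_self]
    refine ⟨⟨K.1 ⊔ Ideal.span {p - p'}, Submodule.FG.sup K.2.1 (Submodule.fg_span_singleton _),
      sup_le K.2.2 ((Ideal.span_singleton_le_iff_mem _).2 hmem)⟩,
      homOfLE (le_sup_left (a := K.1)), ?_⟩
    show Ideal.Quotient.mk _ p = Ideal.Quotient.mk _ p'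
    rw [Ideal.Quotient.eq]
    exact Ideal.mem_sup_right (Ideal.subset_span (Set.mem_singleton _))

include hπ in
theorem fg_ker_of_preserves (hsurj : Function.Surjective π)
    (h : ∀ (J : Type u) [Preorder J] [IsDirected J (· ≤ ·)] [Nonempty J] (F : J ⥤ Under A),
      PreservesColimit F (coyoneda.obj (op (Under.mk f)))) : (RingHom.ker π).FG := by
  classical
  have hc : IsColimit (fpCocone f π hπ) := isColimitFpCocone f π hπ hsurj
  have := h (FGIdeal π) (fpDiagram π)
  obtain ⟨K, s, hs⟩ := exists_factor f (fpDiagram π) (fpCocone f π hπ) hc (𝟙 _)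
  -- the section
  let σ : B →+* MvPolynomial (Fin n) A ⧸ K.1 := s.right.hom
  have hσ : ∀ b : B, Ideal.Quotient.lift K.1 π (fun a ha => K.2.2 ha) (σ b) = b := fun b =>
    congrArg (fun t : Under.mk f ⟶ Under.mk f => t.right.hom b) hs
  have hσf : ∀ a : A, σ (f.hom a) = Ideal.Quotient.mk K.1 (MvPolynomial.C a) := fun a =>
    congrArg (fun t : A ⟶ CommRingCat.of (MvPolynomial (Fin n) A ⧸ K.1) => t.hom a) (Under.w s)
  choose p hp using fun i : Fin n => Ideal.Quotient.mk_surjective (σ (π (MvPolynomial.X i)))
  let L : Ideal (MvPolynomial (Fin n) A) :=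
    K.1 ⊔ Ideal.span (Set.range fun i : Fin n => MvPolynomial.X i - p i)
  have hKL : K.1 ≤ L := le_sup_left
  have hXL : ∀ i, MvPolynomial.X i - p i ∈ L := fun i =>
    Ideal.mem_sup_right (Ideal.subset_span ⟨i, rfl⟩)
  have hLfg : L.FG := Submodule.FG.sup K.2.1 (Submodule.fg_span (Set.finite_range _))
  have hπp : ∀ i, π (p i) = π (MvPolynomial.X i) := by
    intro i
    have := hσ (π (MvPolynomial.X i))
    rw [← hp i] at this
    exact this
  suffices RingHom.ker π = L by rw [this]; exact hLfg
  apply le_antisymm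
  · intro x hx
    have heq : (Ideal.Quotient.mk L : MvPolynomial (Fin n) A →+* _) =
        ((Ideal.Quotient.factor hKL).comp σ).comp π := by
      apply MvPolynomial.ringHom_ext
      · intro a
        simp only [RingHom.comp_apply]
        rw [← RingHom.comp_apply π, hπ, hσf]
        rfl
      · intro i
        simp only [RingHom.comp_apply]
        rw [← hp i]
        show Ideal.Quotient.mk L (MvPolynomial.X i) = Ideal.Quotient.mk L (p i)
        rw [Ideal.Quotient.eq]
        exact hXL i
    have h1 := RingHom.congr_fun heq x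
    simp only [RingHom.comp_apply] at h1
    rw [(RingHom.mem_ker).1 hx, map_zero, map_zero] at h1
    exact Ideal.Quotient.eq_zero_iff_mem.1 h1
  · refine sup_le K.2.2 (Ideal.span_le.2 ?_)
    rintro _ ⟨i, rfl⟩
    show _ ∈ RingHom.ker π
    rw [RingHom.mem_ker, map_sub, hπp, sub_self]

theorem finitePresentation_of_preserves
    (h : ∀ (J : Type u) [Preorder J] [IsDirected J (· ≤ ·)] [Nonempty J] (F : J ⥤ Under A),
      PreservesColimit F (coyoneda.obj (op (Under.mk f)))) : f.hom.FinitePresentation := by
  have hft := finiteType_of_preserves f h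
  letI := f.hom.toAlgebra
  obtain ⟨n, π, hπsurj⟩ := Algebra.FiniteType.iff_quotient_mvPolynomial''.1
    (show Algebra.FiniteType A B from hft)
  have hπ : π.toRingHom.comp MvPolynomial.C = f.hom := by
    ext a
    exact π.commutes a
  exact ⟨n, π, hπsurj, fg_ker_of_preserves f π.toRingHom hπ hπsurj h⟩

end FP

end Groth.Agent.H5.FPConv
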