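import Groth.Agent.Lib.Helper5.Lim.ModuleTrSec
import Groth.Agent.Lib.Lead.QC.HomAffine
import Groth.Agent.Lib.Lead.QC.Compact

set_option autoImplicit false
universe u
open CategoryTheory CategoryTheory.Limits AlgebraicGeometry Opposite TopologicalSpace TensorProduct
open Groth.Agent.LD.QC

namespace Groth.Agent.H5.Lim

section Basis

variable {X : Scheme.{u}} (P : X.affineOpens → Prop)

/-- the family of affine opens satisfying `P`. -/
abbrev PFam : {W : X.affineOpens // P W} → X.Opens := fun W => W.1.1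

variable (hPcov : ∀ x : X, ∃ W : X.affineOpens, P W ∧ x ∈ W.1)
  (hPdown : ∀ W W' : X.affineOpens, P W → W'.1 ≤ W.1 → P W')

include hPcov hPdown in
lemma exists_P_nhd {U : X.Opens} {x : X} (hx : x ∈ U) :
    ∃ W : {W : X.affineOpens // P W}, x ∈ W.1.1 ∧ W.1.1 ≤ U := by
  obtain ⟨W₀, hW₀, hxW₀⟩ := hPcov x
  obtain ⟨W, hW, hxW, hWle⟩ := exists_isAffineOpen_mem_and_subset (x := x) (U := W₀.1 ⊓ U)
    ⟨hxW₀, hx⟩
  exact ⟨⟨⟨W, hW⟩, hPdown W₀ ⟨W, hW⟩ hW₀ (hWle.trans inf_le_left)⟩, hxW, hWle.trans inf_le_right⟩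

include hPcov hPdown in
lemma isBasis_PFam : Opens.IsBasis (Set.range (PFam P)) := by
  rw [Opens.isBasis_iff_nbhd]
  intro U x hx
  obtain ⟨W, hxW, hWU⟩ := exists_P_nhd P hPcov hPdown hx
  exact ⟨W.1.1, ⟨W, rfl⟩, hxW, hWU⟩

include hPcov hPdown in
lemma le_iSup_PFam (U : X.Opens) :
    U ≤ ⨆ V : {V : {W : X.affineOpens // P W} // V.1.1 ≤ U}, V.1.1.1 := by
  intro x hx
  obtain ⟨W, hxW, hWU⟩ := exists_P_nhd P hPcov hPdown hx
  exact Opens.mem_iSup.mpr ⟨⟨W, hWU⟩, hxW⟩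

variable (F G : X.Modules)
  (φ : ∀ W : {W : X.affineOpens // P W}, Γ(F, W.1.1) →ₗ[Γ(X, W.1.1)] Γ(G, W.1.1))
  (nat : ∀ (U V : {W : X.affineOpens // P W}) (h : V.1.1 ≤ U.1.1) (s : Γ(F, U.1.1)),
    G.presheaf.map (homOfLE h).op (φ U s) = φ V (F.presheaf.map (homOfLE h).op s))

/-- the natural transformation on the basis. -/
noncomputable def basisNatTrans :
    (inducedFunctor (PFam P)).op ⋙ F.presheaf ⟶ (inducedFunctor (PFam P)).op ⋙ G.presheaf where
  app U := AddCommGrpCat.ofHom (φ U.unop).toAddMonoidHom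
  naturality U V g := by
    ext s
    exact (nat U.unop V.unop (leOfHom ((inducedFunctor (PFam P)).map g.unop)) s).symm

/-- the morphism of abelian presheaves attached to a compatible family of linear maps on a basis
of affine opens. -/
noncomputable def homOfBasisPre : F.presheaf ⟶ G.presheaf :=
  TopCat.Sheaf.restrictHomEquivHom F.presheaf ⟨G.presheaf, G.isSheaf⟩ (B := PFam P)
    (isBasis_PFam P hPcov hPdown) (basisNatTrans P F G φ nat)

lemma homOfBasisPre_app (U : {W : X.affineOpens // P W}) (s : Γ(F, U.1.1)) :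
    (homOfBasisPre P hPcov hPdown F G φ nat).app (op U.1.1) s = φ U s := by
  have h := TopCat.Sheaf.extend_hom_app F.presheaf ⟨G.presheaf, G.isSheaf⟩ (B := PFam P)
    (isBasis_PFam P hPcov hPdown) (basisNatTrans P F G φ nat) U
  exact congr($h s)

lemma homOfBasisPre_smul (U : X.Opens) (r : Γ(X, U)) (m : Γ(F, U)) :
    (homOfBasisPre P hPcov hPdown F G φ nat).app (op U) (r • m) =
      r • (homOfBasisPre P hPcov hPdown F G φ nat).app (op U) m := by
  apply section_ext_of_cover G (fun V : {V : {W : X.affineOpens // P W} // V.1.1 ≤ U} => V.1.1.1)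
    (fun V => V.2) (le_iSup_PFam P hPcov hPdown U)
  intro V
  rw [homOfAffinePre_res, Scheme.Modules.map_smul, Scheme.Modules.map_smul, homOfAffinePre_res,
    homOfBasisPre_app, homOfBasisPre_app, map_smul]

/-- **gluing morphisms on a basis**: a compatible family of linear maps on a basis of affine opens
(downward closed and covering) defines a morphism of modules. -/
noncomputable def homOfBasis : F ⟶ G :=
  ⟨PresheafOfModules.homMk (homOfBasisPre P hPcov hPdown F G φ nat)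
    (fun U r m => homOfBasisPre_smul P hPcov hPdown F G φ nat U.unop r m)⟩

lemma homOfBasis_app (U : {W : X.affineOpens // P W}) (s : Γ(F, U.1.1)) :
    (homOfBasis P hPcov hPdown F G φ nat).app U.1.1 s = φ U s :=
  homOfBasisPre_app P hPcov hPdown F G φ nat U s

end Basis

end Groth.Agent.H5.Lim

namespace Groth.Agent.H5.Lim

section LocApp

variable {X Y : Scheme.{u}} (f : X ⟶ Y) {V : Y.Opens} (hV : IsAffineOpen V) (M : Y.Modules)
  [M.IsQuasicoherent] (N : X.Modules)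
  (ν : Γ(M, V) →+ Γ(N, f ⁻¹ᵁ V))
  (hν : ∀ (r : Γ(Y, V)) (m : Γ(M, V)), ν (r • m) = (f.app V r) • ν m)

/-- the module structure on sections of a module on the source over sections of the base. -/
@[reducible] noncomputable def srcModule (W : X.Opens) (hW : W ≤ f ⁻¹ᵁ V) :
    Module Γ(Y, V) Γ(N, W) :=
  Module.compHom _ (f.appLE V W hW).hom

lemma srcModule_isScalarTower (W : X.Opens) (hW : W ≤ f ⁻¹ᵁ V) :
    letI := (f.appLE V W hW).hom.toAlgebra
    letI := srcModule f N W hW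
    IsScalarTower Γ(Y, V) Γ(X, W) Γ(N, W) := by
  letI := (f.appLE V W hW).hom.toAlgebra
  letI := srcModule f N W hW
  refine ⟨fun a b x => ?_⟩
  change (a • b) • x = (f.appLE V W hW).hom a • (b • x)
  rw [Algebra.smul_def, mul_smul]
  rfl

include hν in
/-- the restriction of `ν` to `W`, as a linear map. -/
noncomputable def locLin (W : X.Opens) (hW : W ≤ f ⁻¹ᵁ V) :
    letI := srcModule f N W hW
    Γ(M, V) →ₗ[Γ(Y, V)] Γ(N, W) :=
  letI := srcModule f N W hW
  { toFun := fun m => N.presheaf.map (homOfLE hW).op (ν m)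
    map_add' := fun m m' => by rw [map_add, map_add]
    map_smul' := fun r m => by
      rw [hν, smul_res]
      rfl }

/-- the local homomorphism on an affine open `W ⊆ f⁻¹ V` determined by `ν`. -/
noncomputable def locApp (W : X.Opens) (hWaff : IsAffineOpen W) (hW : W ≤ f ⁻¹ᵁ V) :
    Γ((Scheme.Modules.pullback f).obj M, W) →ₗ[Γ(X, W)] Γ(N, W) :=
  letI : Algebra Γ(Y, V) Γ(X, W) := (f.appLE V W hW).hom.toAlgebra
  letI := pbModule f M hW
  haveI : IsScalarTower Γ(Y, V) Γ(X, W) Γ((Scheme.Modules.pullback f).obj M, W) :=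
    pbModule_isScalarTower f M hW
  letI := srcModule f N W hW
  haveI : IsScalarTower Γ(Y, V) Γ(X, W) Γ(N, W) := srcModule_isScalarTower f N W hW
  (isBaseChange_pbSec f hWaff hV hW M).lift (locLin f M N ν hν W hW)

lemma locApp_pbSec (W : X.Opens) (hWaff : IsAffineOpen W) (hW : W ≤ f ⁻¹ᵁ V) (m : Γ(M, V)) :
    locApp f hV M N ν hν W hWaff hW (pbSec f M hW m) =
      N.presheaf.map (homOfLE hW).op (ν m) := by
  letI : Algebra Γ(Y, V) Γ(X, W) := (f.appLE V W hW).hom.toAlgebra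
  letI := pbModule f M hW
  haveI : IsScalarTower Γ(Y, V) Γ(X, W) Γ((Scheme.Modules.pullback f).obj M, W) :=
    pbModule_isScalarTower f M hW
  letI := srcModule f N W hW
  haveI : IsScalarTower Γ(Y, V) Γ(X, W) Γ(N, W) := srcModule_isScalarTower f N W hW
  exact (isBaseChange_pbSec f hWaff hV hW M).lift_eq (locLin f M N ν hν W hW) m

include hV in
/-- a semilinear map on `Γ(f^* M, W)` is determined by its values on pulled back sections. -/
lemma eq_of_semilinear_of_pbSec {W : X.Opens} (hWaff : IsAffineOpen W) (hW : W ≤ f ⁻¹ᵁ V)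
    {B Q : Type*} [CommRing B] [AddCommGroup Q] [Module B Q] (σ : Γ(X, W) →+* B)
    (Φ₁ Φ₂ : Γ((Scheme.Modules.pullback f).obj M, W) → Q)
    (h₁add : ∀ x y, Φ₁ (x + y) = Φ₁ x + Φ₁ y) (h₁smul : ∀ r x, Φ₁ (r • x) = σ r • Φ₁ x)
    (h₂add : ∀ x y, Φ₂ (x + y) = Φ₂ x + Φ₂ y) (h₂smul : ∀ r x, Φ₂ (r • x) = σ r • Φ₂ x)
    (h : ∀ m : Γ(M, V), Φ₁ (pbSec f M hW m) = Φ₂ (pbSec f M hW m))
    (x : Γ((Scheme.Modules.pullback f).obj M, W)) : Φ₁ x = Φ₂ x :=
  eq_of_semilinear_of_span σ Φ₁ Φ₂ h₁add h₁smul h₂add h₂smul _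
    (span_range_pbSec f hWaff hV hW M) (by rintro _ ⟨m, rfl⟩; exact h m) x

lemma locApp_res (W W' : X.Opens) (hWaff : IsAffineOpen W) (hW'aff : IsAffineOpen W')
    (hW : W ≤ f ⁻¹ᵁ V) (h : W' ≤ W) (s : Γ((Scheme.Modules.pullback f).obj M, W)) :
    N.presheaf.map (homOfLE h).op (locApp f hV M N ν hν W hWaff hW s) =
      locApp f hV M N ν hν W' hW'aff (h.trans hW)
        (((Scheme.Modules.pullback f).obj M).presheaf.map (homOfLE h).op s) := by
  refine eq_of_semilinear_of_pbSec f hV M hWaff hW (X.presheaf.map (homOfLE h).op).hom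
    (fun s => N.presheaf.map (homOfLE h).op (locApp f hV M N ν hν W hWaff hW s))
    (fun s => locApp f hV M N ν hν W' hW'aff (h.trans hW)
        (((Scheme.Modules.pullback f).obj M).presheaf.map (homOfLE h).op s))
    (fun x y => by simp only [map_add]) (fun r x => by rw [map_smul, smul_res])
    (fun x y => by simp only [map_add]) (fun r x => by rw [smul_res, map_smul])
    (fun m => ?_) s
  dsimp only
  rw [locApp_pbSec, ← pbSec_res f M hW (h.trans hW) h le_rfl m]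
  rw [res_self, locApp_pbSec, res_res]

end LocApp

end Groth.Agent.H5.Lim

namespace Groth.Agent.H5.Lim

section Glue

variable {X Y : Scheme.{u}} (f : X ⟶ Y) {ι : Type*} (V : ι → Y.Opens)
  (hV : ∀ a, IsAffineOpen (V a)) (hcov : ∀ y : Y, ∃ a, y ∈ V a) (M : Y.Modules)
  [M.IsQuasicoherent] (N : X.Modules)
  (ν : ∀ a, Γ(M, V a) →+ Γ(N, f ⁻¹ᵁ V a))
  (hν : ∀ (a : ι) (r : Γ(Y, V a)) (m : Γ(M, V a)), ν a (r • m) = (f.app (V a) r) • ν a m)

include hcov in
/-- **gluing local homomorphisms out of a pullback.** -/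
theorem exists_glue
    (compat : ∀ (a b : ι) (W : X.Opens) (hWaff : IsAffineOpen W) (ha : W ≤ f ⁻¹ᵁ V a)
      (hb : W ≤ f ⁻¹ᵁ V b) (s : Γ((Scheme.Modules.pullback f).obj M, W)),
      locApp f (hV a) M N (ν a) (hν a) W hWaff ha s =
        locApp f (hV b) M N (ν b) (hν b) W hWaff hb s) :
    ∃ ψ : (Scheme.Modules.pullback f).obj M ⟶ N,
      ∀ (a : ι) (W : X.Opens) (hWaff : IsAffineOpen W) (hW : W ≤ f ⁻¹ᵁ V a)
        (s : Γ((Scheme.Modules.pullback f).obj M, W)),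
        ψ.app W s = locApp f (hV a) M N (ν a) (hν a) W hWaff hW s := by
  classical
  let P : X.affineOpens → Prop := fun W => ∃ a, W.1 ≤ f ⁻¹ᵁ V a
  have hPcov : ∀ x : X, ∃ W : X.affineOpens, P W ∧ x ∈ W.1 := by
    intro x
    obtain ⟨a, ha⟩ := hcov (f x)
    obtain ⟨W, hW, hxW, hWle⟩ := exists_isAffineOpen_mem_and_subset (x := x) (U := f ⁻¹ᵁ V a) ha
    exact ⟨⟨W, hW⟩, ⟨a, hWle⟩, hxW⟩
  have hPdown : ∀ W W' : X.affineOpens, P W → W'.1 ≤ W.1 → P W' := by
    rintro W W' ⟨a, ha⟩ h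
    exact ⟨a, h.trans ha⟩
  let φ : ∀ W : {W : X.affineOpens // P W},
      Γ((Scheme.Modules.pullback f).obj M, W.1.1) →ₗ[Γ(X, W.1.1)] Γ(N, W.1.1) := fun W =>
    locApp f (hV W.2.choose) M N (ν W.2.choose) (hν W.2.choose) W.1.1 W.1.2 W.2.choose_spec
  have nat : ∀ (U V' : {W : X.affineOpens // P W}) (h : V'.1.1 ≤ U.1.1)
      (s : Γ((Scheme.Modules.pullback f).obj M, U.1.1)),
      N.presheaf.map (homOfLE h).op (φ U s) =
        φ V' (((Scheme.Modules.pullback f).obj M).presheaf.map (homOfLE h).op s) := by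
    intro U V' h s
    simp only [φ]
    rw [locApp_res f (hV _) M N _ _ U.1.1 V'.1.1 U.1.2 V'.1.2 _ h s]
    exact compat _ _ _ _ _ _ _
  refine ⟨homOfBasis P hPcov hPdown _ N φ nat, fun a W hWaff hW s => ?_⟩
  have h1 := homOfBasis_app P hPcov hPdown _ N φ nat ⟨⟨W, hWaff⟩, ⟨a, hW⟩⟩ s
  rw [h1]
  exact compat _ _ _ _ _ _ _

/-- the overlap condition for gluing can be checked on the pulled back sections over the members
of an affine cover of the overlap (with affine preimages). -/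
theorem compat_of_cover (a b : ι) {κ : Type*} (V' : κ → Y.Opens) (hV' : ∀ c, IsAffineOpen (V' c))
    (hV'a : ∀ c, V' c ≤ V a) (hV'b : ∀ c, V' c ≤ V b) (hcov' : V a ⊓ V b ≤ ⨆ c, V' c)
    (haff : ∀ c, IsAffineOpen (f ⁻¹ᵁ V' c))
    (h : ∀ (c : κ) (m' : Γ(M, V' c)),
      locApp f (hV a) M N (ν a) (hν a) (f ⁻¹ᵁ V' c) (haff c)
          (f.preimage_mono (hV'a c)) (pbSec f M (le_refl _) m') =
        locApp f (hV b) M N (ν b) (hν b) (f ⁻¹ᵁ V' c) (haff c)
          (f.preimage_mono (hV'b c)) (pbSec f M (le_refl _) m'))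
    (W : X.Opens) (hWaff : IsAffineOpen W) (ha : W ≤ f ⁻¹ᵁ V a)
    (hb : W ≤ f ⁻¹ᵁ V b) (s : Γ((Scheme.Modules.pullback f).obj M, W)) :
    locApp f (hV a) M N (ν a) (hν a) W hWaff ha s =
      locApp f (hV b) M N (ν b) (hν b) W hWaff hb s := by
  apply section_ext_of_cover N
    (fun p : {p : X.affineOpens × κ // p.1.1 ≤ W ∧ p.1.1 ≤ f ⁻¹ᵁ V' p.2} => p.1.1.1)
    (fun p => p.2.1)
  · intro x hx
    have hx' : f x ∈ V a ⊓ V b := ⟨ha hx, hb hx⟩
    obtain ⟨c, hc⟩ := Opens.mem_iSup.1 (hcov' hx')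
    obtain ⟨W'', hW'', hxW'', hle⟩ := exists_isAffineOpen_mem_and_subset (x := x)
      (U := W ⊓ f ⁻¹ᵁ V' c) ⟨hx, hc⟩
    exact Opens.mem_iSup.2 ⟨⟨(⟨W'', hW''⟩, c), hle.trans inf_le_left, hle.trans inf_le_right⟩, hxW''⟩
  · rintro ⟨⟨W'', c⟩, hW''W, hW''c⟩
    rw [locApp_res f (hV a) M N _ _ W W''.1 hWaff W''.2 ha hW''W s,
      locApp_res f (hV b) M N _ _ W W''.1 hWaff W''.2 hb hW''W s]
    refine eq_of_semilinear_of_pbSec f (hV' c) M W''.2 hW''c (RingHom.id _)
      (fun t => locApp f (hV a) M N (ν a) (hν a) W''.1 W''.2 (hW''W.trans ha) t)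
      (fun t => locApp f (hV b) M N (ν b) (hν b) W''.1 W''.2 (hW''W.trans hb) t)
      (fun x y => map_add _ x y) (fun r x => map_smul _ r x)
      (fun x y => map_add _ x y) (fun r x => map_smul _ r x) (fun m' => ?_) _
    have e1 : pbSec f M hW''c m' = ((Scheme.Modules.pullback f).obj M).presheaf.map
        (homOfLE hW''c).op (pbSec f M (le_refl (f ⁻¹ᵁ V' c)) m') := by
      rw [← pbSec_res f M (le_refl (f ⁻¹ᵁ V' c)) hW''c hW''c le_rfl m', res_self]
    rw [e1, ← locApp_res f (hV a) M N _ _ (f ⁻¹ᵁ V' c) W''.1 (haff c) W''.2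
        (f.preimage_mono (hV'a c)) hW''c,
      ← locApp_res f (hV b) M N _ _ (f ⁻¹ᵁ V' c) W''.1 (haff c) W''.2
        (f.preimage_mono (hV'b c)) hW''c, h c m']

end Glue

end Groth.Agent.H5.Lim
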