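import Groth.Agent.Lib.Helper5.Lim.ModuleLocFree
import Groth.Agent.Lib.Helper5.Lim.DescendSurjective
import Groth.Agent.Lib.Lead.QC.Rank

set_option autoImplicit false
universe u
open CategoryTheory CategoryTheory.Limits AlgebraicGeometry Opposite TopologicalSpace TensorProduct
open Groth.Agent.LD.QC

namespace Groth.Agent.H5.Lim

section

variable {X : Scheme.{u}}

lemma isFinLocFree_of_isFinLocFreeOfRank {n : ℕ} {M : X.Modules}
    (h : FlatMod.IsFinLocFreeOfRank n M) : FlatMod.IsFinLocFree M := fun x => by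
  obtain ⟨U, hxU, e⟩ := h x
  exact ⟨U, n, hxU, e⟩

/-- characterization of finite locally free modules of rank `n` by sections over affine opens. -/
theorem isFinLocFreeOfRank_iff (n : ℕ) (M : X.Modules) [M.IsQuasicoherent] :
    FlatMod.IsFinLocFreeOfRank n M ↔ ∀ x : X, ∃ (U : X.Opens), IsAffineOpen U ∧ x ∈ U ∧
      Nonempty (Γ(M, U) ≃ₗ[Γ(X, U)] (Fin n → Γ(X, U))) := by
  constructor
  · intro h x
    obtain ⟨W, hxW, ⟨e⟩⟩ := h x
    obtain ⟨U, hU, hxU, hUW⟩ := exists_isAffineOpen_mem_and_subset (x := x) (U := W) hxW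
    have hr : Set.range hU.fromSpec ⊆ Set.range W.ι := by
      rw [hU.range_fromSpec, Scheme.Opens.range_ι]; exact hUW
    have h1 := freeMod_of_range_subset M W.ι hU.fromSpec hr n e
    exact ⟨U, hU, hxU, (restrict_fromSpec_iso_freeMod_iff M hU n).mp h1⟩
  · intro h x
    obtain ⟨U, hU, hxU, hℓ⟩ := h x
    obtain ⟨e⟩ := (restrict_fromSpec_iso_freeMod_iff M hU n).mpr hℓ
    exact ⟨U, hxU, freeMod_of_range_subset M hU.fromSpec U.ι
      (range_ι_subset_range_fromSpec hU) n e⟩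

/-- a finite locally free module is of rank `n` iff all its stalks have rank `n`. -/
theorem isFinLocFreeOfRank_iff_finrank_stalk (n : ℕ) (M : X.Modules) :
    FlatMod.IsFinLocFreeOfRank n M ↔ FlatMod.IsFinLocFree M ∧
      ∀ x : X, Module.finrank (X.presheaf.stalk x) (M.presheaf.stalk x) = n := by
  constructor
  · intro h
    have hM := isFinLocFree_of_isFinLocFreeOfRank h
    haveI := qc_of_isFinLocFree M hM
    refine ⟨hM, fun x => ?_⟩
    obtain ⟨U, hU, hxU, ⟨ℓ⟩⟩ := (isFinLocFreeOfRank_iff n M).1 h x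
    exact finrank_stalk_of_sections_equiv M hU n ℓ x hxU
  · rintro ⟨hM, hr⟩
    haveI := qc_of_isFinLocFree M hM
    rw [isFinLocFreeOfRank_iff]
    intro x
    obtain ⟨U, m, hU, hxU, ⟨ℓ⟩⟩ := (isFinLocFree_iff M).mp hM x
    have : m = n := by
      rw [← hr x, finrank_stalk_of_sections_equiv M hU m ℓ x hxU]
    subst this
    exact ⟨U, hU, hxU, ⟨ℓ⟩⟩

/-- the locus where a finite locally free module has rank `n` is open, as is its complement. -/
lemma isOpen_finrank_stalk_eq (M : X.Modules) (hM : FlatMod.IsFinLocFree M) (s : Set ℕ) :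
    IsOpen {x : X | Module.finrank (X.presheaf.stalk x) (M.presheaf.stalk x) ∈ s} := by
  haveI := qc_of_isFinLocFree M hM
  rw [isOpen_iff_forall_mem_open]
  intro x hx
  obtain ⟨U, m, hU, hxU, ⟨ℓ⟩⟩ := (isFinLocFree_iff M).mp hM x
  refine ⟨U, fun y hy => ?_, U.2, hxU⟩
  have h1 := finrank_stalk_of_sections_equiv M hU m ℓ x hxU
  have h2 := finrank_stalk_of_sections_equiv M hU m ℓ y hy
  show Module.finrank _ _ ∈ s
  rw [h2, ← h1]
  exact hx

/-- the stalk ranks of the pullback of a finite locally free module. -/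
theorem finrank_stalk_pullback {Y : Scheme.{u}} (f : X ⟶ Y) (E : Y.Modules)
    (hE : FlatMod.IsFinLocFree E) (x : X) :
    Module.finrank (X.presheaf.stalk x) (((Scheme.Modules.pullback f).obj E).presheaf.stalk x) =
      Module.finrank (Y.presheaf.stalk (f x)) (E.presheaf.stalk (f x)) := by
  haveI := qc_of_isFinLocFree E hE
  haveI := qc_pullback f E
  obtain ⟨V, m, hV, hxV, ⟨ℓ⟩⟩ := (isFinLocFree_iff E).mp hE (f x)
  obtain ⟨U, hU, hxU, hUV⟩ := exists_isAffineOpen_mem_and_subset (x := x) (U := f ⁻¹ᵁ V) hxV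
  rw [finrank_stalk_of_sections_equiv E hV m ℓ (f x) hxV]
  letI : Algebra Γ(Y, V) Γ(X, U) := (f.appLE V U hUV).hom.toAlgebra
  letI := pbModule f E hUV
  haveI : IsScalarTower Γ(Y, V) Γ(X, U) Γ((Scheme.Modules.pullback f).obj E, U) :=
    pbModule_isScalarTower f E hUV
  have hbc : IsBaseChange Γ(X, U) (pbSecₗ f E hUV) := isBaseChange_pbSec f hU hV hUV E
  let ℓ' : Γ((Scheme.Modules.pullback f).obj E, U) ≃ₗ[Γ(X, U)] (Fin m → Γ(X, U)) :=
    hbc.equiv.symm ≪≫ₗ (TensorProduct.AlgebraTensorModule.congr (LinearEquiv.refl _ _) ℓ) ≪≫ₗ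
      (TensorProduct.piScalarRight Γ(Y, V) Γ(X, U) Γ(X, U) (Fin m))
  exact finrank_stalk_of_sections_equiv _ hU m ℓ' x hxU

end

end Groth.Agent.H5.Lim

namespace Groth.Agent.H5.Lim

lemma isFinLocFreeOfRank_of_iso {X : Scheme.{u}} {n : ℕ} {M N : X.Modules} (e : M ≅ N)
    (h : FlatMod.IsFinLocFreeOfRank n M) : FlatMod.IsFinLocFreeOfRank n N := by
  intro x
  obtain ⟨W, hxW, ⟨e'⟩⟩ := h x
  exact ⟨W, hxW, ⟨(Scheme.Modules.restrictFunctor W.ι).mapIso e.symm ≪≫ e'⟩⟩

/-- the pullback of a finite locally free module of rank `n` is finite locally free of rank `n`. -/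
lemma isFinLocFreeOfRank_pullback {X Y : Scheme.{u}} (f : X ⟶ Y) {n : ℕ} (E : Y.Modules)
    (h : FlatMod.IsFinLocFreeOfRank n E) :
    FlatMod.IsFinLocFreeOfRank n ((Scheme.Modules.pullback f).obj E) := by
  rw [isFinLocFreeOfRank_iff_finrank_stalk] at h ⊢
  exact ⟨isFinLocFree_pullback f E h.1, fun x => by rw [finrank_stalk_pullback f E h.1, h.2]⟩

section

variable {I : Type u} [SmallCategory I] [IsCofiltered I] (D : I ⥤ Scheme.{u}) (c : Cone D)
  (hc : IsLimit c) [∀ (i j : I) (f : i ⟶ j), IsAffineHom (D.map f)] (i₀ : I)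

include hc in
/-- EGA IV 8.5.5: local freeness of rank `n` of the pullback of a finitely presented module
descends. -/
theorem exists_stage_isFinLocFreeOfRank_pullback [CompactSpace (D.obj i₀)]
    (F₀ : (D.obj i₀).Modules) (hF₀ : F₀.IsFinitePresentation) (n : ℕ)
    (h : FlatMod.IsFinLocFreeOfRank n ((Scheme.Modules.pullback (c.π.app i₀)).obj F₀)) :
    ∃ k : Over i₀, FlatMod.IsFinLocFreeOfRank n
      ((Scheme.Modules.pullback (D.map k.hom)).obj F₀) := by
  obtain ⟨k₁, hk₁⟩ := exists_stage_isFinLocFree_pullback D c hc i₀ F₀ hF₀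
    (isFinLocFree_of_isFinLocFreeOfRank h)
  set E := (Scheme.Modules.pullback (D.map k₁.hom)).obj F₀ with hE
  haveI : CompactSpace (D.obj k₁.left) :=
    QuasiCompact.compactSpace_of_compactSpace (D.map k₁.hom)
  let V : (D.obj k₁.left).Opens :=
    ⟨{y | Module.finrank ((D.obj k₁.left).presheaf.stalk y) (E.presheaf.stalk y) ∈ ({n} : Set ℕ)},
      isOpen_finrank_stalk_eq E hk₁ {n}⟩
  have h' : FlatMod.IsFinLocFreeOfRank n ((Scheme.Modules.pullback (c.π.app k₁.left)).obj E) :=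
    isFinLocFreeOfRank_of_iso ((pullbackStageIso D c i₀ k₁.hom).app F₀).symm h
  have hempty : (c.π.app k₁.left) ⁻¹' (((⊤ : (D.obj k₁.left).Opens) : Set (D.obj k₁.left)) \ V) =
      ∅ := by
    rw [Set.eq_empty_iff_forall_notMem]
    rintro s ⟨-, hs⟩
    apply hs
    show Module.finrank _ _ ∈ ({n} : Set ℕ)
    rw [Set.mem_singleton_iff, ← finrank_stalk_pullback (c.π.app k₁.left) E hk₁ s]
    exact ((isFinLocFreeOfRank_iff_finrank_stalk n _).1 h').2 s
  obtain ⟨k₂, hk₂⟩ := exists_preimage_sdiff_eq_empty D c hc k₁.left ⊤ V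
    (by simpa using isCompact_univ) hempty
  have hE₂ : FlatMod.IsFinLocFreeOfRank n ((Scheme.Modules.pullback (D.map k₂.hom)).obj E) := by
    rw [isFinLocFreeOfRank_iff_finrank_stalk]
    refine ⟨isFinLocFree_pullback _ E hk₁, fun x => ?_⟩
    rw [finrank_stalk_pullback (D.map k₂.hom) E hk₁ x]
    by_contra hne
    have : x ∈ (D.map k₂.hom) ⁻¹' (((⊤ : (D.obj k₁.left).Opens) : Set (D.obj k₁.left)) \ V) :=
      ⟨trivial, fun hV => hne hV⟩
    rw [hk₂] at this
    exact this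
  refine ⟨Over.mk (k₂.hom ≫ k₁.hom), ?_⟩
  exact isFinLocFreeOfRank_of_iso
    ((pullbackCompIso (D.map k₂.hom) (D.map k₁.hom) (D.map (k₂.hom ≫ k₁.hom))
      (D.map_comp _ _).symm).app F₀) hE₂

end

end Groth.Agent.H5.Lim
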