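import Groth.Agent.Lib.Helper5.Lim.ModuleEpi
import Groth.Agent.Lib.Lead.QC.SubExt
import Groth.Agent.Lib.Lead.QC.FinPres

set_option autoImplicit false
universe u
open CategoryTheory CategoryTheory.Limits AlgebraicGeometry Opposite TopologicalSpace
open Groth.Agent.LD.QC

namespace Groth.Agent.H5.Lim

/-- the kernel of an epimorphism from a finite type quasi-coherent module onto a finitely
presented module is of finite type. -/
theorem isFiniteType_kernel_of_epi {X : Scheme.{u}} {M N : X.Modules} (φ : M ⟶ N) [Epi φ]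
    [hM : M.IsQuasicoherent] (hMft : M.IsFiniteType) (hN : N.IsFinitePresentation) :
    haveI : (kernel φ).IsQuasicoherent := qc_kernel φ hM inferInstance
    (kernel φ).IsFiniteType := by
  haveI hNqc : N.IsQuasicoherent := inferInstance
  haveI : (kernel φ).IsQuasicoherent := qc_kernel φ hM hNqc
  rw [isFiniteType_iff_finite_sections]
  intro U hU
  haveI : Module.Finite Γ(X, U) Γ(M, U) := finite_sections_of_isFiniteType M hMft hU
  haveI : Module.FinitePresentation Γ(X, U) Γ(N, U) :=
    finitePresentation_sections_of_isFinitePresentation N hN hU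
  have hsurj : Function.Surjective (appLinear φ U) := epi_app_affine hM hNqc φ hU
  have hker : (LinearMap.ker (appLinear φ U)).FG :=
    Module.FinitePresentation.fg_ker (appLinear φ U) hsurj
  have hinj : Function.Injective (appLinear (kernel.ι φ) U) := mono_app (kernel.ι φ) U
  have hrange : LinearMap.range (appLinear (kernel.ι φ) U) = LinearMap.ker (appLinear φ U) := by
    ext s
    rw [LinearMap.mem_range, LinearMap.mem_ker]
    exact mem_range_kernel_ι_iff φ U s
  have : Module.Finite Γ(X, U) (LinearMap.range (appLinear (kernel.ι φ) U)) := by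
    rw [hrange]
    exact Module.Finite.of_fg hker
  exact Module.Finite.equiv (LinearEquiv.ofInjective (appLinear (kernel.ι φ) U) hinj).symm

/-- an additive cokernel-preserving functor sends an epimorphism whose kernel inclusion it kills
to an isomorphism. -/
lemma isIso_map_of_map_kernel_ι_eq_zero {C E : Type*} [Category C] [Category E] [Abelian C]
    [Abelian E] (L : C ⥤ E) [L.Additive] {A B : C} (u : A ⟶ B) [Epi u]
    [PreservesColimit (parallelPair (kernel.ι u) 0) L] (h : L.map (kernel.ι u) = 0) :
    IsIso (L.map u) := by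
  have h1 : IsColimit (CokernelCofork.ofπ (f := kernel.ι u) u (kernel.condition u)) :=
    Abelian.epiIsCokernelOfKernel (f := u) (KernelFork.ofι (kernel.ι u) (kernel.condition u))
      (kernelIsKernel u)
  have h2 := CokernelCofork.mapIsColimit _ h1 L
  exact CokernelCofork.IsColimit.isIso_π _ h2 h

lemma map_kernel_ι_eq_zero_of_mono {C E : Type*} [Category C] [Category E] [Abelian C]
    [Abelian E] (L : C ⥤ E) [L.Additive] {A B : C} (u : A ⟶ B) [Mono (L.map u)] :
    L.map (kernel.ι u) = 0 := by
  rw [← cancel_mono (L.map u), ← L.map_comp, kernel.condition, L.map_zero, zero_comp]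

section

variable {X Y Z : Scheme.{u}} (g : X ⟶ Y) (f : Y ⟶ Z) (h : X ⟶ Z) (w : g ≫ f = h)

/-- composite of pullbacks. -/
noncomputable def pullbackCompIso :
    Scheme.Modules.pullback f ⋙ Scheme.Modules.pullback g ≅ Scheme.Modules.pullback h :=
  Scheme.Modules.pullbackComp g f ≪≫ Scheme.Modules.pullbackCongr w

lemma pullback_map_eq_conj' {F₀ G₀ : Z.Modules} (χ : F₀ ⟶ G₀) :
    (Scheme.Modules.pullback h).map χ =
      (pullbackCompIso g f h w).inv.app F₀ ≫ (Scheme.Modules.pullback g).map
        ((Scheme.Modules.pullback f).map χ) ≫ (pullbackCompIso g f h w).hom.app G₀ := by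
  have := (pullbackCompIso g f h w).hom.naturality χ
  rw [Functor.comp_map] at this
  rw [this, Iso.inv_hom_id_app_assoc]

lemma pullback_map_pullback_map_eq {F₀ G₀ : Z.Modules} (χ : F₀ ⟶ G₀) :
    (Scheme.Modules.pullback g).map ((Scheme.Modules.pullback f).map χ) =
      (pullbackCompIso g f h w).hom.app F₀ ≫ (Scheme.Modules.pullback h).map χ ≫
        (pullbackCompIso g f h w).inv.app G₀ := by
  rw [pullback_map_eq_conj' g f h w χ]
  simp

end

section

variable {I : Type u} [SmallCategory I] [IsCofiltered I] (D : I ⥤ Scheme.{u}) (c : Cone D)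
  (hc : IsLimit c) [∀ (i j : I) (f : i ⟶ j), IsAffineHom (D.map f)] (i₀ : I)

include hc in
/-- EGA IV 8.5.2.4: a homomorphism from a finite type module to a finitely presented module which
becomes an isomorphism on the limit is an isomorphism at some stage. -/
theorem exists_stage_isIso_pullback_map [CompactSpace (D.obj i₀)]
    {F₀ G₀ : (D.obj i₀).Modules} [F₀.IsQuasicoherent] (hF₀ : F₀.IsFiniteType)
    (hG₀ : G₀.IsFinitePresentation) (f₀ : F₀ ⟶ G₀)
    (h : IsIso ((Scheme.Modules.pullback (c.π.app i₀)).map f₀)) :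
    ∃ k : Over i₀, IsIso ((Scheme.Modules.pullback (D.map k.hom)).map f₀) := by
  haveI hG₀qc : G₀.IsQuasicoherent := inferInstance
  have hG₀ft : G₀.IsFiniteType := inferInstance
  obtain ⟨k₁, hk₁⟩ := exists_stage_epi_pullback_map D c hc i₀ hG₀ft f₀ inferInstance
  set u₁ := (Scheme.Modules.pullback (D.map k₁.hom)).map f₀ with hu₁
  haveI : ((Scheme.Modules.pullback (D.map k₁.hom)).obj F₀).IsQuasicoherent :=
    qc_pullback (D.map k₁.hom) F₀
  have hF₁ft : ((Scheme.Modules.pullback (D.map k₁.hom)).obj F₀).IsFiniteType :=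
    isFiniteType_pullback (D.map k₁.hom) F₀ hF₀
  have hG₁fp : ((Scheme.Modules.pullback (D.map k₁.hom)).obj G₀).IsFinitePresentation :=
    isFinitePresentation_pullback (D.map k₁.hom) G₀ hG₀
  haveI : ((Scheme.Modules.pullback (D.map k₁.hom)).obj G₀).IsQuasicoherent := inferInstance
  haveI : (kernel u₁).IsQuasicoherent := qc_kernel u₁ inferInstance inferInstance
  have hKft : (kernel u₁).IsFiniteType := isFiniteType_kernel_of_epi u₁ hF₁ft hG₁fp
  haveI : CompactSpace (D.obj k₁.left) :=
    QuasiCompact.compactSpace_of_compactSpace (D.map k₁.hom)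
  -- the pullback of `u₁` to the limit is an isomorphism
  haveI : IsIso ((Scheme.Modules.pullback (c.π.app k₁.left)).map u₁) := by
    rw [hu₁, pullback_map_pullback_map_eq (c.π.app k₁.left) (D.map k₁.hom) (c.π.app i₀)
      (c.w k₁.hom) f₀]
    infer_instance
  have h0 : (Scheme.Modules.pullback (c.π.app k₁.left)).map (kernel.ι u₁) =
      (Scheme.Modules.pullback (c.π.app k₁.left)).map 0 := by
    rw [map_kernel_ι_eq_zero_of_mono, Functor.map_zero]
  obtain ⟨k₂, hk₂⟩ := exists_stage_pullback_map_eq D c hc k₁.left hKft (kernel.ι u₁) 0 h0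
  rw [Functor.map_zero] at hk₂
  have hiso : IsIso ((Scheme.Modules.pullback (D.map k₂.hom)).map u₁) :=
    isIso_map_of_map_kernel_ι_eq_zero _ u₁ hk₂
  refine ⟨Over.mk (k₂.hom ≫ k₁.hom), ?_⟩
  show IsIso ((Scheme.Modules.pullback (D.map (k₂.hom ≫ k₁.hom))).map f₀)
  rw [pullback_map_eq_conj' (D.map k₂.hom) (D.map k₁.hom) (D.map (k₂.hom ≫ k₁.hom))
    (D.map_comp _ _).symm f₀]
  infer_instance

end

end Groth.Agent.H5.Lim
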