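import Groth.Agent.Lib.Helper5.CA.WeakColimitFlat
import Groth.Agent.Lib.Helper5.Lim.BaseChangeSystem
import Mathlib

set_option autoImplicit false
universe u
open CategoryTheory CategoryTheory.Limits AlgebraicGeometry TensorProduct

namespace Groth.Agent.H5.Lim

section

variable {J : Type u} [SmallCategory J] [IsCofiltered J] (E : J ⥤ Scheme.{u})
  [∀ j, IsAffine (E.obj j)] (cE : Cone E) (hcE : IsLimit cE) {T : Scheme.{u}} [IsAffine T]
  (tt : ∀ j, E.obj j ⟶ T) (htt : ∀ {j k : J} (a : j ⟶ k), E.map a ≫ tt k = tt j)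
  (t' : cE.pt ⟶ T) (ht' : ∀ j, cE.π.app j ≫ tt j = t')

include hcE htt ht' in
/-- The limit of a cofiltered system of affine schemes flat over an affine base is flat over the
base. -/
theorem flat_of_forall_flat_of_isAffine (h : ∀ j, Flat (tt j)) : Flat t' := by
  have : IsAffine cE.pt := Scheme.isAffine_of_isLimit cE hcE
  letI algG : ∀ j, Algebra Γ(T, ⊤) Γ(E.obj j, ⊤) := fun j => (tt j).appTop.hom.toAlgebra
  letI algA : Algebra Γ(T, ⊤) Γ(cE.pt, ⊤) := t'.appTop.hom.toAlgebra
  let tr : ∀ {j k : J} (a : k ⟶ j), Γ(E.obj j, ⊤) →ₐ[Γ(T, ⊤)] Γ(E.obj k, ⊤) := fun {j k} a =>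
    { toRingHom := (E.map a).appTop.hom
      commutes' := fun x => by
        change (E.map a).appTop.hom ((tt j).appTop.hom x) = (tt k).appTop.hom x
        rw [← htt a, Scheme.Hom.comp_appTop]
        rfl }
  let W : CA.WeakColimit Γ(T, ⊤) (fun j => Γ(E.obj j, ⊤)) Γ(cE.pt, ⊤) :=
    { g := fun j =>
        { toRingHom := (cE.π.app j).appTop.hom
          commutes' := fun x => by
            change (cE.π.app j).appTop.hom ((tt j).appTop.hom x) = t'.appTop.hom x
            rw [← ht' j, Scheme.Hom.comp_appTop]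
            rfl }
      Adm := fun j k φ => ∃ a : k ⟶ j, φ = tr a
      adm_id := fun j => ⟨𝟙 j, by
        ext x
        change x = (E.map (𝟙 j)).appTop.hom x
        rw [E.map_id]
        simp⟩
      adm_comp := by
        rintro j k l _ _ ⟨a, rfl⟩ ⟨b, rfl⟩
        refine ⟨b ≫ a, ?_⟩
        ext x
        change (E.map b).appTop.hom ((E.map a).appTop.hom x) = (E.map (b ≫ a)).appTop.hom x
        rw [E.map_comp, Scheme.Hom.comp_appTop]
        rfl
      adm_compat := by
        rintro j k _ ⟨a, rfl⟩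
        ext x
        change (cE.π.app k).appTop.hom ((E.map a).appTop.hom x) = (cE.π.app j).appTop.hom x
        rw [← cE.w a, Scheme.Hom.comp_appTop]
        rfl
      nonempty := IsCofiltered.nonempty
      directed := fun j k => ⟨IsCofiltered.min j k, tr (IsCofiltered.minToLeft j k),
        tr (IsCofiltered.minToRight j k), ⟨_, rfl⟩, ⟨_, rfl⟩⟩
      surj := fun s => by
        obtain ⟨j, x, hx⟩ := exists_appTop_π_eq_of_isAffine_of_isLimit E cE hcE s
        exact ⟨j, x, hx⟩
      ker := fun j x hx => by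
        obtain ⟨k, a, hk⟩ := exists_appTop_map_eq_zero_of_isAffine_of_isLimit E cE hcE j x hx
        exact ⟨k, tr a, ⟨a, rfl⟩, hk⟩ }
  have hG : ∀ j, Module.Flat Γ(T, ⊤) Γ(E.obj j, ⊤) := fun j => by
    have := (HasRingHomProperty.iff_of_isAffine (P := @Flat)).mp (h j)
    exact RingHom.flat_algebraMap_iff.mp this
  have hA : Module.Flat Γ(T, ⊤) Γ(cE.pt, ⊤) := W.flat_of_forall_flat hG
  rw [HasRingHomProperty.iff_of_isAffine (P := @Flat)]
  exact RingHom.flat_algebraMap_iff.mpr hA

end

end Groth.Agent.H5.Lim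

namespace Groth.Agent.H5.Lim

variable {I : Type u} [SmallCategory I] [IsCofiltered I] (D : I ⥤ Scheme.{u}) (c : Cone D)
  (hc : IsLimit c)

include hc in
/-- If all transition maps into a stage are flat, so is the projection from the limit
(EGA IV 8.3.8). -/
theorem flat_π_app [∀ (i j : I) (f : i ⟶ j), IsAffineHom (D.map f)] (i : I)
    (hf : ∀ (j : I) (φ : j ⟶ i), Flat (D.map φ)) : Flat (c.π.app i) := by
  have hDaff : ∀ {i j : I} (f : i ⟶ j), IsAffineHom (D.map f) := fun f => inferInstance
  rw [IsZariskiLocalAtTarget.iff_of_openCover (P := @Flat) (D.obj i).affineCover]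
  intro u
  let a := (D.obj i).affineCover.f u
  have hT : IsAffine ((D.obj i).affineCover.X u) := by
    dsimp [Scheme.affineCover]; infer_instance
  have hE : ∀ j, IsAffine ((bcDiagram D a).obj j) := fun j =>
    isAffine_bcDiagram_obj D a j (hDaff _)
  have key : Flat (pullback.fst a (c.π.app i)) := by
    refine flat_of_forall_flat_of_isAffine (bcDiagram D a) (bcCone D c a) (isLimitBcCone D c a hc)
      (fun j => pullback.fst a (D.map j.hom)) (fun {j k} φ => bcMap_fst D a φ)
      (pullback.fst a (c.π.app i)) (fun j => bcProj_fst D c a j) (fun j => ?_)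
    exact MorphismProperty.pullback_fst (P := @Flat) _ _ (hf j.left j.hom)
  have e : Scheme.Cover.pullbackHom (D.obj i).affineCover (c.π.app i) u =
      (pullbackSymmetry _ _).hom ≫ pullback.fst a (c.π.app i) := by
    rw [pullbackSymmetry_hom_comp_fst]; rfl
  rw [e]
  exact (MorphismProperty.cancel_left_of_respectsIso (P := @Flat) _ _).mpr key

end Groth.Agent.H5.Lim
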