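import Groth.Agent.Lib.Helper5.Lim.ProConsLimit
import Groth.Agent.Lib.Helper5.Lim.FlatLimit
import Mathlib

set_option autoImplicit false
universe u
open CategoryTheory CategoryTheory.Limits AlgebraicGeometry Topology
open Groth.Agent.H2.ConsTop Groth.Agent.H2.ProConsLib
open scoped Set.Notation

namespace Groth.Agent.H5.Lim

/-- For a flat morphism, taking the closure of a pro-constructible set commutes with preimage
(EGA IV 2.3.10). -/
theorem closure_preimage_eq_of_flat {X Y : Scheme.{u}} (f : X ⟶ Y) [Flat f] {Z : Set Y}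
    (hZ : ProCons.IsProConstructible Z) : closure (f ⁻¹' Z) = f ⁻¹' closure Z := by
  apply Set.Subset.antisymm
  · exact closure_minimal (Set.preimage_mono subset_closure)
      (isClosed_closure.preimage f.continuous)
  · intro x hx
    obtain ⟨z, hzZ, hz⟩ := exists_specializes_of_mem_closure hZ hx
    obtain ⟨x', hx', rfl⟩ := Flat.generalizingMap f hz
    exact hx'.mem_closed isClosed_closure (subset_closure hzZ)

variable {I : Type u} [SmallCategory I] [IsCofiltered I] (D : I ⥤ Scheme.{u}) (c : Cone D)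
  (hc : IsLimit c)

include hc in
/-- A pro-constructible subset of a quasi-compact stage whose preimage in the limit lies in the
preimage of an ind-constructible one does so at a finite stage. -/
theorem preimage_subset_preimage_iff_exists
    [∀ (i j : I) (f : i ⟶ j), IsAffineHom (D.map f)] (j : I) [CompactSpace (D.obj j)]
    (A B : Set (D.obj j)) (hA : ProCons.IsProConstructible A) (hB : ProCons.IsIndConstructible B) :
    (c.π.app j) ⁻¹' A ⊆ (c.π.app j) ⁻¹' B ↔
      ∃ (k : I) (φ : k ⟶ j), (D.map φ) ⁻¹' A ⊆ (D.map φ) ⁻¹' B := by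
  classical
  constructor
  swap
  · rintro ⟨k, φ, h⟩ x hx
    have h1 : c.π.app k x ∈ (D.map φ) ⁻¹' A := by
      change D.map φ (c.π.app k x) ∈ A
      rw [← Scheme.Hom.comp_apply, c.w]
      exact hx
    have h2 := h h1
    change D.map φ (c.π.app k x) ∈ B at h2
    rwa [← Scheme.Hom.comp_apply, c.w] at h2
  intro hjsub
  have hrange : A ∩ Set.range (c.π.app j) ⊆ B := by
    rintro _ ⟨hy, x, rfl⟩
    exact hjsub hy
  rw [range_π_app D c hc j] at hrange
  let 𝒜j : Set (Set (D.obj j)) := insert A (Set.range fun k : Over j => Set.range (D.map k.hom))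
  obtain ⟨𝒜'', ℬ'', h𝒜'', hℬ'', h𝒜fin', -, hsub'⟩ :=
    exists_finite_of_sInter_subset_sUnion_scheme (X := D.obj j) (𝒜 := 𝒜j) (ℬ := {B})
      (by
        rintro _ (rfl | ⟨k, rfl⟩)
        · exact hA
        · exact isProConstructible_range (D.map k.hom))
      (by rintro _ rfl; exact hB)
      (by
        intro y hy
        rw [Set.sUnion_singleton]
        apply hrange
        refine ⟨hy A (Set.mem_insert _ _), ?_⟩
        simp only [Set.mem_iInter]
        intro k φ
        exact hy _ (Set.mem_insert_of_mem _ ⟨Over.mk φ, rfl⟩))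
  have hidxK : ∀ T ∈ 𝒜'', T ≠ A → ∃ k : Over j, Set.range (D.map k.hom) = T := by
    intro T hT hne
    rcases h𝒜'' hT with rfl | ⟨k, rfl⟩
    · exact absurd rfl hne
    · exact ⟨k, rfl⟩
  let idxK : Set (D.obj j) → Over j := fun T =>
    if hT : T ∈ 𝒜'' ∧ T ≠ A then (hidxK T hT.1 hT.2).choose else Over.mk (𝟙 j)
  let O' : Finset (Over j) := h𝒜fin'.toFinset.image idxK
  obtain ⟨k, hk⟩ := IsCofiltered.inf_objs_exists O'
  refine ⟨k.left, k.hom, ?_⟩
  intro x hxA
  have hyA : D.map k.hom x ∈ ⋂₀ 𝒜'' := by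
    intro T hT
    by_cases hne : T = A
    · rw [hne]; exact hxA
    · have hmem : idxK T ∈ O' := Finset.mem_image_of_mem idxK (h𝒜fin'.mem_toFinset.mpr hT)
      have hidx : idxK T = (hidxK T hT hne).choose := dif_pos ⟨hT, hne⟩
      have hspec := (hidxK T hT hne).choose_spec
      rw [← hidx] at hspec
      rw [← hspec]
      let ψ : k ⟶ idxK T := (hk hmem).some
      refine ⟨D.map ψ.left x, ?_⟩
      rw [← Scheme.Hom.comp_apply, ← D.map_comp, Over.w ψ]
  obtain ⟨B', hB', hyB⟩ := hsub' hyA
  have : B' = B := hℬ'' hB'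
  rw [this] at hyB
  exact hyB

include hc in
/-- EGA IV 8.3.10-type statement: for flat transition maps, containment in the closure of the
preimage of a pro-constructible set with constructible closure is detected at a finite stage. -/
theorem preimage_subset_closure_preimage_iff_of_flat
    [∀ (i j : I) (f : i ⟶ j), IsAffineHom (D.map f)] (i₁ : I) [CompactSpace (D.obj i₁)]
    (hfl : ∀ (i j : I) (φ : i ⟶ j), Flat (D.map φ))
    (Z' Z'' : Set (D.obj i₁)) (hZ' : ProCons.IsProConstructible Z')
    (hZ'' : ProCons.IsProConstructible Z'')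
    (hcl : Topology.IsConstructible (closure Z')) :
    (c.π.app i₁) ⁻¹' Z'' ⊆ closure ((c.π.app i₁) ⁻¹' Z') ↔
      ∃ (j : I) (φ : j ⟶ i₁), (D.map φ) ⁻¹' Z'' ⊆ closure ((D.map φ) ⁻¹' Z') := by
  have hπ : Flat (c.π.app i₁) := flat_π_app D c hc i₁ (fun j φ => hfl j i₁ φ)
  rw [closure_preimage_eq_of_flat (c.π.app i₁) hZ']
  have hC : ProCons.IsIndConstructible (closure Z') :=
    (isLocallyConstructible_iff.mp hcl.isLocallyConstructible).1
  rw [preimage_subset_preimage_iff_exists D c hc i₁ Z'' (closure Z') hZ'' hC]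
  constructor
  · rintro ⟨j, φ, h⟩
    have := hfl j i₁ φ
    exact ⟨j, φ, by rw [closure_preimage_eq_of_flat (D.map φ) hZ']; exact h⟩
  · rintro ⟨j, φ, h⟩
    have := hfl j i₁ φ
    exact ⟨j, φ, by rw [closure_preimage_eq_of_flat (D.map φ) hZ'] at h; exact h⟩

end Groth.Agent.H5.Lim
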