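import Groth.Agent.Lib.Helper5.Lim.DescendProps
import Mathlib

set_option autoImplicit false
universe u
open CategoryTheory CategoryTheory.Limits AlgebraicGeometry MorphismProperty Topology

namespace Groth.Agent.H5.Lim

/-- A compact subset of an open subset of a scheme is contained in a compact open subset. -/
lemma exists_isCompact_opens_between {Y : Scheme.{u}} (K : Set Y) (hK : IsCompact K) (C : Y.Opens)
    (hKC : K ⊆ C) : ∃ U : Y.Opens, IsCompact (U : Set Y) ∧ K ⊆ U ∧ U ≤ C := by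
  classical
  have hb := Y.isBasis_affineOpens
  rw [TopologicalSpace.Opens.isBasis_iff_nbhd] at hb
  choose W hW hxW hWC using fun x : K => hb (hKC x.2)
  obtain ⟨t, ht⟩ := hK.elim_finite_subcover (fun x : K => (W x : Set Y)) (fun x => (W x).2)
    (fun x hx => Set.mem_iUnion.mpr ⟨⟨x, hx⟩, hxW ⟨x, hx⟩⟩)
  refine ⟨⨆ x ∈ t, W x, ?_, ?_, ?_⟩
  · simp only [TopologicalSpace.Opens.coe_iSup]
    exact t.isCompact_biUnion fun x _ => (hW x).isCompact
  · simpa using ht
  · exact iSup₂_le fun x _ => hWC x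

/-- An immersion with quasi-compact source is a closed immersion over a compact open. -/
lemma exists_opens_isClosedImmersion {X Y : Scheme.{u}} (F : X ⟶ Y) [IsImmersion F]
    [CompactSpace X] : ∃ U : Y.Opens, IsCompact (U : Set Y) ∧ F ⁻¹ᵁ U = ⊤ ∧
      IsClosedImmersion (pullback.snd F U.ι) := by
  obtain ⟨U, hUc, hKU, hUC⟩ := exists_isCompact_opens_between (Set.range F)
    (isCompact_range F.continuous) F.coborderRange subset_coborder
  refine ⟨U, hUc, ?_, ?_⟩
  · ext x
    simpa using hKU ⟨x, rfl⟩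
  · have h1 : IsClosedImmersion (pullback.snd F F.coborderRange.ι) := by
      have hfst : IsIso (pullback.fst F F.coborderRange.ι) := by
        have : Surjective (pullback.fst F F.coborderRange.ι) := by
          rw [surjective_iff, ← Set.range_eq_univ, Scheme.Pullback.range_fst]
          ext x
          have : F x ∈ F.coborderRange := subset_coborder (s := Set.range F) ⟨x, rfl⟩
          simpa using this
        exact (isIso_iff_isOpenImmersion_and_surjective _).mpr ⟨inferInstance, this⟩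
      have e : pullback.snd F F.coborderRange.ι =
          pullback.fst F F.coborderRange.ι ≫ F.liftCoborder := by
        rw [← cancel_mono F.coborderRange.ι, Category.assoc, F.liftCoborder_ι,
          pullback.condition]
      rw [e]
      infer_instance
    have e : U.ι = Y.homOfLE hUC ≫ F.coborderRange.ι := (Y.homOfLE_ι hUC).symm
    rw [e]
    exact bc_of_comp (P := @IsClosedImmersion) F _ _ h1

/-- Immersion criterion. -/
lemma isImmersion_of_isClosedImmersion_snd {X Y : Scheme.{u}} (F : X ⟶ Y) (V : Y.Opens)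
    (hV : F ⁻¹ᵁ V = ⊤) (h : IsClosedImmersion (pullback.snd F V.ι)) : IsImmersion F := by
  have hfst : IsIso (pullback.fst F V.ι) := by
    have : Surjective (pullback.fst F V.ι) := by
      rw [surjective_iff, ← Set.range_eq_univ, Scheme.Pullback.range_fst]
      ext x
      have : x ∈ F ⁻¹ᵁ V := by rw [hV]; trivial
      simpa using this
    exact (isIso_iff_isOpenImmersion_and_surjective _).mpr ⟨inferInstance, this⟩
  have e : F = inv (pullback.fst F V.ι) ≫ pullback.snd F V.ι ≫ V.ι := by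
    rw [IsIso.eq_inv_comp, pullback.condition]
  rw [e]
  infer_instance

section LemmaX

variable {I : Type u} [SmallCategory I] [IsCofiltered I] (D : I ⥤ Scheme.{u}) (c : Cone D)
  (hc : IsLimit c) [∀ (i j : I) (f : i ⟶ j), IsAffineHom (D.map f)]

include hc in
/-- Descent of a property over a quasi-compact open of the limit. -/
theorem exists_opens_bc {P Φ : MorphismProperty Scheme.{u}} [IsZariskiLocalAtTarget P]
    [P.IsStableUnderBaseChange] [Φ.IsStableUnderBaseChange] (H : AffineSystemDescent P Φ)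
    (i₀ : I) {X₀ : Scheme.{u}} (f₀ : X₀ ⟶ D.obj i₀) (hΦ : Φ f₀) (U : c.pt.Opens)
    (hU : IsCompact (U : Set c.pt)) (hP : P (pullback.snd f₀ (U.ι ≫ c.π.app i₀))) :
    ∃ (k : Over i₀) (V : (D.obj k.left).Opens), IsCompact (V : Set (D.obj k.left)) ∧
      c.π.app k.left ⁻¹ᵁ V = U ∧ P (pullback.snd f₀ (V.ι ≫ D.map k.hom)) := by
  have hDaff : ∀ {i j : I} (f : i ⟶ j), IsAffineHom (D.map f) := fun f => inferInstance
  obtain ⟨i, V₀, hV₀c, hV₀⟩ := exists_preimage_eq D c hc U hU
  let m := IsCofiltered.min i i₀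
  let a : m ⟶ i := IsCofiltered.minToLeft i i₀
  let b : m ⟶ i₀ := IsCofiltered.minToRight i i₀
  let V₁ : (D.obj m).Opens := D.map a ⁻¹ᵁ V₀
  have hV₁c : IsCompact (V₁ : Set (D.obj m)) := (D.map a).isCompact_preimage hV₀c
  have hV₁ : c.π.app m ⁻¹ᵁ V₁ = U := by
    rw [← hV₀, ← Scheme.Hom.comp_preimage, c.w]
  subst hV₁
  let D' := opensDiagram D m V₁
  let c' := opensCone D c m V₁
  have hc' : IsLimit c' := isLimitOpensCone D c hc m V₁
  have hD'aff : ∀ (j k : Over m) (f : j ⟶ k), IsAffineHom (D'.map f) := fun j k f => by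
    dsimp only [D']; infer_instance
  let ι' := opensDiagramι D m V₁
  let l₁ : Over m := Over.mk (𝟙 m)
  have hcomp : CompactSpace (D'.obj l₁) :=
    isCompact_iff_compactSpace.mp ((D.map l₁.hom).isCompact_preimage hV₁c)
  let al : ∀ l : Over m, D'.obj l ⟶ D.obj i₀ := fun l => ι'.app l ≫ D.map l.hom ≫ D.map b
  have hal : ∀ {l l' : Over m} (ψ : l' ⟶ l), D'.map ψ ≫ al l = al l' := by
    intro l l' ψ
    dsimp only [al]
    rw [ι'.naturality_assoc ψ]
    have : D.map ψ.left ≫ D.map l.hom = D.map l'.hom := by rw [← D.map_comp, Over.w ψ]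
    refine congrArg (ι'.app l' ≫ ·) ?_
    change D.map ψ.left ≫ D.map l.hom ≫ D.map b = _
    rw [reassoc_of% this]
    rfl
  have hcl : c'.π.app l₁ ≫ al l₁ = (c.π.app m ⁻¹ᵁ V₁).ι ≫ c.π.app i₀ := by
    have h1 : c'.π.app l₁ ≫ ι'.app l₁ = (c.π.app m ⁻¹ᵁ V₁).ι ≫ c.π.app m :=
      Scheme.Hom.resLE_comp_ι _ _
    have h2 : D.map l₁.hom ≫ D.map b = D.map b := by
      change D.map (𝟙 m) ≫ _ = _
      rw [D.map_id, Category.id_comp]
    calc c'.π.app l₁ ≫ al l₁ = (c'.π.app l₁ ≫ ι'.app l₁) ≫ D.map l₁.hom ≫ D.map b := by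
          dsimp only [al]; rw [Category.assoc]
      _ = ((c.π.app m ⁻¹ᵁ V₁).ι ≫ c.π.app m) ≫ D.map b := by
          rw [h1]; exact congrArg (((c.π.app m ⁻¹ᵁ V₁).ι ≫ c.π.app m) ≫ ·) h2
      _ = _ := by rw [Category.assoc, c.w]
  let F₀ := pullback.snd f₀ (al l₁)
  have hF₀ : P (pullback.snd F₀ (c'.π.app l₁)) := by
    rw [← bc_comp_iff (P := P), bc_congr (P := P) f₀ hcl]
    exact hP
  obtain ⟨l, ψ, hl⟩ := exists_bc_of_affineSystemDescent D' c' hc' H l₁ F₀
    (Φ.pullback_snd _ _ hΦ) hF₀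
  rw [← bc_comp_iff (P := P), bc_congr (P := P) f₀ (hal ψ)] at hl
  refine ⟨Over.mk (l.hom ≫ b), D.map l.hom ⁻¹ᵁ V₁, (D.map l.hom).isCompact_preimage hV₁c, ?_, ?_⟩
  · change c.π.app l.left ⁻¹ᵁ (D.map l.hom ⁻¹ᵁ V₁) = _
    rw [← Scheme.Hom.comp_preimage, c.w]
  · have : al l = (D.map l.hom ⁻¹ᵁ V₁).ι ≫ D.map (l.hom ≫ b) := by
      dsimp only [al]
      rw [D.map_comp]
      rfl
    rw [bc_congr (P := P) f₀ this] at hl
    exact hl

end LemmaX

/-- Immersions descend along cofiltered limits of affine schemes. -/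
theorem affineSystemDescent_isImmersion : AffineSystemDescent.{u} @IsImmersion
    (@LocallyOfFiniteType ⊓ (@QuasiCompact ⊓ @QuasiSeparated)) := by
  intro J _ _ E cE hcE _ j₁ Z₀ h₀ hΦ hP
  have hEaff : ∀ {j k : J} (a : j ⟶ k), IsAffineHom (E.map a) := fun a => inferInstance
  have : IsAffine cE.pt := Scheme.isAffine_of_isLimit cE hcE
  have : QuasiCompact h₀ := hΦ.2.1
  have : CompactSpace Z₀ := QuasiCompact.compactSpace_of_compactSpace h₀
  let F := pullback.snd h₀ (cE.π.app j₁)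
  have : IsImmersion F := hP
  have : CompactSpace ↥(((Functor.const J).obj cE.pt).obj j₁) :=
    inferInstanceAs (CompactSpace cE.pt)
  have : CompactSpace ↥(pullback h₀ (cE.π.app j₁)) := QuasiCompact.compactSpace_of_compactSpace F
  obtain ⟨U, hUc, hFU, hU⟩ := exists_opens_isClosedImmersion F
  have hU' : (@IsClosedImmersion : MorphismProperty Scheme.{u})
      (pullback.snd h₀ (U.ι ≫ cE.π.app j₁)) := by
    rw [bc_comp_iff (P := @IsClosedImmersion)]; exact hU
  obtain ⟨k, V, hVc, hVU, hV⟩ := exists_opens_bc E cE hcE affineSystemDescent_isClosedImmersion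
    j₁ h₀ hΦ U hUc hU'
  -- now make the image land in `V`
  have h1 : ∀ j, CompactSpace ((bcDiagram E h₀).obj j) := fun j =>
    compactSpace_bcDiagram_obj E h₀ j (hEaff _)
  have h3 : ∀ {j k : Over j₁} (φ : j ⟶ k), IsAffineHom ((bcDiagram E h₀).map φ) := fun φ =>
    isAffineHom_bcMap E h₀ φ (hEaff _)
  let W : ((bcDiagram E h₀).obj k).Opens := (pullback.snd h₀ (E.map k.hom)) ⁻¹ᵁ V
  have hW : (bcCone E cE h₀).π.app k ⁻¹ᵁ W = ⊤ := by
    change bcProj E cE h₀ k ⁻¹ᵁ ((pullback.snd h₀ (E.map k.hom)) ⁻¹ᵁ V) = ⊤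
    rw [← Scheme.Hom.comp_preimage, bcProj_snd, Scheme.Hom.comp_preimage, hVU]
    exact hFU
  obtain ⟨k', ψ, hk'⟩ := exists_map_eq_top (bcDiagram E h₀) (bcCone E cE h₀)
    (isLimitBcCone E cE h₀ hcE) W hW
  let V' : (E.obj k'.left).Opens := E.map ψ.left ⁻¹ᵁ V
  let F' := pullback.snd h₀ (E.map k'.hom)
  have hF'V' : F' ⁻¹ᵁ V' = ⊤ := by
    change pullback.snd h₀ (E.map k'.hom) ⁻¹ᵁ (E.map ψ.left ⁻¹ᵁ V) = ⊤
    rw [← Scheme.Hom.comp_preimage, ← bcMap_snd, Scheme.Hom.comp_preimage]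
    exact hk'
  have hV' : (@IsClosedImmersion : MorphismProperty Scheme.{u})
      (pullback.snd h₀ (V'.ι ≫ E.map k'.hom)) := by
    have e : V'.ι ≫ E.map k'.hom = (E.map ψ.left ∣_ V) ≫ V.ι ≫ E.map k.hom := by
      rw [morphismRestrict_ι_assoc, ← E.map_comp, Over.w ψ]
    rw [bc_congr (P := @IsClosedImmersion) h₀ e]
    exact bc_of_comp h₀ _ _ hV
  rw [bc_comp_iff (P := @IsClosedImmersion)] at hV'
  exact ⟨k'.left, k'.hom, isImmersion_of_isClosedImmersion_snd F' V' hF'V' hV'⟩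

end Groth.Agent.H5.Lim
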