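import Groth.Agent.Lib.Helper5.CA.WeakColimitQuasiFinite
import Groth.Agent.Lib.Helper5.Lim.DescendProps
import Mathlib

set_option autoImplicit false
universe u
open CategoryTheory CategoryTheory.Limits AlgebraicGeometry MorphismProperty

namespace Groth.Agent.H5.Lim

open CA

theorem ringDescent_quasiFinite : RingDescent.{u} RingHom.QuasiFinite RingHom.FiniteType := by
  intro K _ ι G _ _ A _ _ W C _ _ hΦ h
  have : Algebra.FiniteType K C := RingHom.finiteType_algebraMap.mp hΦ
  obtain ⟨j, hj⟩ := W.exists_quasiFinite (RingHom.quasiFinite_algebraMap.mp h)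
  exact ⟨j, fun S _ _ ψ => RingHom.quasiFinite_algebraMap.mpr (hj S ψ)⟩

theorem affineSystemDescent_locallyQuasiFinite : AffineSystemDescent.{u} @LocallyQuasiFinite
    (@LocallyOfFiniteType ⊓ (@QuasiCompact ⊓ @QuasiSeparated)) :=
  affineSystemDescent_of_hasRingHomProperty ringDescent_quasiFinite

end Groth.Agent.H5.Lim
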