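import Groth.Agent.Lib.Helper5.Lim.BaseChangeSystem
import Mathlib

set_option autoImplicit false
universe u
open CategoryTheory CategoryTheory.Limits AlgebraicGeometry MorphismProperty

namespace Groth.Agent.H5.Lim

section TBC

variable {I : Type u} [SmallCategory I] (D : I ⥤ Scheme.{u}) {S : Scheme.{u}}
  (t : D ⟶ (Functor.const I).obj S) {T : Scheme.{u}} (q : T ⟶ S)

omit [SmallCategory I] in
lemma t_naturality {I : Type u} [SmallCategory I] (D : I ⥤ Scheme.{u}) {S : Scheme.{u}}
    (t : D ⟶ (Functor.const I).obj S) {j k : I} (a : j ⟶ k) : D.map a ≫ t.app k = t.app j := by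
  have := t.naturality a
  simpa using this

/-- transition maps of the base change of an `S`-system along `q : T ⟶ S` -/
noncomputable def tbcMap {j k : I} (a : j ⟶ k) : pullback q (t.app j) ⟶ pullback q (t.app k) :=
  pullback.lift (pullback.fst q (t.app j)) (pullback.snd q (t.app j) ≫ D.map a)
    (by rw [Category.assoc, t_naturality, pullback.condition])

@[reassoc (attr := simp)]
lemma tbcMap_fst {j k : I} (a : j ⟶ k) :
    tbcMap D t q a ≫ pullback.fst q (t.app k) = pullback.fst q (t.app j) :=
  pullback.lift_fst _ _ _

@[reassoc (attr := simp)]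
lemma tbcMap_snd {j k : I} (a : j ⟶ k) :
    tbcMap D t q a ≫ pullback.snd q (t.app k) = pullback.snd q (t.app j) ≫ D.map a :=
  pullback.lift_snd _ _ _

/-- The base change of an `S`-system `D` along `q : T ⟶ S`. -/
@[simps]
noncomputable def tbcDiagram : I ⥤ Scheme.{u} where
  obj j := pullback q (t.app j)
  map {j k} a := tbcMap D t q a
  map_id j := by
    apply pullback.hom_ext
    · rw [tbcMap_fst, Category.id_comp]
    · rw [tbcMap_snd, D.map_id, Category.comp_id, Category.id_comp]
  map_comp {j k l} a b := by
    apply pullback.hom_ext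
    · rw [tbcMap_fst, Category.assoc, tbcMap_fst, tbcMap_fst]
    · rw [tbcMap_snd, Category.assoc, tbcMap_snd, tbcMap_snd_assoc, D.map_comp]

@[simps]
noncomputable def tbcDiagramι : tbcDiagram D t q ⟶ D where
  app j := pullback.snd q (t.app j)
  naturality j k a := tbcMap_snd D t q a

variable (c : Cone D) (p : c.pt ⟶ S) (hp : ∀ k, c.π.app k ≫ t.app k = p)

/-- projections of the base change cone -/
noncomputable def tbcProj (k : I) : pullback q p ⟶ pullback q (t.app k) :=
  pullback.lift (pullback.fst q p) (pullback.snd q p ≫ c.π.app k)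
    (by rw [Category.assoc, hp, pullback.condition])

@[reassoc (attr := simp)]
lemma tbcProj_fst (k : I) :
    tbcProj D t q c p hp k ≫ pullback.fst q (t.app k) = pullback.fst q p :=
  pullback.lift_fst _ _ _

@[reassoc (attr := simp)]
lemma tbcProj_snd (k : I) :
    tbcProj D t q c p hp k ≫ pullback.snd q (t.app k) = pullback.snd q p ≫ c.π.app k :=
  pullback.lift_snd _ _ _

/-- The base change of the cone `c` along `q`. -/
@[simps]
noncomputable def tbcCone : Cone (tbcDiagram D t q) where
  pt := pullback q p
  π :=
    { app := fun j => tbcProj D t q c p hp j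
      naturality := fun j k a => by
        change 𝟙 _ ≫ tbcProj D t q c p hp k = tbcProj D t q c p hp j ≫ tbcMap D t q a
        rw [Category.id_comp]
        apply pullback.hom_ext
        · rw [tbcProj_fst, Category.assoc, tbcMap_fst, tbcProj_fst]
        · rw [tbcProj_snd, Category.assoc, tbcMap_snd, tbcProj_snd_assoc, c.w] }

lemma isPullback_tbcProj (k : I) :
    IsPullback (tbcProj D t q c p hp k) (pullback.snd q p) (pullback.snd q (t.app k))
      (c.π.app k) := by
  have h1 : IsPullback (pullback.fst q (t.app k)) (pullback.snd q (t.app k)) q (t.app k) :=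
    IsPullback.of_hasPullback _ _
  have h2 : IsPullback (pullback.fst q p) (pullback.snd q p) q (c.π.app k ≫ t.app k) := by
    rw [hp]
    exact IsPullback.of_hasPullback _ _
  refine IsPullback.of_right ?_ (tbcProj_snd D t q c p hp k) h1
  rw [tbcProj_fst]
  exact h2

/-- The base change of a limit cone is a limit cone. -/
noncomputable def isLimitTbcCone [IsCofiltered I] (hc : IsLimit c) :
    IsLimit (tbcCone D t q c p hp) :=
  have : IsConnected I := IsCofiltered.isConnected I
  isLimitOfIsPullbackOfIsConnected (tbcDiagramι D t q) _ c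
    { hom := pullback.snd q p
      w := fun j => (tbcProj_snd D t q c p hp j).symm }
    (fun j => isPullback_tbcProj D t q c p hp j) hc

lemma isPullback_tbcMap {j k : I} (a : j ⟶ k) :
    IsPullback (tbcMap D t q a) (pullback.snd q (t.app j)) (pullback.snd q (t.app k))
      (D.map a) := by
  have h1 : IsPullback (pullback.fst q (t.app k)) (pullback.snd q (t.app k)) q (t.app k) :=
    IsPullback.of_hasPullback _ _
  have h2 : IsPullback (pullback.fst q (t.app j)) (pullback.snd q (t.app j)) q
      (D.map a ≫ t.app k) := by
    rw [t_naturality]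
    exact IsPullback.of_hasPullback _ _
  refine IsPullback.of_right ?_ (tbcMap_snd D t q a) h1
  rw [tbcMap_fst]
  exact h2

lemma isAffineHom_tbcMap {j k : I} (a : j ⟶ k) (h : IsAffineHom (D.map a)) :
    IsAffineHom (tbcMap D t q a) :=
  MorphismProperty.of_isPullback (P := @IsAffineHom) (isPullback_tbcMap D t q a).flip h

end TBC

end Groth.Agent.H5.Lim
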