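import Groth.Agent.Lib.Helper5.Lim.ModuleHomSurj4

set_option autoImplicit false
universe u
open CategoryTheory CategoryTheory.Limits AlgebraicGeometry Opposite TopologicalSpace TensorProduct
open Groth.Agent.LD.QC

namespace Groth.Agent.H5.Lim

section

variable {I : Type u} [SmallCategory I] [IsCofiltered I] (D : I ⥤ Scheme.{u}) (c : Cone D)
  (hc : IsLimit c) [∀ (i j : I) (f : i ⟶ j), IsAffineHom (D.map f)]
  (i₀ : I) (F₀ G₀ : (D.obj i₀).Modules)

include hc in
/-- **EGA IV 8.5.2.5**: two finitely presented modules on a quasi-compact quasi-separated stage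
whose pullbacks to the limit are isomorphic have isomorphic pullbacks at some stage. -/
theorem exists_stage_iso_pullback [CompactSpace (D.obj i₀)] [QuasiSeparatedSpace (D.obj i₀)]
    (hF₀ : F₀.IsFinitePresentation) (hG₀ : G₀.IsFinitePresentation)
    (i : (Scheme.Modules.pullback (c.π.app i₀)).obj F₀ ≅
      (Scheme.Modules.pullback (c.π.app i₀)).obj G₀) :
    ∃ k : Over i₀, Nonempty ((Scheme.Modules.pullback (D.map k.hom)).obj F₀ ≅
      (Scheme.Modules.pullback (D.map k.hom)).obj G₀) := by
  haveI : F₀.IsQuasicoherent := inferInstance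
  haveI : G₀.IsQuasicoherent := inferInstance
  obtain ⟨k, ψ, hψ⟩ := exists_stage_hom_pullback_eq D c hc i₀ F₀ G₀ hF₀ i.hom
  have hiso : IsIso ((Scheme.Modules.pullback (c.π.app k.left)).map ψ) := by
    have : (Scheme.Modules.pullback (c.π.app k.left)).map ψ =
        ((pullbackStageIso D c i₀ k.hom).app F₀).hom ≫ i.hom ≫
          ((pullbackStageIso D c i₀ k.hom).app G₀).inv := by
      rw [← hψ]
      simp
    rw [this]
    infer_instance
  haveI : CompactSpace (D.obj k.left) := QuasiCompact.compactSpace_of_compactSpace (D.map k.hom)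
  haveI : ((Scheme.Modules.pullback (D.map k.hom)).obj F₀).IsQuasicoherent :=
    qc_pullback (D.map k.hom) F₀
  have hFk : ((Scheme.Modules.pullback (D.map k.hom)).obj F₀).IsFiniteType :=
    isFiniteType_pullback (D.map k.hom) F₀ inferInstance
  have hGk : ((Scheme.Modules.pullback (D.map k.hom)).obj G₀).IsFinitePresentation :=
    isFinitePresentation_pullback (D.map k.hom) G₀ hG₀
  obtain ⟨k₂, hk₂⟩ := exists_stage_isIso_pullback_map D c hc k.left hFk hGk ψ hiso
  refine ⟨Over.mk (k₂.hom ≫ k.hom), ⟨?_⟩⟩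
  exact ((pullbackCompIso (D.map k₂.hom) (D.map k.hom) (D.map (k₂.hom ≫ k.hom))
      (D.map_comp _ _).symm).app F₀).symm ≪≫
    asIso ((Scheme.Modules.pullback (D.map k₂.hom)).map ψ) ≪≫
    (pullbackCompIso (D.map k₂.hom) (D.map k.hom) (D.map (k₂.hom ≫ k.hom))
      (D.map_comp _ _).symm).app G₀

omit [IsCofiltered I] [∀ (i j : I) (f : i ⟶ j), IsAffineHom (D.map f)] in
/-- an isomorphism at a stage pulls back to an isomorphism on the limit. -/
lemma nonempty_iso_pullback_of_stage {j : I} (φ : j ⟶ i₀)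
    (i : (Scheme.Modules.pullback (D.map φ)).obj F₀ ≅ (Scheme.Modules.pullback (D.map φ)).obj G₀) :
    Nonempty ((Scheme.Modules.pullback (c.π.app i₀)).obj F₀ ≅
      (Scheme.Modules.pullback (c.π.app i₀)).obj G₀) :=
  ⟨((pullbackStageIso D c i₀ φ).app F₀).symm ≪≫
    (Scheme.Modules.pullback (c.π.app j)).mapIso i ≪≫ (pullbackStageIso D c i₀ φ).app G₀⟩

end

end Groth.Agent.H5.Lim
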