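import Groth.Agent.Lib.Helper5.Lim.ConstructibleOpen
import Groth.Agent.Lib.Helper5.Lim.Points
import Mathlib

set_option autoImplicit false
universe u
open CategoryTheory CategoryTheory.Limits AlgebraicGeometry Topology

namespace Groth.Agent.H5.Lim

lemma exists_clopen_partition_of_not_preconnectedSpace {X : Type*} [TopologicalSpace X]
    [CompactSpace X] (h : ¬ PreconnectedSpace X) :
    ∃ U V : Set X, IsOpen U ∧ IsOpen V ∧ IsCompact U ∧ IsCompact V ∧ U.Nonempty ∧ V.Nonempty ∧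
      U ∪ V = Set.univ ∧ U ∩ V = ∅ := by
  have h1 : ¬ _root_.IsPreconnected (Set.univ : Set X) := fun h2 => h ⟨h2⟩
  unfold _root_.IsPreconnected at h1
  push_neg at h1
  obtain ⟨u, v, hu, hv, hcov, hune, hvne, hdisj⟩ := h1
  simp only [Set.univ_inter] at hune hvne hdisj
  have hcov' : u ∪ v = Set.univ := Set.eq_univ_of_univ_subset hcov
  have hu' : u = vᶜ := by
    ext x
    constructor
    · intro hx hx'
      have : x ∈ u ∩ v := ⟨hx, hx'⟩
      rw [hdisj] at this
      exact this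
    · intro hx
      have : x ∈ u ∪ v := hcov' ▸ Set.mem_univ x
      exact this.resolve_right hx
  have hv' : v = uᶜ := by rw [hu', compl_compl]
  refine ⟨u, v, hu, hv, ?_, ?_, hune, hvne, hcov', hdisj⟩
  · rw [hu']; exact hv.isClosed_compl.isCompact
  · rw [hv']; exact hu.isClosed_compl.isCompact

variable {I : Type u} [SmallCategory I] [IsCofiltered I] (D : I ⥤ Scheme.{u}) (c : Cone D)
  (hc : IsLimit c)

include hc in
/-- If the limit is not connected, neither are the stages beyond some index (EGA IV 8.4.1). -/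
theorem eventually_not_preconnectedSpace [∀ (i j : I) (f : i ⟶ j), IsAffineHom (D.map f)]
    (i₀ : I) [CompactSpace (D.obj i₀)] [QuasiSeparatedSpace (D.obj i₀)]
    (h : ¬ PreconnectedSpace c.pt) :
    ∃ k : Over i₀, ∀ (j : I) (_ : j ⟶ k.left), ¬ PreconnectedSpace (D.obj j) := by
  have hcpt : CompactSpace c.pt := compactSpace_pt_of_compactSpace D c hc i₀
  obtain ⟨U, V, hUo, hVo, hUc, hVc, hUne, hVne, hcov, hdisj⟩ :=
    exists_clopen_partition_of_not_preconnectedSpace h
  obtain ⟨k₁, U₁, hU₁c, hU₁⟩ := exists_over_preimage_eq D c hc i₀ ⟨U, hUo⟩ hUc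
  obtain ⟨k₂, V₂, hV₂c, hV₂⟩ := exists_over_preimage_eq D c hc i₀ ⟨V, hVo⟩ hVc
  let k : Over i₀ := IsCofiltered.min k₁ k₂
  let φ₁ : k.left ⟶ k₁.left := (IsCofiltered.minToLeft k₁ k₂).left
  let φ₂ : k.left ⟶ k₂.left := (IsCofiltered.minToRight k₁ k₂).left
  have : QuasiSeparatedSpace (D.obj k.left) := quasiSeparatedSpace_of_over D k
  have : CompactSpace (D.obj k.left) := compactSpace_of_over D k
  let Uk : Set (D.obj k.left) := (D.map φ₁) ⁻¹' (U₁ : Set (D.obj k₁.left))
  let Vk : Set (D.obj k.left) := (D.map φ₂) ⁻¹' (V₂ : Set (D.obj k₂.left))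
  have hUko : IsOpen Uk := U₁.2.preimage (D.map φ₁).continuous
  have hVko : IsOpen Vk := V₂.2.preimage (D.map φ₂).continuous
  have hUkc : IsCompact Uk := QuasiCompact.isCompact_preimage (f := D.map φ₁) _ U₁.2 hU₁c
  have hVkc : IsCompact Vk := QuasiCompact.isCompact_preimage (f := D.map φ₂) _ V₂.2 hV₂c
  have hUk : (c.π.app k.left) ⁻¹' Uk = U := by
    rw [preimage_π_app_map]
    exact congrArg (fun W : c.pt.Opens => (W : Set c.pt)) hU₁
  have hVk : (c.π.app k.left) ⁻¹' Vk = V := by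
    rw [preimage_π_app_map]
    exact congrArg (fun W : c.pt.Opens => (W : Set c.pt)) hV₂
  have hUkC : IsConstructible Uk := hUkc.isConstructible hUko
  have hVkC : IsConstructible Vk := hVkc.isConstructible hVko
  obtain ⟨k', hk'⟩ := exists_preimage_eq_empty_of_isConstructible D c hc k.left (Uk ∩ Vk)
    (hUkC.inter hVkC) (by rw [Set.preimage_inter, hUk, hVk, hdisj])
  obtain ⟨k'', hk''⟩ := exists_preimage_eq_empty_of_isConstructible D c hc k.left (Uk ∪ Vk)ᶜ
    (hUkC.union hVkC).compl (by rw [Set.preimage_compl, Set.preimage_union, hUk, hVk, hcov]; simp)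
  let k₃ : Over k.left := IsCofiltered.min k' k''
  have h1 := preimage_eq_empty_of_hom D (IsCofiltered.minToLeft k' k'') _ hk'
  have h2 := preimage_eq_empty_of_hom D (IsCofiltered.minToRight k' k'') _ hk''
  refine ⟨Over.mk (k₃.hom ≫ k.hom), fun j ψ hpc => ?_⟩
  change j ⟶ k₃.left at ψ
  let φ : j ⟶ k.left := ψ ≫ k₃.hom
  have e1 : (D.map φ) ⁻¹' (Uk ∩ Vk) = ∅ := by
    change (D.map (ψ ≫ k₃.hom)) ⁻¹' _ = ∅
    rw [D.map_comp, Scheme.Hom.comp_base, TopCat.coe_comp, Set.preimage_comp, h1,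
      Set.preimage_empty]
  have e2 : (D.map φ) ⁻¹' (Uk ∪ Vk)ᶜ = ∅ := by
    change (D.map (ψ ≫ k₃.hom)) ⁻¹' _ = ∅
    rw [D.map_comp, Scheme.Hom.comp_base, TopCat.coe_comp, Set.preimage_comp, h2,
      Set.preimage_empty]
  have hne1 : ((D.map φ) ⁻¹' Uk).Nonempty := by
    obtain ⟨x, hx⟩ := hUne
    refine ⟨c.π.app j x, ?_⟩
    rw [← hUk, ← preimage_π_app_map D c φ] at hx
    exact hx
  have hne2 : ((D.map φ) ⁻¹' Vk).Nonempty := by
    obtain ⟨x, hx⟩ := hVne
    refine ⟨c.π.app j x, ?_⟩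
    rw [← hVk, ← preimage_π_app_map D c φ] at hx
    exact hx
  have hcovj : (Set.univ : Set (D.obj j)) ⊆ (D.map φ) ⁻¹' Uk ∪ (D.map φ) ⁻¹' Vk := by
    rw [← Set.preimage_union]
    rw [Set.preimage_compl, Set.compl_empty_iff] at e2
    rw [e2]
  have := hpc.isPreconnected_univ _ _ (hUko.preimage (D.map φ).continuous)
    (hVko.preimage (D.map φ).continuous) hcovj (by simpa using hne1) (by simpa using hne2)
  rw [Set.univ_inter, ← Set.preimage_inter, e1] at this
  exact Set.not_nonempty_empty this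

end Groth.Agent.H5.Lim

namespace Groth.Agent.H5.Lim

variable {I : Type u} [SmallCategory I] [IsCofiltered I] (D : I ⥤ Scheme.{u}) (c : Cone D)
  (hc : IsLimit c)

include hc in
/-- With dominant transition maps, the limit is connected iff the stages eventually are
(EGA IV 8.4.1 (ii)). -/
theorem connectedSpace_iff_eventually [∀ (i j : I) (f : i ⟶ j), IsAffineHom (D.map f)]
    (i₀ : I) [CompactSpace (D.obj i₀)] (hd : ∀ (i j : I) (φ : i ⟶ j), IsDominant (D.map φ)) :
    ConnectedSpace c.pt ↔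
      ∃ (i : I) (_ : i ⟶ i₀), ∀ (j : I) (_ : j ⟶ i), ConnectedSpace (D.obj j) := by
  have hdom : ∀ i, IsDominant (c.π.app i) := fun i =>
    (isDominant_π_app_iff D c hc i).mpr (fun j φ => hd j i φ)
  constructor
  · intro h
    refine ⟨i₀, 𝟙 i₀, fun j _ => ?_⟩
    have h0 : PreconnectedSpace ↥(((Functor.const I).obj c.pt).obj j) := h.toPreconnectedSpace
    have h1 : PreconnectedSpace (D.obj j) :=
      (hdom j).denseRange.preconnectedSpace (c.π.app j).continuous
    have h2 : Nonempty (D.obj j) := by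
      obtain ⟨x⟩ := h.toNonempty
      exact ⟨c.π.app j x⟩
    exact { toPreconnectedSpace := h1, toNonempty := h2 }
  · rintro ⟨i, φ₀, hi⟩
    have hcpt : CompactSpace c.pt := compactSpace_pt_of_compactSpace D c hc i₀
    have hne : Nonempty c.pt := by
      by_contra hemp
      rw [not_nonempty_iff] at hemp
      obtain ⟨y⟩ := (hi i (𝟙 i)).toNonempty
      have := (hdom i).denseRange y
      have hemp' : IsEmpty ↥(((Functor.const I).obj c.pt).obj i) := hemp
      rw [Set.range_eq_empty, closure_empty] at this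
      exact this
    refine { toNonempty := hne, toPreconnectedSpace := ?_ }
    by_contra hnp
    obtain ⟨U, V, hUo, hVo, hUc, hVc, hUne, hVne, hcov, hdisj⟩ :=
      exists_clopen_partition_of_not_preconnectedSpace hnp
    obtain ⟨i₁, U₁, -, hU₁⟩ := exists_preimage_eq D c hc ⟨U, hUo⟩ hUc
    obtain ⟨i₂, V₂, -, hV₂⟩ := exists_preimage_eq D c hc ⟨V, hVo⟩ hVc
    -- a common stage over `i`, `i₁`, `i₂`
    let a : I := IsCofiltered.min i (IsCofiltered.min i₁ i₂)
    let φi : a ⟶ i := IsCofiltered.minToLeft _ _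
    let φ₁ : a ⟶ i₁ := IsCofiltered.minToRight _ _ ≫ IsCofiltered.minToLeft _ _
    let φ₂ : a ⟶ i₂ := IsCofiltered.minToRight _ _ ≫ IsCofiltered.minToRight _ _
    let Ua : (D.obj a).Opens := D.map φ₁ ⁻¹ᵁ U₁
    let Va : (D.obj a).Opens := D.map φ₂ ⁻¹ᵁ V₂
    have hUa : c.π.app a ⁻¹ᵁ Ua = ⟨U, hUo⟩ := by
      rw [← Scheme.Hom.comp_preimage, c.w, hU₁]
    have hVa : c.π.app a ⁻¹ᵁ Va = ⟨V, hVo⟩ := by
      rw [← Scheme.Hom.comp_preimage, c.w, hV₂]
    have hcompa : CompactSpace (D.obj a) :=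
      QuasiCompact.compactSpace_of_compactSpace (D.map (φi ≫ φ₀))
    have htop : c.π.app a ⁻¹ᵁ (⊤ : (D.obj a).Opens) ≤ c.π.app a ⁻¹ᵁ (Ua ⊔ Va) := by
      intro x _
      have hx : x ∈ U ∪ V := hcov ▸ Set.mem_univ x
      rcases hx with hx | hx
      · have : x ∈ c.π.app a ⁻¹ᵁ Ua := by rw [hUa]; exact hx
        exact Or.inl this
      · have : x ∈ c.π.app a ⁻¹ᵁ Va := by rw [hVa]; exact hx
        exact Or.inr this
    obtain ⟨b, ψ, hb⟩ := exists_map_preimage_le_map_preimage D c hc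
      (U := (⊤ : (D.obj a).Opens)) (V := Ua ⊔ Va) CompactSpace.isCompact_univ htop
    have hconn : ConnectedSpace (D.obj b) := hi b (ψ ≫ φi)
    let Ub : Set (D.obj b) := (D.map ψ) ⁻¹' (Ua : Set (D.obj a))
    let Vb : Set (D.obj b) := (D.map ψ) ⁻¹' (Va : Set (D.obj a))
    have hUb : (c.π.app b) ⁻¹' Ub = U := by
      rw [preimage_π_app_map]
      exact congrArg (fun W : c.pt.Opens => (W : Set c.pt)) hUa
    have hVb : (c.π.app b) ⁻¹' Vb = V := by
      rw [preimage_π_app_map]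
      exact congrArg (fun W : c.pt.Opens => (W : Set c.pt)) hVa
    have hcovb : (Set.univ : Set (D.obj b)) ⊆ Ub ∪ Vb := by
      intro y _
      have := hb (show y ∈ D.map ψ ⁻¹ᵁ (⊤ : (D.obj a).Opens) from trivial)
      exact this
    have hne1 : (Set.univ ∩ Ub).Nonempty := by
      obtain ⟨x, hx⟩ := hUne
      rw [← hUb] at hx
      exact ⟨c.π.app b x, trivial, hx⟩
    have hne2 : (Set.univ ∩ Vb).Nonempty := by
      obtain ⟨x, hx⟩ := hVne
      rw [← hVb] at hx
      exact ⟨c.π.app b x, trivial, hx⟩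
    have hUbo : IsOpen Ub := Ua.2.preimage (D.map ψ).continuous
    have hVbo : IsOpen Vb := Va.2.preimage (D.map ψ).continuous
    obtain ⟨y, -, hy⟩ := hconn.toPreconnectedSpace.isPreconnected_univ Ub Vb hUbo hVbo hcovb
      hne1 hne2
    have hdense := (hdom b).denseRange
    rw [DenseRange, dense_iff_inter_open] at hdense
    obtain ⟨_, hz, ⟨x, rfl⟩⟩ := hdense (Ub ∩ Vb) (hUbo.inter hVbo) ⟨y, hy⟩
    have hxU : x ∈ U := by rw [← hUb]; exact hz.1
    have hxV : x ∈ V := by rw [← hVb]; exact hz.2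
    have : x ∈ U ∩ V := ⟨hxU, hxV⟩
    rw [hdisj] at this
    exact this

end Groth.Agent.H5.Lim
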