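import Groth.Agent.Lib.Helper5.Lim.IrredComponents
import Groth.Agent.Lib.Helper5.Lim.Connected
import Mathlib

set_option autoImplicit false
universe u
open CategoryTheory CategoryTheory.Limits AlgebraicGeometry Topology

namespace Groth.Agent.H5.Lim

/-- A space with finitely many irreducible components has finitely many connected components. -/
theorem finite_range_connectedComponent {X : Type*} [TopologicalSpace X]
    (h : (irreducibleComponents X).Finite) :
    (Set.range (connectedComponent : X → Set X)).Finite := by
  classical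
  have hsub : Set.range (connectedComponent : X → Set X) ⊆
      (fun Z : Set X => ⋃ x ∈ Z, connectedComponent x) '' irreducibleComponents X := by
    rintro _ ⟨x, rfl⟩
    refine ⟨irreducibleComponent x, irreducibleComponent_mem_irreducibleComponents x, ?_⟩
    apply Set.Subset.antisymm
    · intro y hy
      simp only [Set.mem_iUnion] at hy
      obtain ⟨z, hz, hy⟩ := hy
      have hpre : IsPreconnected (irreducibleComponent x) :=
        (isIrreducible_irreducibleComponent (x := x)).isPreirreducible.isPreconnected
      have hzx : z ∈ connectedComponent x :=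
        hpre.subset_connectedComponent mem_irreducibleComponent hz
      rw [connectedComponent_eq hzx]
      exact hy
    · intro y hy
      simp only [Set.mem_iUnion]
      exact ⟨x, mem_irreducibleComponent, hy⟩
  exact (h.image _).subset hsub

/-- In a space with finitely many irreducible components, connected components are open. -/
theorem isOpen_connectedComponent_of_finite {X : Type*} [TopologicalSpace X]
    (h : (irreducibleComponents X).Finite) (x : X) : IsOpen (connectedComponent x) := by
  classical
  have hfin := finite_range_connectedComponent h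
  have hcompl : (connectedComponent x)ᶜ =
      ⋃ C ∈ Set.range (connectedComponent : X → Set X) \ {connectedComponent x}, C := by
    ext y
    simp only [Set.mem_compl_iff, Set.mem_iUnion, Set.mem_sdiff, Set.mem_range,
      Set.mem_singleton_iff, exists_prop]
    constructor
    · intro hy
      refine ⟨connectedComponent y, ⟨⟨y, rfl⟩, fun heq => hy ?_⟩, mem_connectedComponent⟩
      rw [← heq]
      exact mem_connectedComponent
    · rintro ⟨_, ⟨⟨z, rfl⟩, hne⟩, hy⟩ hyx
      apply hne
      rw [connectedComponent_eq hy, connectedComponent_eq hyx]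
  rw [← isClosed_compl_iff, hcompl]
  refine (hfin.subset Set.sdiff_subset).isClosed_biUnion ?_
  rintro _ ⟨⟨z, rfl⟩, -⟩
  exact isClosed_connectedComponent

/-- Topological core of EGA IV 8.4.2 (connected components). -/
theorem bijOn_connectedComponents_of_denseRange {X Y : Type*} [TopologicalSpace X]
    [TopologicalSpace Y] (f : X → Y) (hc : Continuous f) (hd : DenseRange f)
    (U : Set X → Set Y)
    (hUo : ∀ C ∈ Set.range (connectedComponent : X → Set X), IsOpen (U C))
    (hU : ∀ C ∈ Set.range (connectedComponent : X → Set X), f ⁻¹' (U C) = C)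
    (hcov : ∀ y : Y, ∃ C ∈ Set.range (connectedComponent : X → Set X), y ∈ U C) :
    Set.BijOn (fun C : Set X => closure (f '' C))
      (Set.range (connectedComponent : X → Set X))
      (Set.range (connectedComponent : Y → Set Y)) := by
  classical
  have hdisj : ∀ C ∈ Set.range (connectedComponent : X → Set X),
      ∀ C' ∈ Set.range (connectedComponent : X → Set X), C ≠ C' → U C ∩ U C' = ∅ := by
    intro C hC C' hC' hne
    by_contra hnon
    have hne' : (U C ∩ U C').Nonempty := Set.nonempty_iff_ne_empty.mpr hnon
    obtain ⟨_, hy, ⟨x, rfl⟩⟩ :=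
      (dense_iff_inter_open.mp hd) _ ((hUo C hC).inter (hUo C' hC')) hne'
    have h1 : x ∈ C := by rw [← hU C hC]; exact hy.1
    have h2 : x ∈ C' := by rw [← hU C' hC']; exact hy.2
    obtain ⟨a, rfl⟩ := hC
    obtain ⟨b, rfl⟩ := hC'
    apply hne
    rw [connectedComponent_eq h1, connectedComponent_eq h2]
  have hclosed : ∀ C ∈ Set.range (connectedComponent : X → Set X), IsClosed (U C) := by
    intro C hC
    have : (U C)ᶜ = ⋃ C' ∈ Set.range (connectedComponent : X → Set X) \ {C}, U C' := by
      ext y
      simp only [Set.mem_compl_iff, Set.mem_iUnion, Set.mem_sdiff, Set.mem_singleton_iff,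
        exists_prop]
      constructor
      · intro hy
        obtain ⟨C', hC', hy'⟩ := hcov y
        refine ⟨C', ⟨hC', fun heq => hy (heq ▸ hy')⟩, hy'⟩
      · rintro ⟨C', ⟨hC', hne⟩, hy'⟩ hy
        have := hdisj C hC C' hC' (fun h => hne h.symm)
        exact (Set.eq_empty_iff_forall_notMem.mp this) y ⟨hy, hy'⟩
    rw [← isOpen_compl_iff, this]
    exact isOpen_biUnion fun C' hC' => hUo C' hC'.1
  have hcl : ∀ C ∈ Set.range (connectedComponent : X → Set X), closure (f '' C) = U C := by
    intro C hC
    apply Set.Subset.antisymm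
    · refine closure_minimal ?_ (hclosed C hC)
      rintro _ ⟨x, hx, rfl⟩
      rw [← hU C hC] at hx
      exact hx
    · intro y hy
      rw [mem_closure_iff]
      intro V hV hyV
      obtain ⟨_, hz, ⟨x, rfl⟩⟩ :=
        (dense_iff_inter_open.mp hd) _ (hV.inter (hUo C hC)) ⟨y, hyV, hy⟩
      refine ⟨f x, hz.1, x, ?_, rfl⟩
      rw [← hU C hC]
      exact hz.2
  have hconn : ∀ C ∈ Set.range (connectedComponent : X → Set X), IsConnected (U C) := by
    intro C hC
    rw [← hcl C hC]
    obtain ⟨a, rfl⟩ := hC
    exact ((isConnected_connectedComponent (x := a)).image f hc.continuousOn).closure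
  have hcomp : ∀ C ∈ Set.range (connectedComponent : X → Set X), ∀ y ∈ U C,
      connectedComponent y = U C := by
    intro C hC y hy
    apply Set.Subset.antisymm
    · exact (show IsClopen (U C) from ⟨hclosed C hC, hUo C hC⟩).connectedComponent_subset hy
    · exact (hconn C hC).isPreconnected.subset_connectedComponent hy
  refine ⟨?_, ?_, ?_⟩
  · intro C hC
    change closure (f '' C) ∈ _
    rw [hcl C hC]
    obtain ⟨y, hy⟩ := (hconn C hC).nonempty
    exact ⟨y, hcomp C hC y hy⟩
  · intro C hC C' hC' heq
    change closure (f '' C) = closure (f '' C') at heq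
    rw [hcl C hC, hcl C' hC'] at heq
    rw [← hU C hC, ← hU C' hC', heq]
  · rintro _ ⟨y, rfl⟩
    obtain ⟨C, hC, hy⟩ := hcov y
    refine ⟨C, hC, ?_⟩
    change closure (f '' C) = _
    rw [hcl C hC, hcomp C hC y hy]

/-- Finitely many eventually-true, downward-closed predicates on a cofiltered category hold
simultaneously at some stage over a given one. -/
theorem exists_common_stage {I : Type*} [Category I] [IsCofiltered I] {ι : Type*}
    (s : Set ι) (hs : s.Finite) (P : ι → I → Prop) (hP : ∀ a ∈ s, ∃ i, P a i)
    (hmono : ∀ (a : ι) (i j : I) (_ : j ⟶ i), P a i → P a j) (i₀ : I) :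
    ∃ (i : I) (_ : i ⟶ i₀), ∀ a ∈ s, P a i := by
  classical
  let idx : ι → I := fun a => if h : a ∈ s then (hP a h).choose else i₀
  let O : Finset I := insert i₀ (hs.toFinset.image idx)
  obtain ⟨i, hi⟩ := IsCofiltered.inf_objs_exists O
  refine ⟨i, (hi (Finset.mem_insert_self _ _)).some, fun a ha => ?_⟩
  have hmem : idx a ∈ O :=
    Finset.mem_insert_of_mem (Finset.mem_image_of_mem idx (hs.mem_toFinset.mpr ha))
  have hidx : idx a = (hP a ha).choose := dif_pos ha
  have hPa : P a (idx a) := by rw [hidx]; exact (hP a ha).choose_spec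
  exact hmono a _ _ (hi hmem).some hPa

variable {I : Type u} [SmallCategory I] [IsCofiltered I] (D : I ⥤ Scheme.{u}) (c : Cone D)
  (hc : IsLimit c)

include hc in
/-- EGA IV 8.4.2 (connected components): with dominant transition maps and Noetherian limit, the
connected components of the limit correspond bijectively to those of the stages beyond some
index. -/
theorem eventually_bijOn_connectedComponents
    [∀ (i j : I) (f : i ⟶ j), IsAffineHom (D.map f)] (i₀ : I)
    [CompactSpace (D.obj i₀)] [TopologicalSpace.NoetherianSpace c.pt]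
    (hd : ∀ (i j : I) (φ : i ⟶ j), IsDominant (D.map φ)) :
    ∃ (i : I) (_ : i ⟶ i₀), ∀ (j : I) (_ : j ⟶ i),
      Set.BijOn (fun C : Set c.pt => closure ((c.π.app j) '' C))
        (Set.range (connectedComponent : c.pt → Set c.pt))
        (Set.range (connectedComponent : D.obj j → Set (D.obj j))) := by
  classical
  have hfinI : (irreducibleComponents c.pt).Finite :=
    TopologicalSpace.NoetherianSpace.finite_irreducibleComponents
  have hfin := finite_range_connectedComponent hfinI
  have hdom : ∀ i, IsDominant (c.π.app i) := fun i =>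
    (isDominant_π_app_iff D c hc i).mpr (fun j φ => hd j i φ)
  -- stage 1: all components are pulled back from a common stage
  let P : Set c.pt → I → Prop := fun C i =>
    ∃ V : (D.obj i).Opens, (c.π.app i) ⁻¹' (V : Set (D.obj i)) = C
  have hP : ∀ C ∈ Set.range (connectedComponent : c.pt → Set c.pt), ∃ i, P C i := by
    rintro _ ⟨x, rfl⟩
    have ho : IsOpen (connectedComponent x) := isOpen_connectedComponent_of_finite hfinI x
    obtain ⟨i, V, -, hV⟩ := exists_preimage_eq D c hc ⟨connectedComponent x, ho⟩
      (TopologicalSpace.NoetherianSpace.isCompact _)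
    exact ⟨i, V, congrArg (fun W : c.pt.Opens => (W : Set c.pt)) hV⟩
  have hmono : ∀ (C : Set c.pt) (i j : I) (_ : j ⟶ i), P C i → P C j := by
    rintro C i j φ ⟨V, hV⟩
    refine ⟨D.map φ ⁻¹ᵁ V, ?_⟩
    rw [← hV]
    exact preimage_π_app_map D c φ _
  obtain ⟨a, φa, ha⟩ := exists_common_stage _ hfin P hP hmono i₀
  choose! V hV using ha
  have hcompa : CompactSpace (D.obj a) := QuasiCompact.compactSpace_of_compactSpace (D.map φa)
  -- stage 2: the opens cover
  let W : (D.obj a).Opens := ⨆ C : Set.range (connectedComponent : c.pt → Set c.pt), V C.1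
  have htop : c.π.app a ⁻¹ᵁ (⊤ : (D.obj a).Opens) ≤ c.π.app a ⁻¹ᵁ W := by
    intro x _
    have hx : x ∈ (c.π.app a) ⁻¹' (V (connectedComponent x) : Set (D.obj a)) := by
      rw [hV _ ⟨x, rfl⟩]; exact mem_connectedComponent
    change c.π.app a x ∈ W
    exact TopologicalSpace.Opens.mem_iSup.mpr ⟨⟨_, ⟨x, rfl⟩⟩, hx⟩
  obtain ⟨b, ψ, hb⟩ := exists_map_preimage_le_map_preimage D c hc
    (U := (⊤ : (D.obj a).Opens)) (V := W) CompactSpace.isCompact_univ htop
  refine ⟨b, ψ ≫ φa, fun j θ => ?_⟩
  let β : j ⟶ a := θ ≫ ψ
  refine bijOn_connectedComponents_of_denseRange (c.π.app j) (c.π.app j).continuous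
    (hdom j).denseRange (fun C => (D.map β) ⁻¹' (V C : Set (D.obj a))) ?_ ?_ ?_
  · intro C _
    exact (V C).2.preimage (D.map β).continuous
  · intro C hC
    rw [preimage_π_app_map D c β, hV C hC]
  · intro y
    have h1 : D.map θ y ∈ D.map ψ ⁻¹ᵁ W := hb (show D.map θ y ∈ D.map ψ ⁻¹ᵁ ⊤ from trivial)
    have h2 : D.map β y ∈ W := by
      change D.map (θ ≫ ψ) y ∈ W
      rw [D.map_comp, Scheme.Hom.comp_apply]
      exact h1
    obtain ⟨⟨C, hC⟩, hy⟩ := TopologicalSpace.Opens.mem_iSup.mp h2
    exact ⟨C, hC, hy⟩

end Groth.Agent.H5.Lim
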