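import Groth.Agent.Lib.Helper5.Lim.QuasiAffineLocal
import Groth.Agent.Lib.Helper5.Lim.BaseChangeOver
import Groth.Agent.Lib.Helper5.Lim.ConnComponents
import Mathlib

set_option autoImplicit false
universe u
open CategoryTheory CategoryTheory.Limits AlgebraicGeometry Topology TopologicalSpace

namespace Groth.Agent.H5.Lim

open Groth.Agent.H5.QA

/-- Pasting: the base change of an open subscheme `U ⊆ X₀` along a pullback square. -/
lemma exists_isPullback_opens {Xi X₀ D' S₀ : Scheme.{u}} {pX : Xi ⟶ X₀} {r : Xi ⟶ D'}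
    {q : X₀ ⟶ S₀} {d : D' ⟶ S₀} (hbig : IsPullback pX r q d) (U : X₀.Opens) :
    ∃ j : pullback (U.ι ≫ q) d ⟶ Xi, IsPullback j (pullback.fst (U.ι ≫ q) d) pX U.ι := by
  let j : pullback (U.ι ≫ q) d ⟶ Xi :=
    hbig.lift (pullback.fst _ _ ≫ U.ι) (pullback.snd _ _)
      (by rw [Category.assoc]; exact pullback.condition)
  have hj1 : j ≫ pX = pullback.fst _ _ ≫ U.ι := hbig.lift_fst _ _ _
  have hj2 : j ≫ r = pullback.snd _ _ := hbig.lift_snd _ _ _
  refine ⟨j, IsPullback.of_right ?_ hj1 hbig.flip⟩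
  rw [hj2]
  exact (IsPullback.of_hasPullback (U.ι ≫ q) d).flip

/-- The source of a base change of the inclusion of an open `V` along `f` is quasi-affine iff the
open subscheme `f⁻¹ V` is. -/
lemma isQuasiAffine_iff_of_isPullback {P X Y : Scheme.{u}} {f : X ⟶ Y} {V : Y.Opens}
    {j : P ⟶ X} {p : P ⟶ (V : Scheme.{u})} (sq : IsPullback j p f V.ι) :
    P.IsQuasiAffine ↔ (f ⁻¹ᵁ V : Scheme.{u}).IsQuasiAffine := by
  have hj : IsOpenImmersion j :=
    MorphismProperty.of_isPullback (P := @IsOpenImmersion) sq.flip inferInstance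
  have hr : Set.range j = Set.range (f ⁻¹ᵁ V).ι := by
    have h1 := Scheme.image_preimage_eq_of_isPullback sq.flip Set.univ
    simp only [Set.preimage_univ, Set.image_univ] at h1
    rw [h1, Scheme.Opens.range_ι, Scheme.Opens.range_ι]
    rfl
  constructor
  · intro h
    exact isQuasiAffine_of_range_eq (f ⁻¹ᵁ V).ι j hr.symm
  · intro h
    exact isQuasiAffine_of_range_eq j (f ⁻¹ᵁ V).ι hr

variable {I : Type u} [SmallCategory I] [IsCofiltered I] (D : I ⥤ Scheme.{u}) (c : Cone D)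
  (hc : IsLimit c)

include hc in
/-- EGA IV 8.10.5 (quasi-affine): a morphism of finite presentation whose base change to the
limit is quasi-affine has a quasi-affine base change at a finite stage. -/
theorem exists_isQuasiAffine_stage
    [∀ (i j : I) (f : i ⟶ j), IsAffineHom (D.map f)] (i₀ : I) [CompactSpace (D.obj i₀)]
    [QuasiSeparatedSpace (D.obj i₀)] {X₀ Y₀ : Scheme.{u}} (f₀ : X₀ ⟶ Y₀) (g₀ : Y₀ ⟶ D.obj i₀)
    [QuasiCompact g₀] [QuasiSeparated g₀]
    [QuasiCompact (f₀ ≫ g₀)] [QuasiSeparated (f₀ ≫ g₀)]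
    {X Y : Scheme.{u}} (f : X ⟶ Y) (g : Y ⟶ c.pt) (qY : Y ⟶ Y₀) (qX : X ⟶ X₀)
    (hY : IsPullback qY g g₀ (c.π.app i₀)) (hX : IsPullback qX f f₀ qY)
    (hf : Mor2.IsQuasiAffine f) :
    ∃ (i : I) (φ : i ⟶ i₀) (Xi Yi : Scheme.{u}) (fi : Xi ⟶ Yi) (gi : Yi ⟶ D.obj i)
      (pY : Yi ⟶ Y₀) (pX : Xi ⟶ X₀), IsPullback pY gi g₀ (D.map φ) ∧ IsPullback pX fi f₀ pY ∧
      Mor2.IsQuasiAffine fi := by
  classical
  have hDaff : ∀ {i j : I} (f : i ⟶ j), IsAffineHom (D.map f) := fun f => inferInstance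
  let q : X₀ ⟶ D.obj i₀ := f₀ ≫ g₀
  have hbigX : IsPullback qX (f ≫ g) q (c.π.app i₀) := hX.paste_vert hY
  have hqcf₀ : QuasiCompact f₀ := QuasiCompact.of_comp f₀ g₀
  have hY₀c : CompactSpace Y₀ := QuasiCompact.compactSpace_of_compactSpace g₀
  have hX₀s : QuasiSeparatedSpace X₀ := quasiSeparatedSpace_of_quasiSeparated q
  have hπaff : IsAffineHom (c.π.app i₀) := isAffineHom_π_app D c hc i₀
  have hqYaff : IsAffineHom qY :=
    MorphismProperty.of_isPullback (P := @IsAffineHom) hY.flip hπaff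
  obtain ⟨s, hsfin, hs⟩ := isCompact_and_isOpen_iff_finite_and_eq_biUnion_affineOpens.mp
    ⟨(CompactSpace.isCompact_univ : IsCompact (Set.univ : Set Y₀)), isOpen_univ⟩
  -- the system over `Over i₀`
  let D' : Over i₀ ⥤ Scheme.{u} := Over.forget i₀ ⋙ D
  let c' : Cone D' := c.whisker (Over.forget i₀)
  have hc' : IsLimit c' := (Functor.Initial.isLimitWhiskerEquiv (Over.forget i₀) c).symm hc
  let t : D' ⟶ (Functor.const (Over i₀)).obj (D.obj i₀) :=
    { app := fun k => D.map k.hom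
      naturality := fun j k a => by
        change D.map a.left ≫ D.map k.hom = D.map j.hom ≫ 𝟙 _
        rw [Category.comp_id, ← D.map_comp, Over.w a] }
  let p : c.pt ⟶ D.obj i₀ := c.π.app i₀
  have hp : ∀ k, c'.π.app k ≫ t.app k = p := fun k => c.w k.hom
  -- the opens of `X₀`
  let U : Y₀.affineOpens → X₀.Opens := fun V => f₀ ⁻¹ᵁ V.1
  let qV : ∀ V : Y₀.affineOpens, (U V : Scheme.{u}) ⟶ D.obj i₀ := fun V => (U V).ι ≫ q
  have hUc : ∀ V : Y₀.affineOpens, CompactSpace (U V : Scheme.{u}) := fun V =>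
    isCompact_iff_compactSpace.mp
      (QuasiCompact.isCompact_preimage (f := f₀) _ V.1.2 V.2.isCompact)
  have hUs : ∀ V : Y₀.affineOpens, QuasiSeparatedSpace (U V : Scheme.{u}) := fun V =>
    quasiSeparatedSpace_of_quasiSeparated (U V).ι
  have hfstaff : ∀ (V : Y₀.affineOpens) (k : Over i₀),
      IsAffineHom (pullback.fst (qV V) (t.app k)) := fun V k =>
    MorphismProperty.of_isPullback (P := @IsAffineHom)
      (IsPullback.of_hasPullback (qV V) (t.app k)).flip (hDaff k.hom)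
  let Pr : Y₀.affineOpens → Over i₀ → Prop := fun V k =>
    (pullback (qV V) (t.app k)).IsQuasiAffine
  have hPr : ∀ V ∈ s, ∃ k, Pr V k := by
    intro V _
    have haff : ∀ {j k : Over i₀} (a : j ⟶ k), IsAffineHom ((tbcDiagram D' t (qV V)).map a) :=
      fun {j k} a => isAffineHom_tbcMap D' t (qV V) a (hDaff a.left)
    have h1 : ∀ k : Over i₀, CompactSpace ((tbcDiagram D' t (qV V)).obj k) := fun k => by
      have ha : IsAffineHom (pullback.fst (qV V) (t.app k)) := hfstaff V k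
      have hqc : QuasiCompact (pullback.fst (qV V) (t.app k)) := inferInstance
      exact @QuasiCompact.compactSpace_of_compactSpace _ _ (pullback.fst (qV V) (t.app k))
        hqc (hUc V)
    have h2 : ∀ k : Over i₀, QuasiSeparatedSpace ((tbcDiagram D' t (qV V)).obj k) := fun k => by
      have ha : IsAffineHom (pullback.fst (qV V) (t.app k)) := hfstaff V k
      have hqs : QuasiSeparated (pullback.fst (qV V) (t.app k)) := inferInstance
      exact @quasiSeparatedSpace_of_quasiSeparated _ _ (pullback.fst (qV V) (t.app k))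
        (hUs V) hqs
    have h3 : (tbcCone D' t (qV V) c' p hp).pt.IsQuasiAffine := by
      obtain ⟨j, hj⟩ := exists_isPullback_opens hbigX (U V)
      change (pullback ((U V).ι ≫ q) (c.π.app i₀)).IsQuasiAffine
      rw [isQuasiAffine_iff_of_isPullback hj]
      have heq : qX ⁻¹ᵁ (U V) = f ⁻¹ᵁ (qY ⁻¹ᵁ V.1) := by
        change qX ⁻¹ᵁ (f₀ ⁻¹ᵁ V.1) = _
        rw [← Scheme.Hom.comp_preimage, ← Scheme.Hom.comp_preimage, hX.w]
      have := hf.2 (qY ⁻¹ᵁ V.1) (V.2.preimage qY)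
      exact isQuasiAffine_of_opens_eq heq
    exact Scheme.exists_isQuasiAffine_of_isLimit (tbcDiagram D' t (qV V))
      (tbcCone D' t (qV V) c' p hp) (isLimitTbcCone D' t (qV V) c' p hp hc')
  have hmono : ∀ (V : Y₀.affineOpens) (k k' : Over i₀) (_ : k' ⟶ k), Pr V k → Pr V k' := by
    intro V k k' a hk
    have : IsAffineHom (tbcMap D' t (qV V) a) := isAffineHom_tbcMap D' t (qV V) a (hDaff a.left)
    have : (pullback (qV V) (t.app k)).IsQuasiAffine := hk
    exact Scheme.IsQuasiAffine.of_isAffineHom (tbcMap D' t (qV V) a)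
  obtain ⟨k, -, hk⟩ := exists_common_stage s hsfin Pr hPr hmono (Over.mk (𝟙 i₀))
  -- the stage `k`
  have hYi : IsPullback (pullback.fst g₀ (D.map k.hom)) (pullback.snd g₀ (D.map k.hom)) g₀
      (D.map k.hom) := IsPullback.of_hasPullback _ _
  have hXi : IsPullback (pullback.fst f₀ (pullback.fst g₀ (D.map k.hom)))
      (pullback.snd f₀ (pullback.fst g₀ (D.map k.hom))) f₀ (pullback.fst g₀ (D.map k.hom)) :=
    IsPullback.of_hasPullback _ _
  refine ⟨k.left, k.hom, _, _, _, _, _, _, hYi, hXi, ?_⟩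
  have hbig_i := hXi.paste_vert hYi
  have hqcfi : QuasiCompact (pullback.snd f₀ (pullback.fst g₀ (D.map k.hom))) :=
    MorphismProperty.of_isPullback (P := @QuasiCompact) hXi hqcf₀
  have hpYaff : IsAffineHom (pullback.fst g₀ (D.map k.hom)) :=
    MorphismProperty.of_isPullback (P := @IsAffineHom) hYi.flip (hDaff k.hom)
  apply isQuasiAffine_of_cover
  intro y
  have hy : pullback.fst g₀ (D.map k.hom) y ∈ (Set.univ : Set Y₀) := Set.mem_univ _
  rw [hs] at hy
  simp only [Set.mem_iUnion, exists_prop] at hy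
  obtain ⟨V, hVs, hyV⟩ := hy
  refine ⟨pullback.fst g₀ (D.map k.hom) ⁻¹ᵁ V.1, V.2.preimage _, hyV, ?_⟩
  obtain ⟨j, hj⟩ := exists_isPullback_opens hbig_i (U V)
  have h1 : (pullback ((U V).ι ≫ q) (D.map k.hom)).IsQuasiAffine := hk V hVs
  rw [isQuasiAffine_iff_of_isPullback hj] at h1
  have heq : pullback.snd f₀ (pullback.fst g₀ (D.map k.hom)) ⁻¹ᵁ
      (pullback.fst g₀ (D.map k.hom) ⁻¹ᵁ V.1) =
      pullback.fst f₀ (pullback.fst g₀ (D.map k.hom)) ⁻¹ᵁ (U V) := by
    change _ = pullback.fst f₀ (pullback.fst g₀ (D.map k.hom)) ⁻¹ᵁ (f₀ ⁻¹ᵁ V.1)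
    rw [← Scheme.Hom.comp_preimage, ← Scheme.Hom.comp_preimage, hXi.w]
  exact isQuasiAffine_of_opens_eq heq

end Groth.Agent.H5.Lim
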