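import Groth.Agent.Lib.Helper5.Lim.ModuleHomInj
import Groth.Agent.Lib.Lead.QC.Iso
import Groth.Agent.Lib.Lead.QC.Coh

set_option autoImplicit false
universe u
open CategoryTheory CategoryTheory.Limits AlgebraicGeometry Opposite TopologicalSpace
open Groth.Agent.LD.QC

namespace Groth.Agent.H5.Lim

/-- for an additive cokernel-preserving functor, `L.map f` is epi iff `L` kills the cokernel. -/
lemma epi_map_iff_isZero_obj_cokernel {C E : Type*} [Category C] [Category E] [Abelian C]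
    [Abelian E] (L : C ⥤ E) [L.Additive] {A B : C} (f : A ⟶ B)
    [PreservesColimit (parallelPair f 0) L] :
    Epi (L.map f) ↔ IsZero (L.obj (cokernel f)) := by
  rw [Preadditive.epi_iff_isZero_cokernel]
  exact (PreservesCokernel.iso L f).symm.isZero_iff

lemma section_eq_zero_of_isZero {X : Scheme.{u}} {M : X.Modules} (h : IsZero M) {U : X.Opens}
    (s : Γ(M, U)) : s = 0 := by
  have h1 : (𝟙 M : M ⟶ M) = 0 := h.eq_of_src _ _
  have h2 := congrArg (fun φ : M ⟶ M => φ.app U s) h1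
  simpa using h2

section

variable {I : Type u} [SmallCategory I] [IsCofiltered I] (D : I ⥤ Scheme.{u}) (c : Cone D)
  (hc : IsLimit c) [∀ (i j : I) (f : i ⟶ j), IsAffineHom (D.map f)] (i₀ : I)

include hc in
/-- a quasi-coherent module of finite type on a quasi-compact stage whose pullback to the limit
vanishes has vanishing pullback at some stage. -/
theorem exists_stage_isZero_pullback [CompactSpace (D.obj i₀)]
    {C₀ : (D.obj i₀).Modules} [C₀.IsQuasicoherent] (hft : C₀.IsFiniteType)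
    (h : IsZero ((Scheme.Modules.pullback (c.π.app i₀)).obj C₀)) :
    ∃ k : Over i₀, IsZero ((Scheme.Modules.pullback (D.map k.hom)).obj C₀) := by
  classical
  obtain ⟨t, ht⟩ := exists_finset_affineOpens_cover (D.obj i₀)
  have hfin : ∀ V : (D.obj i₀).affineOpens, Module.Finite Γ(D.obj i₀, V.1) Γ(C₀, V.1) :=
    fun V => finite_sections_of_isFiniteType C₀ hft V.2
  choose gens hgens using fun V : (D.obj i₀).affineOpens => (hfin V).fg_top
  let S : Set (Σ V : (D.obj i₀).affineOpens, Γ(C₀, V.1)) :=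
    ⋃ V ∈ t, (fun m => (⟨V, m⟩ : Σ V : (D.obj i₀).affineOpens, Γ(C₀, V.1))) '' (gens V : Set _)
  have hS : S.Finite :=
    Set.Finite.biUnion t.finite_toSet (fun V _ => (Finset.finite_toSet _).image _)
  let P : (Σ V : (D.obj i₀).affineOpens, Γ(C₀, V.1)) → Over i₀ → Prop := fun p k =>
    pbSec (D.map k.hom) C₀ (le_refl (stageOpen D i₀ p.1.1 k)) p.2 =
      pbSec (D.map k.hom) C₀ (le_refl (stageOpen D i₀ p.1.1 k)) 0
  have hP : ∀ p ∈ S, ∃ k, P p k := by
    rintro ⟨V, m⟩ -
    apply exists_pbSec_eq D c hc i₀ V.1 V.2 C₀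
    rw [section_eq_zero_of_isZero h (pbSec (c.π.app i₀) C₀ _ m),
      section_eq_zero_of_isZero h (pbSec (c.π.app i₀) C₀ _ 0)]
  have hmono : ∀ (p : Σ V : (D.obj i₀).affineOpens, Γ(C₀, V.1)) (k k' : Over i₀) (_ : k' ⟶ k),
      P p k → P p k' := fun p k k' a hk => pbSec_eq_of_hom D i₀ p.1.1 C₀ a _ _ hk
  obtain ⟨k, -, hk⟩ := exists_common_stage S hS P hP hmono (Over.mk (𝟙 i₀))
  refine ⟨k, ?_⟩
  haveI : ((Scheme.Modules.pullback (D.map k.hom)).obj C₀).IsQuasicoherent :=
    qc_pullback (D.map k.hom) C₀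
  apply isZero_of_affine_cover
  intro x
  have hx : D.map k.hom x ∈ ⨆ V ∈ t, (V.1 : (D.obj i₀).Opens) := ht trivial
  obtain ⟨V, hV⟩ := Opens.mem_iSup.1 hx
  obtain ⟨hVt, hxV⟩ := Opens.mem_iSup.1 hV
  refine ⟨stageOpen D i₀ V.1 k, isAffineOpen_stageOpen D i₀ V.1 V.2 k, hxV, fun s => ?_⟩
  have := app_eq_of_forall_pbSec_eq (D.map k.hom) (isAffineOpen_stageOpen D i₀ V.1 V.2 k) V.2
      le_rfl C₀ (𝟙 _) 0 (gens V : Set _) (hgens V) (fun m hm => by
        have h1 := hk ⟨V, m⟩ (Set.mem_biUnion hVt ⟨m, hm, rfl⟩)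
        have h2 : pbSec (D.map k.hom) C₀ (le_refl (stageOpen D i₀ V.1 k)) m = 0 := by
          rw [h1, pbSec_zero]
        rw [h2, map_zero, map_zero]) s
  simpa using this

end

end Groth.Agent.H5.Lim

namespace Groth.Agent.H5.Lim

section

variable {I : Type u} [SmallCategory I] (D : I ⥤ Scheme.{u}) (c : Cone D) (i₀ : I)

/-- pulling back to a stage and then to the limit is pulling back to the limit. -/
noncomputable def pullbackStageIso {j : I} (φ : j ⟶ i₀) :
    Scheme.Modules.pullback (D.map φ) ⋙ Scheme.Modules.pullback (c.π.app j) ≅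
      Scheme.Modules.pullback (c.π.app i₀) :=
  Scheme.Modules.pullbackComp (c.π.app j) (D.map φ) ≪≫ Scheme.Modules.pullbackCongr (c.w φ)

lemma pullback_map_eq_conj {F₀ G₀ : (D.obj i₀).Modules} (χ : F₀ ⟶ G₀) {j : I} (φ : j ⟶ i₀) :
    (Scheme.Modules.pullback (c.π.app i₀)).map χ =
      (pullbackStageIso D c i₀ φ).inv.app F₀ ≫ (Scheme.Modules.pullback (c.π.app j)).map
        ((Scheme.Modules.pullback (D.map φ)).map χ) ≫ (pullbackStageIso D c i₀ φ).hom.app G₀ := by
  have := (pullbackStageIso D c i₀ φ).hom.naturality χ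
  rw [Functor.comp_map] at this
  rw [this, Iso.inv_hom_id_app_assoc]

lemma epi_pullback_map_of_stage {F₀ G₀ : (D.obj i₀).Modules} (χ : F₀ ⟶ G₀) {j : I} (φ : j ⟶ i₀)
    (h : Epi ((Scheme.Modules.pullback (D.map φ)).map χ)) :
    Epi ((Scheme.Modules.pullback (c.π.app i₀)).map χ) := by
  rw [pullback_map_eq_conj D c i₀ χ φ]
  infer_instance

lemma isIso_pullback_map_of_stage {F₀ G₀ : (D.obj i₀).Modules} (χ : F₀ ⟶ G₀) {j : I} (φ : j ⟶ i₀)
    (h : IsIso ((Scheme.Modules.pullback (D.map φ)).map χ)) :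
    IsIso ((Scheme.Modules.pullback (c.π.app i₀)).map χ) := by
  rw [pullback_map_eq_conj D c i₀ χ φ]
  infer_instance

end

section

variable {I : Type u} [SmallCategory I] [IsCofiltered I] (D : I ⥤ Scheme.{u}) (c : Cone D)
  (hc : IsLimit c) [∀ (i j : I) (f : i ⟶ j), IsAffineHom (D.map f)] (i₀ : I)

include hc in
/-- EGA IV 8.5.2.? : surjectivity of a homomorphism onto a finite type module descends. -/
theorem exists_stage_epi_pullback_map [CompactSpace (D.obj i₀)]
    {F₀ G₀ : (D.obj i₀).Modules} [F₀.IsQuasicoherent] [G₀.IsQuasicoherent]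
    (hft : G₀.IsFiniteType) (f₀ : F₀ ⟶ G₀)
    (h : Epi ((Scheme.Modules.pullback (c.π.app i₀)).map f₀)) :
    ∃ k : Over i₀, Epi ((Scheme.Modules.pullback (D.map k.hom)).map f₀) := by
  haveI hC : (cokernel f₀).IsQuasicoherent := qc_cokernel f₀ inferInstance inferInstance
  have hCft : (cokernel f₀).IsFiniteType :=
    isFiniteType_of_epi (cokernel.π f₀) inferInstance hC hft
  rw [epi_map_iff_isZero_obj_cokernel] at h
  obtain ⟨k, hk⟩ := exists_stage_isZero_pullback D c hc i₀ hCft h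
  exact ⟨k, (epi_map_iff_isZero_obj_cokernel _ f₀).2 hk⟩

end

end Groth.Agent.H5.Lim
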