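import Groth.Agent.Lib.Helper5.Lim.ModuleHomSurj3

set_option autoImplicit false
universe u
open CategoryTheory CategoryTheory.Limits AlgebraicGeometry Opposite TopologicalSpace TensorProduct
open Groth.Agent.LD.QC

namespace Groth.Agent.H5.Lim

section

variable {I : Type u} [SmallCategory I] [IsCofiltered I] (D : I ⥤ Scheme.{u}) (c : Cone D)
  (hc : IsLimit c) [∀ (i j : I) (f : i ⟶ j), IsAffineHom (D.map f)]
  (i₀ : I) (F₀ G₀ : (D.obj i₀).Modules) [G₀.IsQuasicoherent]

omit [IsCofiltered I] [∀ (i j : I) (f : i ⟶ j), IsAffineHom (D.map f)] [G₀.IsQuasicoherent] in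
lemma pullbackStageIso_app_pbSec (V : (D.obj i₀).Opens) (k : Over i₀)
    (x : Γ((Scheme.Modules.pullback (D.map k.hom)).obj G₀, stageOpen D i₀ V k)) :
    ((pullbackStageIso D c i₀ k.hom).hom.app G₀).app (limOpen D c i₀ V)
      (pbSec (c.π.app k.left) ((Scheme.Modules.pullback (D.map k.hom)).obj G₀)
        (limOpen_le D c i₀ V k) x) = toLimSec D c i₀ G₀ V k x := rfl

include hc in
/-- **EGA IV 8.5.2 (i), surjectivity**: a homomorphism between the pullbacks to the limit of a
finitely presented module and a quasi-coherent module on a quasi-compact quasi-separated stage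
comes from a stage. -/
theorem exists_stage_hom_pullback_eq [CompactSpace (D.obj i₀)] [QuasiSeparatedSpace (D.obj i₀)]
    (hF₀ : F₀.IsFinitePresentation)
    (h : (Scheme.Modules.pullback (c.π.app i₀)).obj F₀ ⟶
      (Scheme.Modules.pullback (c.π.app i₀)).obj G₀) :
    ∃ (k : Over i₀) (ψ : (Scheme.Modules.pullback (D.map k.hom)).obj F₀ ⟶
        (Scheme.Modules.pullback (D.map k.hom)).obj G₀),
      ((pullbackStageIso D c i₀ k.hom).app F₀).inv ≫
        (Scheme.Modules.pullback (c.π.app k.left)).map ψ ≫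
          ((pullbackStageIso D c i₀ k.hom).app G₀).hom = h := by
  haveI : F₀.IsQuasicoherent := inferInstance
  obtain ⟨k, ψ, t, ht, hψ⟩ := exists_stage_hom_sections D c hc i₀ F₀ G₀ hF₀ h
  refine ⟨k, ψ, ?_⟩
  rw [Iso.inv_comp_eq]
  haveI : ((Scheme.Modules.pullback (D.map k.hom)).obj F₀).IsQuasicoherent :=
    qc_pullback (D.map k.hom) F₀
  haveI : ((Scheme.Modules.pullback (c.π.app k.left)).obj
      ((Scheme.Modules.pullback (D.map k.hom)).obj F₀)).IsQuasicoherent :=
    qc_pullback (c.π.app k.left) _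
  haveI : ((Scheme.Modules.pullback (D.map k.hom) ⋙
      Scheme.Modules.pullback (c.π.app k.left)).obj F₀).IsQuasicoherent := this
  refine hom_ext_of_affine_cover _ _
    (fun a : {a : (D.obj i₀).affineOpens // a ∈ t} => limOpen D c i₀ a.1.1)
    (fun a => isAffineOpen_limOpen D c hc i₀ a.1.1 a.1.2) ?_ ?_
  · intro x _
    obtain ⟨V, hV⟩ := Opens.mem_iSup.1
      (ht (show (c.π.app i₀) x ∈ (⊤ : (D.obj i₀).Opens) from trivial))
    obtain ⟨hVt, hxV⟩ := Opens.mem_iSup.1 hV
    exact Opens.mem_iSup.2 ⟨⟨V, hVt⟩, hxV⟩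
  · intro a s
    refine app_eq_of_forall_pbSec_eq (c.π.app k.left)
      (isAffineOpen_limOpen D c hc i₀ a.1.1 a.1.2) (isAffineOpen_stageOpen D i₀ a.1.1 a.1.2 k)
      (limOpen_le D c i₀ a.1.1 k) ((Scheme.Modules.pullback (D.map k.hom)).obj F₀) _ _
      (Set.range (pbSec (D.map k.hom) F₀ (le_refl (stageOpen D i₀ a.1.1 k))))
      (span_range_pbSec (D.map k.hom) (isAffineOpen_stageOpen D i₀ a.1.1 a.1.2 k) a.1.2
        (le_refl _) F₀) ?_ s
    rintro _ ⟨m, rfl⟩
    rw [Scheme.Modules.Hom.comp_app, Scheme.Modules.Hom.comp_app, CategoryTheory.comp_apply,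
      CategoryTheory.comp_apply, pbSec_naturality]
    show ((pullbackStageIso D c i₀ k.hom).hom.app G₀).app (limOpen D c i₀ a.1.1) _ =
      h.app (limOpen D c i₀ a.1.1)
        (((pullbackStageIso D c i₀ k.hom).hom.app F₀).app (limOpen D c i₀ a.1.1) _)
    rw [pullbackStageIso_app_pbSec, pullbackStageIso_app_pbSec, toLimSec_pbSec]
    exact hψ a.1 a.2 m

end

end Groth.Agent.H5.Lim
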