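import Groth.Agent.Lib.Helper5.Lim.Descend
import Mathlib
set_option autoImplicit false
universe u
open CategoryTheory CategoryTheory.Limits AlgebraicGeometry MorphismProperty

namespace Groth.Agent.H5.Lim

/-- Descent over a system of affine schemes all mapping compatibly to a fixed scheme `V`, for a
morphism `h : Z ⟶ V`. -/
theorem exists_bc_of_affineSystemDescent_over {P Φ : MorphismProperty Scheme.{u}}
    [P.IsStableUnderBaseChange] [Φ.IsStableUnderBaseChange]
    (H : AffineSystemDescent P Φ) {J : Type u} [SmallCategory J] [IsCofiltered J]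
    (E : J ⥤ Scheme.{u}) (cE : Cone E) (hcE : IsLimit cE) [∀ j, IsAffine (E.obj j)]
    {V : Scheme.{u}} (q : ∀ j, E.obj j ⟶ V) (hq : ∀ {j k : J} (φ : j ⟶ k), E.map φ ≫ q k = q j)
    {Z : Scheme.{u}} (h : Z ⟶ V) (hΦ : Φ h) (j₁ : J)
    (hP : P (pullback.snd h (cE.π.app j₁ ≫ q j₁))) :
    ∃ j : J, ∀ (k : J) (_ : k ⟶ j), P (pullback.snd h (q k)) := by
  have h1 : P (pullback.snd (pullback.snd h (q j₁)) (cE.π.app j₁)) := by
    rw [← bc_comp_iff (P := P)]; exact hP
  obtain ⟨j, φ, hj⟩ := H E cE hcE j₁ (pullback.snd h (q j₁)) (Φ.pullback_snd _ _ hΦ) h1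
  rw [← bc_comp_iff (P := P), bc_congr (P := P) h (hq φ)] at hj
  refine ⟨j, fun k ψ => ?_⟩
  rw [← bc_congr (P := P) h (hq ψ)]
  exact bc_of_comp h _ _ hj

end Groth.Agent.H5.Lim
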