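import Groth.Agent.Lib.Helper5.Lim.ClosedImmIntoLimit
import Groth.Agent.Lib.Helper5.Lim.DescendImmersion
import Mathlib
set_option autoImplicit false
universe u
open CategoryTheory CategoryTheory.Limits AlgebraicGeometry AlgebraicGeometry.Scheme

namespace Groth.Agent.H5.Lim

variable {J : Type u} [SmallCategory J] [IsCofiltered J] (E : J ⥤ Scheme.{u}) (cE : Cone E)
  (hcE : IsLimit cE) [∀ (i j : J) (f : i ⟶ j), IsAffineHom (E.map f)]

set_option backward.isDefEq.respectTransparency false in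
include hcE in
/-- An immersion from a quasi-compact scheme into a limit (affine transition maps), which is of
finite type over one stage, is an immersion into a later stage. -/
theorem exists_isImmersion_comp_π {X : Scheme.{u}} [CompactSpace X] (γ : X ⟶ cE.pt)
    [IsImmersion γ] (k₀ : J) (hft : LocallyOfFiniteType (γ ≫ cE.π.app k₀)) :
    ∃ k : Over k₀, ∀ (k' : Over k₀) (_ : k' ⟶ k), IsImmersion (γ ≫ cE.π.app k'.left) := by
  have hEaff : ∀ {i j : J} (f : i ⟶ j), IsAffineHom (E.map f) := fun f => inferInstance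
  obtain ⟨U, hUc, hγU, hcl⟩ := exists_opens_isClosedImmersion γ
  obtain ⟨i, V₀, hV₀c, hV₀⟩ := exists_preimage_eq E cE hcE U hUc
  let m := IsCofiltered.min i k₀
  let a : m ⟶ i := IsCofiltered.minToLeft i k₀
  let b : m ⟶ k₀ := IsCofiltered.minToRight i k₀
  let V₁ : (E.obj m).Opens := E.map a ⁻¹ᵁ V₀
  have hV₁c : IsCompact (V₁ : Set (E.obj m)) := (E.map a).isCompact_preimage hV₀c
  have hV₁ : cE.π.app m ⁻¹ᵁ V₁ = U := by
    rw [← hV₀, ← Scheme.Hom.comp_preimage, cE.w]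
  subst hV₁
  let D' := opensDiagram E m V₁
  let c' := opensCone E cE m V₁
  have hc' : IsLimit c' := isLimitOpensCone E cE hcE m V₁
  have hD'aff : ∀ (j k : Over m) (f : j ⟶ k), IsAffineHom (D'.map f) := fun j k f => by
    dsimp only [D']; infer_instance
  let l₁ : Over m := Over.mk (𝟙 m)
  have hcomp : CompactSpace (D'.obj l₁) :=
    isCompact_iff_compactSpace.mp ((E.map l₁.hom).isCompact_preimage hV₁c)
  -- the closed immersion into the open
  have hfst : IsIso (pullback.fst γ (cE.π.app m ⁻¹ᵁ V₁).ι) := by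
    have : Surjective (pullback.fst γ (cE.π.app m ⁻¹ᵁ V₁).ι) := by
      rw [surjective_iff, ← Set.range_eq_univ, Scheme.Pullback.range_fst]
      ext x
      have : x ∈ γ ⁻¹ᵁ (cE.π.app m ⁻¹ᵁ V₁) := by rw [hγU]; trivial
      simpa using this
    exact (isIso_iff_isOpenImmersion_and_surjective _).mpr ⟨inferInstance, this⟩
  let γ' : X ⟶ c'.pt := inv (pullback.fst γ (cE.π.app m ⁻¹ᵁ V₁).ι) ≫
    pullback.snd γ (cE.π.app m ⁻¹ᵁ V₁).ι
  have hγ'cl : IsClosedImmersion γ' := by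
    dsimp only [γ']; infer_instance
  have hγ' : γ' ≫ (cE.π.app m ⁻¹ᵁ V₁).ι = γ := by
    dsimp only [γ']
    rw [Category.assoc, ← pullback.condition, IsIso.inv_hom_id_assoc]
  have hπ : ∀ l : Over m, c'.π.app l ≫ (E.map l.hom ⁻¹ᵁ V₁).ι =
      (cE.π.app m ⁻¹ᵁ V₁).ι ≫ cE.π.app l.left := fun l => Scheme.Hom.resLE_comp_ι _ _
  have hcomp' : ∀ l : Over m, (γ' ≫ c'.π.app l) ≫ (E.map l.hom ⁻¹ᵁ V₁).ι =
      γ ≫ cE.π.app l.left := fun l => by
    rw [Category.assoc, hπ, ← Category.assoc, hγ']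
  have hft' : LocallyOfFiniteType (γ' ≫ c'.π.app l₁) := by
    have h1 : LocallyOfFiniteType (((γ' ≫ c'.π.app l₁) ≫ (E.map l₁.hom ⁻¹ᵁ V₁).ι) ≫ E.map b) := by
      rw [hcomp' l₁, Category.assoc]
      have : cE.π.app l₁.left ≫ E.map b = cE.π.app k₀ := cE.w b
      rw [this]
      exact hft
    have h2 : LocallyOfFiniteType ((γ' ≫ c'.π.app l₁) ≫ (E.map l₁.hom ⁻¹ᵁ V₁).ι) :=
      locallyOfFiniteType_of_comp _ (E.map b)
    exact locallyOfFiniteType_of_comp _ (E.map l₁.hom ⁻¹ᵁ V₁).ι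
  obtain ⟨l, hl⟩ := exists_isClosedImmersion_comp_π D' c' hc' γ' l₁ hft'
  refine ⟨Over.mk (l.left.hom ≫ b), fun k' ψ => ?_⟩
  let l'' : Over m := Over.mk (ψ.left ≫ l.left.hom)
  let l' : Over l₁ := Over.mk (Over.homMk (ψ.left ≫ l.left.hom) (Category.comp_id _) : l'' ⟶ l₁)
  have hll : l.hom.left = l.left.hom := by
    have := Over.w l.hom
    simpa [l₁] using this
  let ψ' : l' ⟶ l := Over.homMk (Over.homMk ψ.left rfl : l'' ⟶ l.left) (by
    apply Over.OverMorphism.ext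
    change ψ.left ≫ l.hom.left = ψ.left ≫ l.left.hom
    rw [hll])
  have h3 : IsClosedImmersion (γ' ≫ c'.π.app l'.left) := hl l' ψ'
  have h4 := hcomp' l''
  change (γ' ≫ c'.π.app l'') ≫ _ = γ ≫ cE.π.app k'.left at h4
  rw [← h4]
  have : IsClosedImmersion (γ' ≫ c'.π.app l'') := h3
  infer_instance

end Groth.Agent.H5.Lim
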