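import Mathlib
set_option autoImplicit false
universe v w
open CategoryTheory CategoryTheory.Limits MorphismProperty

namespace Groth.Agent.H5.Lim.Cat

variable {C : Type w} [Category.{v} C] [HasPullbacks C] {P : MorphismProperty C}

lemma bc_comp_iff [P.RespectsIso] {X S T T' : C} (f : X ⟶ S) (a : T ⟶ S) (b : T' ⟶ T) :
    P (pullback.snd f (b ≫ a)) ↔ P (pullback.snd (pullback.snd f a) b) := by
  have := P.cancel_left_of_respectsIso (pullbackLeftPullbackSndIso f a b).hom
    (pullback.snd f (b ≫ a))
  rw [pullbackLeftPullbackSndIso_hom_snd] at this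
  exact this.symm

lemma bc_of_comp [P.IsStableUnderBaseChange] {X S T T' : C} (f : X ⟶ S) (a : T ⟶ S)
    (b : T' ⟶ T) (h : P (pullback.snd f a)) : P (pullback.snd f (b ≫ a)) := by
  have : P.RespectsIso := MorphismProperty.IsStableUnderBaseChange.respectsIso
  exact (bc_comp_iff f a b).mpr (P.pullback_snd _ _ h)

lemma bc_congr {X S T : C} (f : X ⟶ S) {a a' : T ⟶ S} (e : a = a') :
    P (pullback.snd f a) ↔ P (pullback.snd f a') := by
  subst e; rfl

end Groth.Agent.H5.Lim.Cat
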