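import Groth.Agent.Lib.Helper5.Lim.ClosedImmIntoLimit
import Groth.Agent.Lib.Helper5.Lim.DescendProps
import Mathlib

set_option autoImplicit false
universe v u
open CategoryTheory CategoryTheory.Limits AlgebraicGeometry MorphismProperty

namespace Groth.Agent.H5.Lim

section Cat

variable {C : Type u} [Category.{v} C] [HasPullbacks C]

set_option backward.isDefEq.respectTransparency false in
/-- The graph of `g` is the pullback of the diagonal. -/
lemma isPullback_graph {X T S : C} (i : T ⟶ S) (g : X ⟶ T) (p : X ⟶ S) (hp : g ≫ i = p) :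
    IsPullback g (pullback.lift g (𝟙 X) (by rw [hp, Category.id_comp]) : X ⟶ pullback i p)
      (pullback.diagonal i)
      (pullback.lift (pullback.fst i p) (pullback.snd i p ≫ g)
        (by rw [Category.assoc, hp, pullback.condition]) : pullback i p ⟶ pullback i i) := by
  refine ⟨⟨?_⟩, ⟨PullbackCone.IsLimit.mk _ (fun s => s.snd ≫ pullback.snd i p) ?_ ?_ ?_⟩⟩
  · apply pullback.hom_ext
    · simp only [Category.assoc, pullback.diagonal_fst, Category.comp_id, pullback.lift_fst]
    · simp only [Category.assoc, pullback.diagonal_snd, Category.comp_id, pullback.lift_snd,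
        pullback.lift_snd_assoc, Category.id_comp]
  · intro s
    have h2 := s.condition =≫ pullback.snd i i
    simp only [Category.assoc, pullback.diagonal_snd, Category.comp_id, pullback.lift_snd] at h2
    simp only [Category.assoc]
    exact h2.symm
  · intro s
    have h1 := s.condition =≫ pullback.fst i i
    have h2 := s.condition =≫ pullback.snd i i
    simp only [Category.assoc, pullback.diagonal_fst, pullback.diagonal_snd, Category.comp_id,
      pullback.lift_fst, pullback.lift_snd] at h1 h2
    apply pullback.hom_ext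
    · simp only [Category.assoc, pullback.lift_fst]
      rw [← h2, h1]
    · simp only [Category.assoc, pullback.lift_snd, Category.comp_id]
  · intro s m hm₁ hm₂
    have := hm₂ =≫ pullback.snd i p
    simp only [Category.assoc, pullback.lift_snd, Category.comp_id] at this
    exact this

end Cat

set_option backward.isDefEq.respectTransparency false in
/-- Separatedness of a composite from a base-change statement for the diagonal. -/
lemma isSeparated_of_bc_diagonal {Xj Xk S : Scheme.{u}} (a : Xj ⟶ Xk) (tk : Xk ⟶ S) (tj : Xj ⟶ S)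
    (h : a ≫ tk = tj) [IsSeparated a]
    (hbc : IsClosedImmersion (pullback.snd (pullback.diagonal tk)
      (pullback.lift (pullback.fst tk tj) (pullback.snd tk tj ≫ a)
        (by rw [Category.assoc, h, pullback.condition]) : pullback tk tj ⟶ pullback tk tk))) :
    IsSeparated tj := by
  subst h
  constructor
  rw [pullback.diagonal_comp]
  let θ : pullback (a ≫ tk) (a ≫ tk) ⟶ pullback tk (a ≫ tk) :=
    pullback.lift (pullback.fst _ _ ≫ a) (pullback.snd _ _)
      (by rw [Category.assoc, pullback.condition])
  have e : pullback.map (a ≫ tk) (a ≫ tk) tk tk a a (𝟙 S) (Category.comp_id _)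
      (Category.comp_id _) = θ ≫ pullback.lift (pullback.fst tk (a ≫ tk))
        (pullback.snd tk (a ≫ tk) ≫ a) (by rw [Category.assoc, pullback.condition]) := by
    apply pullback.hom_ext <;> simp [θ]
  have : IsClosedImmersion (pullback.snd (pullback.diagonal tk)
      (pullback.map (a ≫ tk) (a ≫ tk) tk tk a a (𝟙 S) (Category.comp_id _)
        (Category.comp_id _))) := by
    rw [e]
    exact bc_of_comp (P := @IsClosedImmersion) _ _ _ hbc
  infer_instance

section Main

variable {I : Type u} [SmallCategory I] [IsCofiltered I] (S : Scheme.{u}) [QuasiSeparatedSpace S]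
  (D : I ⥤ Scheme.{u}) (t : D ⟶ (Functor.const I).obj S) (c : Cone D) (hc : IsLimit c)
  [∀ (i j : I) (a : i ⟶ j), IsAffineHom (D.map a)]
  [∀ i, CompactSpace (D.obj i)] [∀ i, QuasiSeparatedSpace (D.obj i)]

omit [QuasiSeparatedSpace S] [∀ (i j : I) (a : i ⟶ j), IsAffineHom (D.map a)]
  [∀ i, CompactSpace (D.obj i)] [∀ i, QuasiSeparatedSpace (D.obj i)] in
lemma π_comp_t_eq (i₀ k : I) : c.π.app k ≫ t.app k = c.π.app i₀ ≫ t.app i₀ := by
  have h1 : c.π.app k ≫ t.app k = c.π.app (IsCofiltered.min k i₀) ≫ t.app _ := by
    rw [← c.w (IsCofiltered.minToLeft k i₀), Category.assoc, t_naturality]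
  have h2 : c.π.app i₀ ≫ t.app i₀ = c.π.app (IsCofiltered.min k i₀) ≫ t.app _ := by
    rw [← c.w (IsCofiltered.minToRight k i₀), Category.assoc, t_naturality]
  rw [h1, h2]

set_option backward.isDefEq.respectTransparency false in
include hc in
/-- If the limit of an `S`-system of qcqs schemes with affine transition maps is separated over
`S`, then so are all stages beyond some index. -/
theorem eventually_isSeparated_of_isLimit (i₀ : I) [IsSeparated (c.π.app i₀ ≫ t.app i₀)] :
    ∃ i₁ : I, ∀ (i : I) (_ : i ⟶ i₁), IsSeparated (t.app i) := by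
  have hDaff : ∀ {i j : I} (f : i ⟶ j), IsAffineHom (D.map f) := fun f => inferInstance
  obtain ⟨p, hp0⟩ : ∃ p : c.pt ⟶ S, p = c.π.app i₀ ≫ t.app i₀ := ⟨_, rfl⟩
  have hp : ∀ k, c.π.app k ≫ t.app k = p := fun k => by rw [hp0]; exact π_comp_t_eq S D t c i₀ k
  have hsep : IsSeparated p := by rw [hp0]; infer_instance
  have hcpt : CompactSpace c.pt := Scheme.compactSpace_of_isLimit D c hc
  have hqsS : ∀ k, QuasiSeparatedSpace ↥(((Functor.const I).obj S).obj k) := fun k =>
    ‹QuasiSeparatedSpace S›
  have hqc : ∀ k, QuasiCompact (t.app k) := fun k => inferInstance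
  -- Step 1 : the graph of some projection is a closed immersion
  have hE : ∀ (i j : I) (f : i ⟶ j), IsAffineHom ((tbcDiagram D t p).map f) := fun i j f =>
    isAffineHom_tbcMap D t p f (hDaff f)
  have hEc : CompactSpace ((tbcDiagram D t p).obj i₀) := by
    change CompactSpace ↥(pullback p (t.app i₀))
    have : QuasiCompact (pullback.fst p (t.app i₀)) :=
      MorphismProperty.pullback_fst (P := @QuasiCompact) _ _ (hqc i₀)
    exact QuasiCompact.compactSpace_of_compactSpace (pullback.fst p (t.app i₀))
  let γ : c.pt ⟶ (tbcCone D t p c p hp).pt := pullback.diagonal p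
  have hγ : IsClosedImmersion γ := IsSeparated.isClosedImmersion_diagonal
  have hγk : ∀ k, γ ≫ (tbcCone D t p c p hp).π.app k =
      pullback.lift (𝟙 c.pt) (c.π.app k) (by rw [hp, Category.id_comp]) := fun k => by
    apply pullback.hom_ext
    · simp [γ]
    · simp [γ]
  have hft : LocallyOfFiniteType (γ ≫ (tbcCone D t p c p hp).π.app i₀) := by
    rw [hγk]
    have : LocallyOfFiniteType (pullback.lift (𝟙 c.pt) (c.π.app i₀)
        (by rw [hp, Category.id_comp]) ≫ pullback.fst p (t.app i₀)) := by
      rw [pullback.lift_fst]; infer_instance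
    exact locallyOfFiniteType_of_comp _ (pullback.fst p (t.app i₀))
  obtain ⟨k', hk'⟩ := exists_isClosedImmersion_comp_π (tbcDiagram D t p) (tbcCone D t p c p hp)
    (isLimitTbcCone D t p c p hp hc) γ i₀ hft
  have hG := hk' k' (𝟙 _)
  rw [hγk] at hG
  obtain ⟨k, hk0⟩ : ∃ k : I, k = k'.left := ⟨_, rfl⟩
  rw [← hk0] at hG
  -- Step 2 : descend in the first variable
  have hD' : ∀ (i j : I) (f : i ⟶ j), IsAffineHom ((tbcDiagram D t (t.app k)).map f) :=
    fun i j f => isAffineHom_tbcMap D t (t.app k) f (hDaff f)
  have hD'c : CompactSpace ((tbcDiagram D t (t.app k)).obj k) := by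
    change CompactSpace ↥(pullback (t.app k) (t.app k))
    have : QuasiCompact (pullback.fst (t.app k) (t.app k)) :=
      MorphismProperty.pullback_fst (P := @QuasiCompact) _ _ (hqc k)
    exact QuasiCompact.compactSpace_of_compactSpace (pullback.fst (t.app k) (t.app k))
  have hqs : QuasiSeparated (t.app k) := inferInstance
  have hΦ : (@LocallyOfFiniteType ⊓ (@QuasiCompact ⊓ @QuasiSeparated) :
      MorphismProperty Scheme.{u}) (pullback.diagonal (t.app k)) :=
    ⟨inferInstance, inferInstance, inferInstance⟩
  have hgr := isPullback_graph (t.app k) (c.π.app k) p (hp k)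
  have hGr : IsClosedImmersion (pullback.lift (c.π.app k) (𝟙 c.pt)
      (by rw [hp, Category.id_comp]) : c.pt ⟶ pullback (t.app k) p) := by
    have e : (pullback.lift (c.π.app k) (𝟙 c.pt) (by rw [hp, Category.id_comp]) :
        c.pt ⟶ pullback (t.app k) p) =
        pullback.lift (𝟙 c.pt) (c.π.app k) (by rw [hp, Category.id_comp]) ≫
          (pullbackSymmetry p (t.app k)).hom := by
      apply pullback.hom_ext <;> simp
    rw [e]
    infer_instance
  have h1 : (@IsClosedImmersion : MorphismProperty Scheme.{u})
      (pullback.snd (pullback.diagonal (t.app k))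
        ((tbcCone D t (t.app k) c p hp).π.app k)) := by
    have e := hgr.isoPullback_hom_snd
    have : (@IsClosedImmersion : MorphismProperty Scheme.{u})
        (hgr.isoPullback.hom ≫ pullback.snd _ _) := by rw [e]; exact hGr
    exact (MorphismProperty.cancel_left_of_respectsIso @IsClosedImmersion _ _).mp this
  obtain ⟨j, φ, hj⟩ := exists_bc_of_affineSystemDescent (tbcDiagram D t (t.app k))
    (tbcCone D t (t.app k) c p hp) (isLimitTbcCone D t (t.app k) c p hp hc)
    affineSystemDescent_isClosedImmersion k (pullback.diagonal (t.app k)) hΦ h1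
  have hsepj : IsSeparated (t.app j) :=
    isSeparated_of_bc_diagonal (D.map φ) (t.app k) (t.app j) (t_naturality D t φ) hj
  refine ⟨j, fun i ψ => ?_⟩
  rw [← t_naturality D t ψ]
  infer_instance

end Main

end Groth.Agent.H5.Lim
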