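import Groth.Agent.Lib.Helper5.Lim.BaseChangeSystem
import Mathlib

set_option autoImplicit false
universe u
open CategoryTheory CategoryTheory.Limits AlgebraicGeometry MorphismProperty

namespace Groth.Agent.H5.Lim

section BC

variable {P : MorphismProperty Scheme.{u}}

lemma bc_comp_iff [P.RespectsIso] {X S T T' : Scheme.{u}} (f : X ⟶ S) (a : T ⟶ S) (b : T' ⟶ T) :
    P (pullback.snd f (b ≫ a)) ↔ P (pullback.snd (pullback.snd f a) b) := by
  have := P.cancel_left_of_respectsIso (pullbackLeftPullbackSndIso f a b).hom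
    (pullback.snd f (b ≫ a))
  rw [pullbackLeftPullbackSndIso_hom_snd] at this
  exact this.symm

lemma bc_of_comp [P.IsStableUnderBaseChange] {X S T T' : Scheme.{u}} (f : X ⟶ S) (a : T ⟶ S)
    (b : T' ⟶ T) (h : P (pullback.snd f a)) : P (pullback.snd f (b ≫ a)) := by
  exact (bc_comp_iff f a b).mpr (P.pullback_snd _ _ h)

lemma bc_congr {X S T : Scheme.{u}} (f : X ⟶ S) {a a' : T ⟶ S} (e : a = a') :
    P (pullback.snd f a) ↔ P (pullback.snd f a') := by
  subst e; rfl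

/-- source-locality in base-change form -/
lemma bc_source_iff [IsZariskiLocalAtSource P] {X S T : Scheme.{u}} (f : X ⟶ S) (a : T ⟶ S)
    (𝒰 : X.OpenCover) :
    P (pullback.snd f a) ↔ ∀ u, P (pullback.snd (𝒰.f u ≫ f) a) := by
  rw [IsZariskiLocalAtSource.iff_of_openCover (P := P) (𝒰.pullback₂ (pullback.fst f a))]
  refine forall_congr' fun u => ?_
  have : (𝒰.pullback₂ (pullback.fst f a)).f u ≫ pullback.snd f a =
      (pullbackRightPullbackFstIso f a (𝒰.f u)).hom ≫ pullback.snd (𝒰.f u ≫ f) a := by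
    rw [pullbackRightPullbackFstIso_hom_snd]
    rfl
  rw [this]
  exact P.cancel_left_of_respectsIso _ _

end BC

section Reduce

variable {I : Type u} [SmallCategory I] [IsCofiltered I] (D : I ⥤ Scheme.{u}) (c : Cone D)
  (hc : IsLimit c)

/-- The descent statement for `(P, Φ)` over cofiltered systems of *affine* schemes. -/
def AffineSystemDescent (P Φ : MorphismProperty Scheme.{u}) : Prop :=
  ∀ {J : Type u} [SmallCategory J] [IsCofiltered J] (E : J ⥤ Scheme.{u}) (cE : Cone E)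
    (_ : IsLimit cE) [∀ j, IsAffine (E.obj j)] (j₁ : J) {Z₀ : Scheme.{u}} (h₀ : Z₀ ⟶ E.obj j₁),
    Φ h₀ → P (pullback.snd h₀ (cE.π.app j₁)) →
    ∃ (j : J) (φ : j ⟶ j₁), P (pullback.snd h₀ (E.map φ))

include hc in
/-- Reduction of descent along a limit with affine transition maps to systems of affine schemes. -/
theorem exists_bc_of_affineSystemDescent {P Φ : MorphismProperty Scheme.{u}}
    [IsZariskiLocalAtTarget P] [P.IsStableUnderBaseChange] [Φ.IsStableUnderBaseChange]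
    (H : AffineSystemDescent P Φ) [∀ (i j : I) (f : i ⟶ j), IsAffineHom (D.map f)] (i₀ : I)
    [CompactSpace (D.obj i₀)] {X₀ : Scheme.{u}} (f₀ : X₀ ⟶ D.obj i₀) (hΦ : Φ f₀)
    (h : P (pullback.snd f₀ (c.π.app i₀))) :
    ∃ (i : I) (φ : i ⟶ i₀), P (pullback.snd f₀ (D.map φ)) := by
  classical
  have hDaff : ∀ {i j : I} (f : i ⟶ j), IsAffineHom (D.map f) := fun f => inferInstance
  let 𝒱 := (D.obj i₀).affineCover.finiteSubcover
  have h𝒱 : ∀ v, IsAffine (𝒱.X v) := fun v => by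
    dsimp [𝒱]; infer_instance
  let j₁ : Over i₀ := Over.mk (𝟙 i₀)
  -- the key statement for each member of the cover
  have key : ∀ v, ∃ j : Over i₀, ∀ (k : Over i₀) (_ : k ⟶ j),
      P (pullback.snd f₀ (pullback.snd (𝒱.f v) (D.map k.hom) ≫ D.map k.hom)) := by
    intro v
    have hEaff : ∀ j, IsAffine ((bcDiagram D (𝒱.f v)).obj j) := fun j =>
      isAffine_bcDiagram_obj D (𝒱.f v) j (hDaff _)
    let w : (bcDiagram D (𝒱.f v)).obj j₁ ⟶ D.obj i₀ :=
      pullback.snd (𝒱.f v) (D.map j₁.hom) ≫ D.map j₁.hom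
    have hw₁ : (bcCone D c (𝒱.f v)).π.app j₁ ≫ w =
        pullback.snd (𝒱.f v) (c.π.app i₀) ≫ c.π.app i₀ := by
      change bcProj D c (𝒱.f v) j₁ ≫ _ ≫ _ = _
      rw [bcProj_snd_assoc, c.w]
    have hw₂ : ∀ (k : Over i₀) (φ : k ⟶ j₁), (bcDiagram D (𝒱.f v)).map φ ≫ w =
        pullback.snd (𝒱.f v) (D.map k.hom) ≫ D.map k.hom := by
      intro k φ
      change bcMap D (𝒱.f v) φ ≫ _ ≫ _ = _
      rw [bcMap_snd_assoc, ← D.map_comp, CategoryTheory.Over.w]
    obtain ⟨j, φ, hj⟩ := H (bcDiagram D (𝒱.f v)) (bcCone D c (𝒱.f v))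
      (isLimitBcCone D c (𝒱.f v) hc) j₁ (pullback.snd f₀ w) (Φ.pullback_snd _ _ hΦ) (by
        rw [← bc_comp_iff (P := P), bc_congr (P := P) f₀ hw₁]
        exact bc_of_comp f₀ _ _ h)
    rw [← bc_comp_iff (P := P), bc_congr (P := P) f₀ (hw₂ j φ)] at hj
    refine ⟨j, fun k ψ => ?_⟩
    have e : pullback.snd (𝒱.f v) (D.map k.hom) ≫ D.map k.hom =
        bcMap D (𝒱.f v) ψ ≫ pullback.snd (𝒱.f v) (D.map j.hom) ≫ D.map j.hom := by
      rw [bcMap_snd_assoc, ← D.map_comp, CategoryTheory.Over.w]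
    rw [bc_congr (P := P) f₀ e]
    exact bc_of_comp f₀ _ _ hj
  choose jv hjv using key
  obtain ⟨j, hj⟩ := IsCofiltered.inf_objs_exists (Finset.univ.image jv)
  refine ⟨j.left, j.hom, ?_⟩
  rw [IsZariskiLocalAtTarget.iff_of_openCover (P := P) (𝒱.pullback₂ (D.map j.hom))]
  intro (v : 𝒱.I₀)
  have := hjv v j (hj (Finset.mem_image_of_mem jv (Finset.mem_univ v))).some
  rw [bc_comp_iff (P := P)] at this
  exact this

end Reduce

section AffineHom

/-- Affineness descends along cofiltered limits of affine schemes. -/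
theorem affineSystemDescent_isAffineHom :
    AffineSystemDescent.{u} @IsAffineHom (@QuasiCompact ⊓ @QuasiSeparated) := by
  intro J _ _ E cE hcE _ j₁ Z₀ h₀ hΦ hP
  have : IsAffine cE.pt := Scheme.isAffine_of_isLimit cE hcE
  have : QuasiCompact h₀ := hΦ.1
  have : QuasiSeparated h₀ := hΦ.2
  have : CompactSpace Z₀ := QuasiCompact.compactSpace_of_compactSpace h₀
  have : QuasiSeparatedSpace Z₀ := quasiSeparatedSpace_of_quasiSeparated h₀
  have hEaff : ∀ {j k : J} (a : j ⟶ k), IsAffineHom (E.map a) := fun a => inferInstance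
  have h1 : ∀ j, CompactSpace ((bcDiagram E h₀).obj j) := fun j =>
    compactSpace_bcDiagram_obj E h₀ j (hEaff _)
  have h2 : ∀ j, QuasiSeparatedSpace ((bcDiagram E h₀).obj j) := fun j =>
    quasiSeparatedSpace_bcDiagram_obj E h₀ j (hEaff _)
  have h3 : ∀ {j k : Over j₁} (φ : j ⟶ k), IsAffineHom ((bcDiagram E h₀).map φ) := fun φ =>
    isAffineHom_bcMap E h₀ φ (hEaff _)
  have h4 : IsAffine (bcCone E cE h₀).pt := by
    change IsAffine (pullback h₀ (cE.π.app j₁))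
    have : IsAffineHom (pullback.snd h₀ (cE.π.app j₁)) := hP
    have : IsAffine (((Functor.const J).obj cE.pt).obj j₁) := ‹IsAffine cE.pt›
    exact isAffine_of_isAffineHom (pullback.snd h₀ (cE.π.app j₁))
  obtain ⟨j, hj⟩ := Scheme.exists_isAffine_of_isLimit _ _ (isLimitBcCone E cE h₀ hcE)
  have hj' : IsAffine (pullback h₀ (E.map j.hom)) := hj
  exact ⟨j.left, j.hom, inferInstance⟩

end AffineHom

section Wrapper

variable {I : Type u} [SmallCategory I] [IsCofiltered I] (D : I ⥤ Scheme.{u}) (c : Cone D)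
  (hc : IsLimit c)

lemma bc_iso_iff {P : MorphismProperty Scheme.{u}} [P.IsStableUnderBaseChange]
    {X S T T' : Scheme.{u}} (f : X ⟶ S) (a : T ⟶ S) (e : T' ⟶ T) [IsIso e] :
    P (pullback.snd f (e ≫ a)) ↔ P (pullback.snd f a) := by
  refine ⟨fun h => ?_, fun h => bc_of_comp f a e h⟩
  have := bc_of_comp f (e ≫ a) (inv e) h
  rwa [IsIso.inv_hom_id_assoc] at this

omit [IsCofiltered I] in
/-- Input conversion: from the pullback squares of a statement to the standard form. -/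
lemma descend_in {P : MorphismProperty Scheme.{u}} [P.RespectsIso] [P.IsStableUnderBaseChange]
    {i₀ : I} {X₀ Y₀ : Scheme.{u}} (f₀ : X₀ ⟶ Y₀) (g₀ : Y₀ ⟶ D.obj i₀)
    {X Y : Scheme.{u}} {f : X ⟶ Y} {g : Y ⟶ c.pt} {qY : Y ⟶ Y₀} {qX : X ⟶ X₀}
    (hY : IsPullback qY g g₀ (c.π.app i₀)) (hX : IsPullback qX f f₀ qY) (hf : P f) :
    P (pullback.snd f₀ (pullback.fst g₀ (c.π.app i₀))) := by
  have h4 : P (pullback.snd f₀ qY) := by
    have : f = hX.isoPullback.hom ≫ pullback.snd f₀ qY := (hX.isoPullback_hom_snd).symm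
    rw [this] at hf
    exact (P.cancel_left_of_respectsIso _ _).mp hf
  have h5 : qY = hY.isoPullback.hom ≫ pullback.fst g₀ (c.π.app i₀) :=
    (hY.isoPullback_hom_fst).symm
  rw [bc_congr (P := P) f₀ h5] at h4
  exact (bc_iso_iff f₀ _ _).mp h4

omit [IsCofiltered I] in
/-- Output conversion: from the standard form to the pullback squares of a statement. -/
lemma descend_out {P : MorphismProperty Scheme.{u}}
    {i₀ : I} {X₀ Y₀ : Scheme.{u}} (f₀ : X₀ ⟶ Y₀) (g₀ : Y₀ ⟶ D.obj i₀) (k : Over i₀)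
    (hk : P (pullback.snd f₀ (pullback.fst g₀ (D.map k.hom)))) :
    ∃ (i : I) (φ : i ⟶ i₀) (Xi Yi : Scheme.{u}) (fi : Xi ⟶ Yi) (gi : Yi ⟶ D.obj i) (pY : Yi ⟶ Y₀)
      (pX : Xi ⟶ X₀), IsPullback pY gi g₀ (D.map φ) ∧ IsPullback pX fi f₀ pY ∧ P fi :=
  ⟨k.left, k.hom, pullback f₀ (pullback.fst g₀ (D.map k.hom)), pullback g₀ (D.map k.hom),
    pullback.snd _ _, pullback.snd _ _, pullback.fst _ _, pullback.fst _ _,
    IsPullback.of_hasPullback _ _, IsPullback.of_hasPullback _ _, hk⟩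

omit [IsCofiltered I] in
/-- Persistence of the standard form along the system. -/
lemma descend_mono {P : MorphismProperty Scheme.{u}} [P.IsStableUnderBaseChange]
    {i₀ : I} {X₀ Y₀ : Scheme.{u}} (f₀ : X₀ ⟶ Y₀) (g₀ : Y₀ ⟶ D.obj i₀) {k k' : Over i₀}
    (ψ : k' ⟶ k) (hk : P (pullback.snd f₀ (pullback.fst g₀ (D.map k.hom)))) :
    P (pullback.snd f₀ (pullback.fst g₀ (D.map k'.hom))) := by
  have : pullback.fst g₀ (D.map k'.hom) = bcMap D g₀ ψ ≫ pullback.fst g₀ (D.map k.hom) :=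
    (bcMap_fst D g₀ ψ).symm
  rw [bc_congr (P := P) f₀ this]
  exact bc_of_comp f₀ _ _ hk

include hc in
/-- Descent of a property along a limit, standard form. -/
theorem exists_descend_core {P Φ : MorphismProperty Scheme.{u}} [IsZariskiLocalAtTarget P]
    [P.IsStableUnderBaseChange] [Φ.IsStableUnderBaseChange] (H : AffineSystemDescent P Φ)
    [∀ (i j : I) (f : i ⟶ j), IsAffineHom (D.map f)] (i₀ : I)
    {X₀ Y₀ : Scheme.{u}} (f₀ : X₀ ⟶ Y₀) (g₀ : Y₀ ⟶ D.obj i₀) [CompactSpace Y₀] (hΦ : Φ f₀)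
    (hP₁ : P (pullback.snd f₀ (pullback.fst g₀ (c.π.app i₀)))) :
    ∃ k : Over i₀, P (pullback.snd f₀ (pullback.fst g₀ (D.map k.hom))) := by
  have hDaff : ∀ {i j : I} (f : i ⟶ j), IsAffineHom (D.map f) := fun f => inferInstance
  have h3 : ∀ (j k : Over i₀) (φ : j ⟶ k), IsAffineHom ((bcDiagram D g₀).map φ) := fun j k φ =>
    isAffineHom_bcMap D g₀ φ (hDaff _)
  let j₁ : Over i₀ := Over.mk (𝟙 i₀)
  have h1 : CompactSpace ((bcDiagram D g₀).obj j₁) := compactSpace_bcDiagram_obj D g₀ j₁ (hDaff _)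
  let e : (bcDiagram D g₀).obj j₁ ⟶ Y₀ := pullback.fst g₀ (D.map j₁.hom)
  have hP₂ : P (pullback.snd (pullback.snd f₀ e) ((bcCone D c g₀).π.app j₁)) := by
    rw [← bc_comp_iff (P := P)]
    have : (bcCone D c g₀).π.app j₁ ≫ e = pullback.fst g₀ (c.π.app i₀) := bcProj_fst D c g₀ j₁
    rw [bc_congr (P := P) f₀ this]
    exact hP₁
  obtain ⟨k, φ, hk⟩ := exists_bc_of_affineSystemDescent (bcDiagram D g₀) (bcCone D c g₀)
    (isLimitBcCone D c g₀ hc) H j₁ (pullback.snd f₀ e) (Φ.pullback_snd _ _ hΦ) hP₂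
  rw [← bc_comp_iff (P := P)] at hk
  have : (bcDiagram D g₀).map φ ≫ e = pullback.fst g₀ (D.map k.hom) := bcMap_fst D g₀ φ
  rw [bc_congr (P := P) f₀ this] at hk
  exact ⟨k, hk⟩

include hc in
/-- Descent of a property along a limit, in the two-level form used by the statements. -/
theorem exists_descend {P Φ : MorphismProperty Scheme.{u}} [IsZariskiLocalAtTarget P]
    [P.IsStableUnderBaseChange] [Φ.IsStableUnderBaseChange] (H : AffineSystemDescent P Φ)
    [∀ (i j : I) (f : i ⟶ j), IsAffineHom (D.map f)] (i₀ : I)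
    {X₀ Y₀ : Scheme.{u}} (f₀ : X₀ ⟶ Y₀) (g₀ : Y₀ ⟶ D.obj i₀) [CompactSpace Y₀] (hΦ : Φ f₀)
    {X Y : Scheme.{u}} (f : X ⟶ Y) (g : Y ⟶ c.pt) (qY : Y ⟶ Y₀) (qX : X ⟶ X₀)
    (hY : IsPullback qY g g₀ (c.π.app i₀)) (hX : IsPullback qX f f₀ qY) (hf : P f) :
    ∃ (i : I) (φ : i ⟶ i₀) (Xi Yi : Scheme.{u}) (fi : Xi ⟶ Yi) (gi : Yi ⟶ D.obj i) (pY : Yi ⟶ Y₀)
      (pX : Xi ⟶ X₀), IsPullback pY gi g₀ (D.map φ) ∧ IsPullback pX fi f₀ pY ∧ P fi := by
  obtain ⟨k, hk⟩ := exists_descend_core D c hc H i₀ f₀ g₀ hΦ (descend_in D c f₀ g₀ hY hX hf)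
  exact descend_out D f₀ g₀ k hk

end Wrapper

end Groth.Agent.H5.Lim
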