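import Mathlib
import Groth.Agent.Lib.Helper5.Lim.FGSub
import Groth.Agent.Lib.Helper5.Lim.DescendImmersion
set_option autoImplicit false
universe u
open CategoryTheory CategoryTheory.Limits AlgebraicGeometry MorphismProperty Opposite

namespace Groth.Agent.H5.Lim

section OverStage

variable {I : Type u} [SmallCategory I] [IsCofiltered I] (D : I ⥤ Scheme.{u}) (c : Cone D)
  (hc : IsLimit c) [∀ (i j : I) (f : i ⟶ j), IsAffineHom (D.map f)] (i₀ : I)

/-- restriction of the system to the stages over `i₀` -/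
abbrev overDiagram : Over i₀ ⥤ Scheme.{u} := Over.forget i₀ ⋙ D

abbrev overCone : Cone (overDiagram D i₀) := c.whisker (Over.forget i₀)

noncomputable def isLimitOverCone : IsLimit (overCone D c i₀) :=
  (Functor.Initial.isLimitWhiskerEquiv (Over.forget i₀) c).symm hc

instance (j k : Over i₀) (f : j ⟶ k) : IsAffineHom ((overDiagram D i₀).map f) :=
  inferInstanceAs (IsAffineHom (D.map f.left))

lemma compactSpace_overDiagram [CompactSpace (D.obj i₀)] (k : Over i₀) :
    CompactSpace ((overDiagram D i₀).obj k) :=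
  compactSpace_of_isAffineHom (D.map k.hom) inferInstance

lemma quasiSeparatedSpace_overDiagram [QuasiSeparatedSpace (D.obj i₀)] (k : Over i₀) :
    QuasiSeparatedSpace ((overDiagram D i₀).obj k) :=
  quasiSeparatedSpace_of_quasiSeparated (D.map k.hom)

include hc in
/-- Existence of models with a descending property when only one stage is qcqs. -/
theorem exists_model_over {P Φ : MorphismProperty Scheme.{u}}
    [IsZariskiLocalAtTarget P] [P.IsStableUnderBaseChange]
    [Φ.IsStableUnderBaseChange] (H : AffineSystemDescent P Φ)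
    (hΦ : ∀ {X Y : Scheme.{u}} (g : X ⟶ Y), LocallyOfFinitePresentation g → QuasiCompact g →
      QuasiSeparated g → Φ g)
    [CompactSpace (D.obj i₀)] [QuasiSeparatedSpace (D.obj i₀)]
    {X : Scheme.{u}} (f : X ⟶ c.pt) [LocallyOfFinitePresentation f]
    [QuasiCompact f] [QuasiSeparated f] (hP : P f) :
    ∃ (j : I) (_ : j ⟶ i₀) (Xj : Scheme.{u}) (fj : Xj ⟶ D.obj j) (g : X ⟶ Xj),
        P fj ∧ LocallyOfFinitePresentation fj ∧ QuasiCompact fj ∧ QuasiSeparated fj ∧
          IsPullback g f fj (c.π.app j) := by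
  haveI := compactSpace_overDiagram D i₀
  haveI := quasiSeparatedSpace_overDiagram D i₀
  let f' : X ⟶ (overCone D c i₀).pt := f
  haveI : LocallyOfFinitePresentation f' := ‹LocallyOfFinitePresentation f›
  haveI : QuasiCompact f' := ‹QuasiCompact f›
  haveI : QuasiSeparated f' := ‹QuasiSeparated f›
  obtain ⟨j, ⟨M⟩⟩ := exists_model (overDiagram D i₀) (overCone D c i₀) (isLimitOverCone D c hc i₀) f'
  obtain ⟨k, φ, hk⟩ := M.exists_property (isLimitOverCone D c hc i₀) H (hΦ M.p M.lfp M.qc M.qs) hP
  exact ⟨k.left, k.hom, (M.bc φ).Y, (M.bc φ).p, (M.bc φ).g, hk, (M.bc φ).lfp, (M.bc φ).qc,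
    (M.bc φ).qs, (M.bc φ).pb⟩

end OverStage

end Groth.Agent.H5.Lim
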