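import Groth.Agent.Lib.Helper5.AlgSp.Limits.EvIso
import Mathlib
set_option autoImplicit false
universe u
open CategoryTheory CategoryTheory.Limits AlgebraicGeometry

namespace Groth.Agent.H5.Lim

variable {J : Type u} [Category.{u} J] [IsCofiltered J] (D : J ⥤ Scheme.{u}) (c : Cone D)
  (hc : IsLimit c)

include hc in
/-- Finitely many global sections dying in the limit die at a common finite stage. -/
theorem exists_over_appTop_eq_zero [∀ j, IsAffine (D.obj j)] (j₁ : J)
    (s' : Finset Γ(D.obj j₁, ⊤)) (h : ∀ a ∈ s', (c.π.app j₁).appTop a = 0) :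
    ∃ K : Over j₁, ∀ a ∈ s', (D.map K.hom).appTop a = 0 := by
  classical
  induction s' using Finset.induction with
  | empty => exact ⟨Over.mk (𝟙 j₁), by simp⟩
  | insert g s' _ ih =>
    obtain ⟨K, hK⟩ := ih (fun a ha => h a (Finset.mem_insert_of_mem ha))
    obtain ⟨k, f, hk⟩ := exists_appTop_map_eq_zero_of_isAffine_of_isLimit D c hc j₁ g
      (h g (Finset.mem_insert_self _ _))
    let K' : Over j₁ := Over.mk f
    refine ⟨IsCofiltered.min K K', ?_⟩
    intro a ha
    rw [Finset.mem_insert] at ha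
    rcases ha with rfl | ha
    · have h1 : (IsCofiltered.min K K').hom = (IsCofiltered.minToRight K K').left ≫ f :=
        (Over.w (IsCofiltered.minToRight K K')).symm
      rw [h1, D.map_comp, Scheme.Hom.comp_appTop]
      change (D.map (IsCofiltered.minToRight K K').left).appTop ((D.map f).appTop a) = 0
      rw [hk, map_zero]
    · have h1 : (IsCofiltered.min K K').hom = (IsCofiltered.minToLeft K K').left ≫ K.hom :=
        (Over.w (IsCofiltered.minToLeft K K')).symm
      rw [h1, D.map_comp, Scheme.Hom.comp_appTop]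
      change (D.map (IsCofiltered.minToLeft K K').left).appTop ((D.map K.hom).appTop a) = 0
      rw [hK a ha, map_zero]

include hc in
/-- Affine case: a cofiltered system of affine schemes over an affine `T` with closed immersion
transitions, a stage of finite type over `T`, and limit a closed subscheme of `T`: eventually the
stages are closed subschemes of `T`. -/
theorem exists_isClosedImmersion_structure_of_isAffine [∀ j, IsAffine (D.obj j)]
    (hD : ∀ {i j : J} (f : i ⟶ j), IsClosedImmersion (D.map f))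
    (T : Scheme.{u}) [IsAffine T] (t : D ⟶ (Functor.const J).obj T) (j₁ : J)
    (hft : LocallyOfFiniteType (t.app j₁))
    (hcl : IsClosedImmersion (c.π.app j₁ ≫ t.app j₁)) :
    ∃ (j : J) (_ : j ⟶ j₁), ∀ (j' : J) (_ : j' ⟶ j), IsClosedImmersion (t.app j') := by
  classical
  have : IsAffine c.pt := Scheme.isAffine_of_isLimit c hc
  obtain ⟨tt, htt⟩ : ∃ tt : ∀ j, D.obj j ⟶ T, ∀ j, tt j = t.app j := ⟨fun j => t.app j, fun _ => rfl⟩
  have hnat : ∀ {i j : J} (a : i ⟶ j), D.map a ≫ tt j = tt i := by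
    intro i j a
    have := t.naturality a
    rw [htt, htt]
    simpa using this
  suffices hsuff : ∃ (j : J) (_ : j ⟶ j₁), ∀ (j' : J) (_ : j' ⟶ j), IsClosedImmersion (tt j') by
    obtain ⟨j, a, h⟩ := hsuff
    exact ⟨j, a, fun j' b => htt j' ▸ h j' b⟩
  rw [← htt] at hft hcl
  have hft' : (tt j₁).appTop.hom.FiniteType :=
    (HasRingHomProperty.iff_of_isAffine (P := @LocallyOfFiniteType)).1 hft
  have hsurj : Function.Surjective (c.π.app j₁ ≫ tt j₁).appTop :=
    AlgSp.Lim.appTop_surjective_of_isClosedImmersion _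
  algebraize [(tt j₁).appTop.hom]
  obtain ⟨s, hs⟩ := (inferInstance : Algebra.FiniteType Γ(T, ⊤) Γ(D.obj j₁, ⊤)).out
  have hr : ∀ b : Γ(D.obj j₁, ⊤), ∃ r : Γ(T, ⊤),
      (c.π.app j₁).appTop (b - (tt j₁).appTop r) = 0 := by
    intro b
    obtain ⟨r, hr⟩ := hsurj ((c.π.app j₁).appTop b)
    refine ⟨r, ?_⟩
    rw [map_sub, sub_eq_zero, ← hr, Scheme.Hom.comp_appTop]
    rfl
  choose r hr using hr
  obtain ⟨K, hK⟩ := exists_over_appTop_eq_zero D c hc j₁ (s.image fun b => b - (tt j₁).appTop (r b))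
    (by
      intro a ha
      obtain ⟨b, -, rfl⟩ := Finset.mem_image.mp ha
      exact hr b)
  refine ⟨K.left, K.hom, fun j' φ => ?_⟩
  have := hD (φ ≫ K.hom)
  apply IsClosedImmersion.of_surjective_of_isAffine
  intro x
  obtain ⟨a, rfl⟩ := AlgSp.Lim.appTop_surjective_of_isClosedImmersion (D.map (φ ≫ K.hom)) x
  have ha : a ∈ Algebra.adjoin Γ(T, ⊤) (s : Set Γ(D.obj j₁, ⊤)) := by rw [hs]; trivial
  have hcomp : ∀ y : Γ(T, ⊤), (D.map (φ ≫ K.hom)).appTop ((tt j₁).appTop y) = (tt j').appTop y := by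
    intro y
    rw [← hnat (φ ≫ K.hom), Scheme.Hom.comp_appTop]
    rfl
  induction ha using Algebra.adjoin_induction with
  | mem b hb =>
    refine ⟨r b, ?_⟩
    have h1 := hK (b - (tt j₁).appTop (r b)) (Finset.mem_image_of_mem _ hb)
    have h2 : (D.map (φ ≫ K.hom)).appTop (b - (tt j₁).appTop (r b)) = 0 := by
      rw [D.map_comp, Scheme.Hom.comp_appTop]
      change (D.map φ).appTop ((D.map K.hom).appTop _) = 0
      rw [h1, map_zero]
    rw [map_sub, sub_eq_zero, hcomp] at h2
    exact h2.symm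
  | algebraMap y => exact ⟨y, (hcomp y).symm⟩
  | add x y _ _ hx hy =>
    obtain ⟨x', hx'⟩ := hx
    obtain ⟨y', hy'⟩ := hy
    exact ⟨x' + y', by rw [map_add, map_add, hx', hy']⟩
  | mul x y _ _ hx hy =>
    obtain ⟨x', hx'⟩ := hx
    obtain ⟨y', hy'⟩ := hy
    exact ⟨x' * y', by rw [map_mul, map_mul, hx', hy']⟩

end Groth.Agent.H5.Lim
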