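import Groth.Agent.Lib.Helper5.Lim.BaseChangeOver
import Groth.Agent.Lib.Helper5.Lim.Descend
import Mathlib

set_option autoImplicit false
universe u
open CategoryTheory CategoryTheory.Limits AlgebraicGeometry MorphismProperty

namespace Groth.Agent.H5.Lim

section LemmaG

variable {J : Type u} [SmallCategory J] [IsCofiltered J] (E : J ⥤ Scheme.{u}) (cE : Cone E)
  (hcE : IsLimit cE)

lemma isClosedImmersion_iff_of_isAffine {X Y : Scheme.{u}} [IsAffine X] [IsAffine Y] (f : X ⟶ Y) :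
    IsClosedImmersion f ↔ Function.Surjective f.appTop.hom := by
  rw [HasAffineProperty.iff_of_isAffine (P := @IsClosedImmersion)]
  exact ⟨fun h => h.2, fun h => ⟨inferInstance, h⟩⟩

include hcE in
/-- A closed immersion into a limit of affine schemes, which is of finite type over one stage,
is a closed immersion into a later stage. Affine case. -/
theorem exists_isClosedImmersion_comp_π_of_isAffine [∀ j, IsAffine (E.obj j)] {X : Scheme.{u}}
    [IsAffine X] (γ : X ⟶ cE.pt) [IsClosedImmersion γ] (j₀ : J)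
    (hft : LocallyOfFiniteType (γ ≫ cE.π.app j₀)) :
    ∃ j : Over j₀, IsClosedImmersion (γ ≫ cE.π.app j.left) := by
  classical
  have : IsAffine cE.pt := Scheme.isAffine_of_isLimit cE hcE
  have hγ : Function.Surjective γ.appTop.hom := (isClosedImmersion_iff_of_isAffine γ).mp inferInstance
  have hft' : (γ ≫ cE.π.app j₀).appTop.hom.FiniteType :=
    (HasRingHomProperty.iff_of_isAffine (P := @LocallyOfFiniteType)).mp hft
  letI : Algebra Γ(E.obj j₀, ⊤) Γ(X, ⊤) := (γ ≫ cE.π.app j₀).appTop.hom.toAlgebra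
  obtain ⟨s, hs⟩ := (hft' : Algebra.FiniteType Γ(E.obj j₀, ⊤) Γ(X, ⊤)).out
  -- lift the generators
  have key : ∀ b : Γ(X, ⊤), ∃ (j : J) (y : Γ(E.obj j, ⊤)), γ.appTop.hom ((cE.π.app j).appTop.hom y) = b := by
    intro b
    obtain ⟨a, rfl⟩ := hγ b
    obtain ⟨j, y, rfl⟩ := exists_appTop_π_eq_of_isAffine_of_isLimit E cE hcE a
    exact ⟨j, y, rfl⟩
  choose jb yb hyb using key
  obtain ⟨j, hj⟩ := IsCofiltered.inf_objs_exists (insert j₀ (s.image jb))
  have φ₀ : j ⟶ j₀ := (hj (Finset.mem_insert_self _ _)).some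
  have φ : ∀ b ∈ s, j ⟶ jb b := fun b hb =>
    (hj (Finset.mem_insert_of_mem (Finset.mem_image_of_mem jb hb))).some
  refine ⟨Over.mk φ₀, ?_⟩
  change IsClosedImmersion (γ ≫ cE.π.app j)
  rw [isClosedImmersion_iff_of_isAffine]
  let f := (γ ≫ cE.π.app j).appTop.hom
  have hf₀ : ∀ x, f ((E.map φ₀).appTop.hom x) = algebraMap Γ(E.obj j₀, ⊤) Γ(X, ⊤) x := by
    intro x
    change (γ ≫ cE.π.app j).appTop.hom ((E.map φ₀).appTop.hom x) = (γ ≫ cE.π.app j₀).appTop.hom x
    rw [← cE.w φ₀]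
    simp only [Scheme.Hom.comp_appTop, CommRingCat.hom_comp, RingHom.comp_apply]
  let S' : Subalgebra Γ(E.obj j₀, ⊤) Γ(X, ⊤) :=
    { f.range with
      algebraMap_mem' := fun x => ⟨(E.map φ₀).appTop.hom x, hf₀ x⟩ }
  have hS' : Algebra.adjoin Γ(E.obj j₀, ⊤) (s : Set Γ(X, ⊤)) ≤ S' := by
    rw [Algebra.adjoin_le_iff]
    intro b hb
    refine ⟨(E.map (φ b hb)).appTop.hom (yb b), ?_⟩
    refine Eq.trans ?_ (hyb b)
    change (γ ≫ cE.π.app j).appTop.hom _ = _
    rw [← cE.w (φ b hb)]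
    simp only [Scheme.Hom.comp_appTop, CommRingCat.hom_comp, RingHom.comp_apply]
  intro b
  have : b ∈ S' := hS' (hs ▸ Algebra.mem_top)
  exact this

include hcE in
/-- Auxiliary form of `exists_isClosedImmersion_comp_π` over an affine chart of a stage. -/
theorem exists_isClosedImmersion_comp_bcProj [∀ (i j : J) (f : i ⟶ j), IsAffineHom (E.map f)]
    (k₀ : J) {V : Scheme.{u}} [IsAffine V] (a : V ⟶ E.obj k₀) {Xv : Scheme.{u}}
    (γv : Xv ⟶ pullback a (cE.π.app k₀)) [IsClosedImmersion γv]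
    (hft : LocallyOfFiniteType (γv ≫ bcProj E cE a (Over.mk (𝟙 k₀)))) :
    ∃ k : Over k₀, ∀ (k' : Over k₀) (_ : k' ⟶ k), IsClosedImmersion (γv ≫ bcProj E cE a k') := by
  have hEaff : ∀ {i j : J} (f : i ⟶ j), IsAffineHom (E.map f) := fun f => inferInstance
  have hEvaff : ∀ j, IsAffine ((bcDiagram E a).obj j) := fun j =>
    isAffine_bcDiagram_obj E a j (hEaff _)
  have hlim := isLimitBcCone E cE a hcE
  have hpt : IsAffine (bcCone E cE a).pt := Scheme.isAffine_of_isLimit _ hlim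
  have hpt' : IsAffine (pullback a (cE.π.app k₀)) := hpt
  have hXv : IsAffine Xv := isAffine_of_isAffineHom γv
  have hγv : IsClosedImmersion (X := Xv) (Y := (bcCone E cE a).pt) γv := ‹IsClosedImmersion γv›
  obtain ⟨k, hk⟩ := @exists_isClosedImmersion_comp_π_of_isAffine _ _ _ (bcDiagram E a)
    (bcCone E cE a) hlim hEvaff Xv hXv γv hγv (Over.mk (𝟙 k₀)) hft
  refine ⟨k.left, fun k' ψ => ?_⟩
  have hk' : IsClosedImmersion ((γv ≫ bcProj E cE a k') ≫ bcMap E a ψ) := by
    have : (γv ≫ bcProj E cE a k') ≫ bcMap E a ψ = γv ≫ (bcCone E cE a).π.app k.left := by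
      rw [Category.assoc]
      exact congrArg (γv ≫ ·) ((bcCone E cE a).w ψ)
    rw [this]; exact hk
  have : IsAffineHom (bcMap E a ψ) := isAffineHom_bcMap E a ψ (hEaff _)
  exact IsClosedImmersion.of_comp _ (bcMap E a ψ)

include hcE in
/-- A closed immersion into a limit (affine transition maps), which is of finite type over one
quasi-compact stage, is a closed immersion into a later stage. -/
theorem exists_isClosedImmersion_comp_π [∀ (i j : J) (f : i ⟶ j), IsAffineHom (E.map f)]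
    {X : Scheme.{u}} (γ : X ⟶ cE.pt) [IsClosedImmersion γ] (k₀ : J) [CompactSpace (E.obj k₀)]
    (hft : LocallyOfFiniteType (γ ≫ cE.π.app k₀)) :
    ∃ k : Over k₀, ∀ (k' : Over k₀) (_ : k' ⟶ k), IsClosedImmersion (γ ≫ cE.π.app k'.left) := by
  classical
  have hEaff : ∀ {i j : J} (f : i ⟶ j), IsAffineHom (E.map f) := fun f => inferInstance
  let 𝒱 := (E.obj k₀).affineCover.finiteSubcover
  have h𝒱 : ∀ v, IsAffine (𝒱.X v) := fun v => by
    dsimp [𝒱]; infer_instance
  let k₁ : Over k₀ := Over.mk (𝟙 k₀)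
  -- the pasted pullback square
  have hsq : ∀ (v : 𝒱.I₀) (k : Over k₀), IsPullback
      (pullback.fst γ (pullback.snd (𝒱.f v) (cE.π.app k₀)))
      (pullback.snd γ (pullback.snd (𝒱.f v) (cE.π.app k₀)) ≫ bcProj E cE (𝒱.f v) k)
      (γ ≫ cE.π.app k.left) (pullback.snd (𝒱.f v) (E.map k.hom)) := fun v k =>
    ((IsPullback.of_hasPullback γ (pullback.snd (𝒱.f v) (cE.π.app k₀))).flip.paste_horiz
      (isPullback_bcProj E cE (𝒱.f v) k)).flip
  have key : ∀ v : 𝒱.I₀, ∃ k : Over k₀, ∀ (k' : Over k₀) (_ : k' ⟶ k), IsClosedImmersion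
      (pullback.snd γ (pullback.snd (𝒱.f v) (cE.π.app k₀)) ≫ bcProj E cE (𝒱.f v) k') := by
    intro v
    have hγv : IsClosedImmersion (pullback.snd γ (pullback.snd (𝒱.f v) (cE.π.app k₀))) :=
      MorphismProperty.pullback_snd (P := @IsClosedImmersion) _ _ inferInstance
    refine exists_isClosedImmersion_comp_bcProj E cE hcE k₀ (𝒱.f v) _ ?_
    have e := (hsq v k₁).w.symm
    have : LocallyOfFiniteType ((pullback.snd γ (pullback.snd (𝒱.f v) (cE.π.app k₀)) ≫
        bcProj E cE (𝒱.f v) k₁) ≫ pullback.snd (𝒱.f v) (E.map k₁.hom)) := by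
      rw [e]
      have : LocallyOfFiniteType (pullback.fst γ (pullback.snd (𝒱.f v) (cE.π.app k₀))) := by
        have : IsOpenImmersion (pullback.snd (𝒱.f v) (cE.π.app k₀)) :=
          MorphismProperty.pullback_snd (P := @IsOpenImmersion) _ _ inferInstance
        have : IsOpenImmersion (pullback.fst γ (pullback.snd (𝒱.f v) (cE.π.app k₀))) :=
          MorphismProperty.pullback_fst (P := @IsOpenImmersion) _ _ this
        infer_instance
      have : LocallyOfFiniteType (γ ≫ cE.π.app k₁.left) := hft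
      infer_instance
    exact locallyOfFiniteType_of_comp _ (pullback.snd (𝒱.f v) (E.map k₁.hom))
  choose kv hkv using key
  obtain ⟨k, hk⟩ := IsCofiltered.inf_objs_exists (Finset.univ.image kv)
  refine ⟨k, fun k' ψ => ?_⟩
  rw [IsZariskiLocalAtTarget.iff_of_openCover (P := @IsClosedImmersion)
    (𝒱.pullback₂ (E.map k'.hom))]
  intro (v : 𝒱.I₀)
  have h1 := hkv v k' (ψ ≫ (hk (Finset.mem_image_of_mem kv (Finset.mem_univ v))).some)
  have h2 := hsq v k'
  have e : pullback.snd γ (pullback.snd (𝒱.f v) (cE.π.app k₀)) ≫ bcProj E cE (𝒱.f v) k' =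
      h2.isoPullback.hom ≫ pullback.snd (γ ≫ cE.π.app k'.left)
        (pullback.snd (𝒱.f v) (E.map k'.hom)) := h2.isoPullback_hom_snd.symm
  rw [e] at h1
  exact (MorphismProperty.cancel_left_of_respectsIso @IsClosedImmersion _ _).mp h1

end LemmaG

end Groth.Agent.H5.Lim
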