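import Mathlib
import Groth.Agent.Lib.Helper5.Lim.ModelOver
import Groth.Agent.Lib.Helper5.PullbackRange
set_option autoImplicit false
universe u
open CategoryTheory CategoryTheory.Limits AlgebraicGeometry MorphismProperty Opposite

namespace Groth.Agent.H5.Lim

section Cover

variable {I : Type u} [SmallCategory I] [IsCofiltered I] (D : I ⥤ Scheme.{u}) (c : Cone D)
  (hc : IsLimit c) [∀ (i j : I) (f : i ⟶ j), IsAffineHom (D.map f)] (i₀ : I)

include hc in
/-- Descent of finite-presentation flat coverings with a descending property. -/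
theorem exists_cover_descend {P : MorphismProperty Scheme.{u}} [P.IsStableUnderBaseChange]
    (hflat : ∀ {X Y : Scheme.{u}} (g : X ⟶ Y), P g → Flat g)
    (Hdesc : ∀ {T : Scheme.{u}} {h : T ⟶ (overCone D c i₀).pt} {k : Over i₀}
      (M : Model (overDiagram D i₀) (overCone D c i₀) h k), P h →
        ∃ (k' : Over i₀) (φ : k' ⟶ k), P (M.bc φ).p)
    [CompactSpace (D.obj i₀)] [QuasiSeparatedSpace (D.obj i₀)] {ι : Type u}
    (U : ι → Scheme.{u}) (u : ∀ a, U a ⟶ c.pt) (hP : ∀ a, P (u a))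
    [∀ a, LocallyOfFinitePresentation (u a)] [∀ a, QuasiCompact (u a)]
    [∀ a, QuasiSeparated (u a)] (hcov : ∀ x : c.pt, ∃ (a : ι) (y : U a), (u a).base y = x) :
    ∃ (i : I) (n : ℕ) (V : Fin n → Scheme.{u}) (v : ∀ j, V j ⟶ D.obj i) (a : Fin n → ι)
      (e : ∀ j, U (a j) ⟶ V j),
      (∀ j, P (v j) ∧ LocallyOfFinitePresentation (v j) ∧ QuasiCompact (v j) ∧
        QuasiSeparated (v j)) ∧
      (∀ x : D.obj i, ∃ (j : Fin n) (y : V j), (v j).base y = x) ∧
      ∀ j, IsPullback (e j) (u (a j)) (v j) (c.π.app i) := by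
  classical
  haveI := compactSpace_overDiagram D i₀
  haveI := quasiSeparatedSpace_overDiagram D i₀
  have hc' := isLimitOverCone D c hc i₀
  haveI : CompactSpace c.pt := Scheme.compactSpace_of_isLimit (overDiagram D i₀) (overCone D c i₀) hc'
  -- finite subfamily
  have hopen : ∀ a, IsOpen (Set.range (u a).base) := fun a => by
    haveI := hflat (u a) (hP a)
    exact (u a).isOpenMap.isOpen_range
  obtain ⟨t, ht⟩ := isCompact_univ.elim_finite_subcover (fun a => Set.range (u a).base) hopen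
    (fun x _ => by
      obtain ⟨a, y, hy⟩ := hcov x
      exact Set.mem_iUnion.mpr ⟨a, y, hy⟩)
  let n := t.card
  let a : Fin n → ι := fun j => (t.equivFin.symm j).1
  have ha : ∀ x : c.pt, ∃ (j : Fin n) (y : U (a j)), (u (a j)).base y = x := by
    intro x
    obtain ⟨b, hb⟩ := Set.mem_iUnion.mp (ht (Set.mem_univ x))
    obtain ⟨hbt, y, hy⟩ := Set.mem_iUnion.mp hb
    refine ⟨t.equivFin ⟨b, hbt⟩, ?_⟩
    have : a (t.equivFin ⟨b, hbt⟩) = b := by simp [a]
    rw [this]
    exact ⟨y, hy⟩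
  -- models of the members
  have hmod : ∀ j : Fin n, ∃ (k : Over i₀)
      (M : Model (overDiagram D i₀) (overCone D c i₀) (u (a j) : U (a j) ⟶ (overCone D c i₀).pt) k),
      P M.p := by
    intro j
    let f' : U (a j) ⟶ (overCone D c i₀).pt := u (a j)
    haveI : LocallyOfFinitePresentation f' := inferInstanceAs (LocallyOfFinitePresentation (u (a j)))
    haveI : QuasiCompact f' := inferInstanceAs (QuasiCompact (u (a j)))
    haveI : QuasiSeparated f' := inferInstanceAs (QuasiSeparated (u (a j)))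
    obtain ⟨k, ⟨M⟩⟩ := exists_model (overDiagram D i₀) (overCone D c i₀) hc' f'
    obtain ⟨k', φ, hk'⟩ := Hdesc M (hP (a j))
    exact ⟨k', M.bc φ, hk'⟩
  choose k M hM using hmod
  -- common stage
  obtain ⟨k₀, hk₀⟩ := IsCofiltered.inf_objs_exists (Finset.univ.image k)
  have ψ : ∀ j, k₀ ⟶ k j := fun j => (hk₀ (Finset.mem_image_of_mem k (Finset.mem_univ j))).some
  let N := fun j => (M j).bc (ψ j)
  have hN : ∀ j, P (N j).p := fun j => P.pullback_snd _ _ (hM j)
  -- surjectivity at a later stage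
  have hopenN : ∀ j, IsOpen (Set.range (N j).p.base) := fun j => by
    haveI := hflat (N j).p (hN j)
    exact (N j).p.isOpenMap.isOpen_range
  let W : ((overDiagram D i₀).obj k₀).Opens := ⨆ j, ⟨Set.range (N j).p.base, hopenN j⟩
  have hW : (overCone D c i₀).π.app k₀ ⁻¹ᵁ W = ⊤ := by
    rw [eq_top_iff]
    intro x _
    obtain ⟨j, y, hy⟩ := ha x
    refine TopologicalSpace.Opens.mem_iSup.mpr ⟨j, (N j).g y, ?_⟩
    have := congrArg (fun φ => φ y) (N j).pb.w
    simp only [Scheme.Hom.comp_apply] at this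
    rw [this]
    exact congrArg _ hy
  obtain ⟨k₁, φ, hφ⟩ := exists_map_eq_top (overDiagram D i₀) (overCone D c i₀) hc' W hW
  refine ⟨k₁.left, n, fun j => ((N j).bc φ).Y, fun j => ((N j).bc φ).p, a,
    fun j => ((N j).bc φ).g, fun j => ⟨P.pullback_snd _ _ (hN j), ((N j).bc φ).lfp,
      ((N j).bc φ).qc, ((N j).bc φ).qs⟩, ?_, fun j => ((N j).bc φ).pb⟩
  intro x
  have hx : (overDiagram D i₀).map φ x ∈ W := by
    have : x ∈ (overDiagram D i₀).map φ ⁻¹ᵁ W := by rw [hφ]; trivial
    exact this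
  obtain ⟨j, z, hz⟩ := TopologicalSpace.Opens.mem_iSup.mp hx
  obtain ⟨y, -, hy⟩ := Groth.Agent.H5.IsPullback.exists_preimage ((N j).isPullback_bcFst φ) z x hz
  exact ⟨j, y, hy⟩

end Cover

end Groth.Agent.H5.Lim
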