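import Mathlib
import Groth.Agent.Lib.Helper5.Lim.Cover
set_option autoImplicit false
universe u
open CategoryTheory CategoryTheory.Limits AlgebraicGeometry MorphismProperty Opposite

namespace Groth.Agent.H5.Lim

namespace Model

variable {I : Type u} [SmallCategory I] [IsCofiltered I] {D : I ⥤ Scheme.{u}} {c : Cone D}
  [∀ (i j : I) (f : i ⟶ j), IsAffineHom (D.map f)]

/-- the trivial model of the identity -/
def idModel (i : I) : Model D c (𝟙 c.pt) i where
  Y := D.obj i
  p := 𝟙 _
  g := c.π.app i
  lfp := inferInstance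
  qc := inferInstance
  qs := inferInstance
  pb := IsPullback.of_vert_isIso ⟨by simp⟩

/-- Open immersions descend to a base change of a model. -/
theorem exists_isOpenImmersion_p (hc : IsLimit c) [∀ i, QuasiSeparatedSpace (D.obj i)]
    [∀ i, CompactSpace (D.obj i)] {T : Scheme.{u}} {h : T ⟶ c.pt} {i : I} (M : Model D c h i)
    [IsOpenImmersion h] : ∃ (j : I) (φ : j ⟶ i), IsOpenImmersion (M.bc φ).p := by
  let F : Hom M (idModel (D := D) (c := c) i) h :=
    { α := M.p
      w_p := Category.comp_id _
      w_g := M.pb.w }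
  have ht : h ≫ 𝟙 c.pt = h := Category.comp_id _
  obtain ⟨j, φ, hj⟩ := F.exists_isOpenImmersion hc ht
  refine ⟨j, φ, ?_⟩
  rw [← (F.bc φ ht).w_p]
  haveI : IsIso ((idModel (D := D) (c := c) i).bc φ).p :=
    inferInstanceAs (IsIso (pullback.snd (𝟙 (D.obj i)) (D.map φ)))
  infer_instance

end Model

end Groth.Agent.H5.Lim
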