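import Groth.Agent.Lib.Helper5.Lim.MaximalPoints
import Mathlib

set_option autoImplicit false
universe u
open CategoryTheory CategoryTheory.Limits AlgebraicGeometry Topology
open Groth.Agent.H2.ProConsLib

namespace Groth.Agent.H5.Lim

/-- In a scheme, an open subset containing all maximal points is dense. -/
theorem dense_of_forall_maximal_mem {X : Scheme.{u}} (V : Set X) (hV : IsOpen V)
    (h : ∀ ξ : X, (∀ z : X, z ⤳ ξ → z = ξ) → ξ ∈ V) : Dense V := by
  rw [dense_iff_inter_open]
  rintro W hW ⟨w, hw⟩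
  obtain ⟨ξ, h1, h2⟩ := exists_maximal_generization w
  exact ⟨ξ, h1.mem_open hW hw, h ξ h2⟩

/-- In a scheme with finitely many maximal points, a dense open subset contains all of them. -/
theorem maximal_mem_of_dense {X : Scheme.{u}}
    (hfin : {s : X | ∀ z : X, z ⤳ s → z = s}.Finite) (V : Set X) (hV : IsOpen V)
    (hd : Dense V) (ξ : X) (hξ : ∀ z : X, z ⤳ ξ → z = ξ) : ξ ∈ V := by
  let M : Set X := {s : X | ∀ z : X, z ⤳ s → z = s}
  let W : Set X := (⋃ m ∈ M \ {ξ}, closure {m})ᶜ
  have hWo : IsOpen W := by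
    rw [isOpen_compl_iff]
    exact (hfin.subset Set.sdiff_subset).isClosed_biUnion fun m _ => isClosed_closure
  have hξW : ξ ∈ W := by
    intro hmem
    simp only [Set.mem_iUnion, exists_prop] at hmem
    obtain ⟨m, ⟨hm, hne⟩, hcl⟩ := hmem
    have : m ⤳ ξ := specializes_iff_mem_closure.mpr hcl
    exact hne (hξ m this)
  obtain ⟨w, hwW, hwV⟩ := (dense_iff_inter_open.mp hd) W hWo ⟨ξ, hξW⟩
  obtain ⟨m, h1, h2⟩ := exists_maximal_generization w
  have hmξ : m = ξ := by
    by_contra hne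
    apply hwW
    simp only [Set.mem_iUnion, exists_prop]
    exact ⟨m, ⟨h2, hne⟩, specializes_iff_mem_closure.mp h1⟩
  rw [hmξ] at h1
  exact h1.mem_open hV hwV

variable {I : Type u} [SmallCategory I] [IsCofiltered I] (D : I ⥤ Scheme.{u}) (c : Cone D)
  (hc : IsLimit c)

include hc in
/-- EGA IV 8.4.? : density of the preimage of an open along a limit. -/
theorem dense_preimage_limit
    [∀ (i j : I) (g : i ⟶ j), IsAffineHom (D.map g)]
    (hfin : ∀ i : I, {s : D.obj i | ∀ z : D.obj i, z ⤳ s → z = s}.Finite)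
    (hsys : ∀ (i j : I) (g : i ⟶ j) (s : D.obj i), (∀ z : D.obj i, z ⤳ s → z = s) →
      ∀ z : D.obj j, z ⤳ D.map g s → z = D.map g s)
    (i₀ : I) (V₀ : (D.obj i₀).Opens) :
    (Dense (V₀ : Set (D.obj i₀)) →
        (∀ (i : I) (g : i ⟶ i₀), Dense (((D.map g) ⁻¹ᵁ V₀ : (D.obj i).Opens) : Set (D.obj i))) ∧
          Dense (((c.π.app i₀) ⁻¹ᵁ V₀ : c.pt.Opens) : Set c.pt)) ∧
      (Dense (((c.π.app i₀) ⁻¹ᵁ V₀ : c.pt.Opens) : Set c.pt) →
        {s : c.pt | ∀ z : c.pt, z ⤳ s → z = s}.Finite →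
          ∃ (i : I) (g : i ⟶ i₀),
            Dense (((D.map g) ⁻¹ᵁ V₀ : (D.obj i).Opens) : Set (D.obj i))) := by
  constructor
  · intro hd
    have hV₀ := maximal_mem_of_dense (hfin i₀) _ V₀.2 hd
    refine ⟨fun i g => ?_, ?_⟩
    · apply dense_of_forall_maximal_mem _ ((D.map g) ⁻¹ᵁ V₀).2
      intro ξ hξ
      exact hV₀ _ (hsys i i₀ g ξ hξ)
    · apply dense_of_forall_maximal_mem _ ((c.π.app i₀) ⁻¹ᵁ V₀).2
      intro s hs
      exact hV₀ _ (((isMaximalPoint_limit_iff_forall_stage D c hc hfin hsys s).mp hs) i₀)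
  · intro hd hfinS
    have hV := maximal_mem_of_dense hfinS _ ((c.π.app i₀) ⁻¹ᵁ V₀).2 hd
    by_contra hcon
    push Not at hcon
    -- the restricted system
    let D' : Over i₀ ⥤ Scheme.{u} := Over.forget i₀ ⋙ D
    let c' : Cone D' := c.whisker (Over.forget i₀)
    have hc' : IsLimit c' := (Functor.Initial.isLimitWhiskerEquiv (Over.forget i₀) c).symm hc
    have haff : ∀ (j k : Over i₀) (a : j ⟶ k), IsAffineHom (D'.map a) :=
      fun j k a => inferInstanceAs (IsAffineHom (D.map a.left))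
    let F : Over i₀ ⥤ Type u :=
      { obj := fun k => {z : D.obj k.left // (∀ w : D.obj k.left, w ⤳ z → w = z) ∧
          D.map k.hom z ∉ V₀}
        map := fun {j k} f => ↾fun z => ⟨D.map f.left z.1, hsys _ _ f.left z.1 z.2.1, by
          rw [← Scheme.Hom.comp_apply, ← D.map_comp, Over.w f]
          exact z.2.2⟩
        map_id := fun j => by
          ext z : 3
          apply Subtype.ext
          change D.map (𝟙 j.left) z.1 = z.1
          rw [D.map_id]; rfl
        map_comp := fun {i j k} φ ψ => by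
          ext z : 3
          apply Subtype.ext
          change D.map (φ.left ≫ ψ.left) z.1 = D.map ψ.left (D.map φ.left z.1)
          rw [D.map_comp]; rfl }
    have hF1 : ∀ k, Finite (F.obj k) := by
      intro k
      have := (hfin k.left).to_subtype
      exact Finite.of_injective
        (fun z : F.obj k =>
          (⟨z.1, z.2.1⟩ : {s : D.obj k.left | ∀ z : D.obj k.left, z ⤳ s → z = s}))
        (fun a b hab => Subtype.ext (congrArg (fun w => w.1) hab))
    have hF2 : ∀ k, Nonempty (F.obj k) := by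
      intro k
      by_contra hemp
      apply hcon k.left k.hom
      apply dense_of_forall_maximal_mem _ ((D.map k.hom) ⁻¹ᵁ V₀).2
      intro ξ hξ
      by_contra hξV
      exact hemp ⟨⟨ξ, hξ, hξV⟩⟩
    obtain ⟨u, hu⟩ := nonempty_sections_of_finite_cofiltered_system F
    obtain ⟨x, hx⟩ := exists_point_of_compatible D' c' hc' (fun k => (u k).1)
      (fun j k φ => congrArg Subtype.val (hu φ))
    have hxmax : ∀ z : c.pt, z ⤳ x → z = x := by
      apply isMaximalPoint_of_forall_stage D' c' hc' x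
      intro k z hz
      have h1 : c'.π.app k x = (u k).1 := hx k
      rw [h1] at hz ⊢
      exact (u k).2.1 z hz
    have hxV := hV x hxmax
    have h1 : c.π.app i₀ x = (u (Over.mk (𝟙 i₀))).1 := hx (Over.mk (𝟙 i₀))
    have h2 := (u (Over.mk (𝟙 i₀))).2.2
    apply h2
    change D.map (𝟙 i₀) (u (Over.mk (𝟙 i₀))).1 ∈ V₀
    rw [D.map_id, ← h1]
    exact hxV

end Groth.Agent.H5.Lim
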