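import Groth.Agent.Lib.Helper5.Lim.DescendFlat
import Groth.Agent.Lib.Helper5.Lim.DescendSurjective
import Mathlib

set_option autoImplicit false
universe u
open CategoryTheory CategoryTheory.Limits AlgebraicGeometry MorphismProperty Topology

namespace Groth.Agent.H5.Lim

/-- finite, flat, with rank function constant equal to `d` -/
def finFlatDeg (d : ℕ) : MorphismProperty Scheme.{u} :=
  fun _ _ f => IsFinite f ∧ Flat f ∧ ∀ y, f.finrank y = d

instance finFlatDeg_isStableUnderBaseChange (d : ℕ) :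
    (finFlatDeg.{u} d).IsStableUnderBaseChange where
  of_isPullback := by
    intro X Y Y' S f g f' g' sq hg
    obtain ⟨h1, h2, h3⟩ := hg
    have h1' : IsFinite g' := MorphismProperty.of_isPullback (P := @IsFinite) sq h1
    have h2' : Flat g' := MorphismProperty.of_isPullback (P := @Flat) sq h2
    refine ⟨h1', h2', fun y => ?_⟩
    rw [Scheme.Hom.finrank_of_isPullback f' g' g f sq]
    exact h3 _

lemma finFlatDeg_snd_iff (d : ℕ) {X S T : Scheme.{u}} (f : X ⟶ S) [IsFinite f] [Flat f]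
    (a : T ⟶ S) : finFlatDeg d (pullback.snd f a) ↔ ∀ t, f.finrank (a t) = d := by
  constructor
  · rintro ⟨-, -, h⟩ t
    rw [← Scheme.Hom.finrank_pullback_snd]
    exact h t
  · intro h
    refine ⟨inferInstance, inferInstance, fun t => ?_⟩
    rw [Scheme.Hom.finrank_pullback_snd]
    exact h t

end Groth.Agent.H5.Lim

namespace Groth.Agent.H5.Lim

variable {I : Type u} [SmallCategory I] [IsCofiltered I] (D : I ⥤ Scheme.{u}) (c : Cone D)
  (hc : IsLimit c)

include hc in
/-- Descent of "finite flat of constant rank `d`" along a limit, standard form. -/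
theorem exists_descend_core_finFlatDeg [∀ (i j : I) (f : i ⟶ j), IsAffineHom (D.map f)] (i₀ : I)
    {X₀ Y₀ : Scheme.{u}} (f₀ : X₀ ⟶ Y₀) (g₀ : Y₀ ⟶ D.obj i₀) [CompactSpace Y₀]
    [QuasiSeparatedSpace Y₀] [LocallyOfFinitePresentation f₀] [QuasiCompact f₀]
    [QuasiSeparated f₀] (d : ℕ)
    (hP₁ : finFlatDeg d (pullback.snd f₀ (pullback.fst g₀ (c.π.app i₀)))) :
    ∃ k : Over i₀, finFlatDeg d (pullback.snd f₀ (pullback.fst g₀ (D.map k.hom))) := by
  have hDaff : ∀ {i j : I} (f : i ⟶ j), IsAffineHom (D.map f) := fun f => inferInstance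
  have hft : LocallyOfFiniteType f₀ := inferInstance
  obtain ⟨k₁, hk₁⟩ := exists_descend_core D c hc affineSystemDescent_isFinite i₀ f₀ g₀
    ⟨hft, inferInstance, inferInstance⟩ hP₁.1
  obtain ⟨k₂, hk₂⟩ := exists_descend_core D c hc affineSystemDescent_flat i₀ f₀ g₀
    ⟨inferInstance, inferInstance, inferInstance⟩ hP₁.2.1
  let k₃ : Over i₀ := IsCofiltered.min k₁ k₂
  have hfin : IsFinite (pullback.snd f₀ (pullback.fst g₀ (D.map k₃.hom))) :=
    descend_mono (P := @IsFinite) D f₀ g₀ (IsCofiltered.minToLeft k₁ k₂) hk₁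
  have hflat : Flat (pullback.snd f₀ (pullback.fst g₀ (D.map k₃.hom))) :=
    descend_mono (P := @Flat) D f₀ g₀ (IsCofiltered.minToRight k₁ k₂) hk₂
  let e : (bcDiagram D g₀).obj k₃ ⟶ Y₀ := pullback.fst g₀ (D.map k₃.hom)
  let F := pullback.snd f₀ e
  have hF1 : IsFinite F := hfin
  have hF2 : Flat F := hflat
  have hF3 : LocallyOfFinitePresentation F := inferInstance
  have h3 : ∀ (j k : Over i₀) (φ : j ⟶ k), IsAffineHom ((bcDiagram D g₀).map φ) := fun j k φ =>
    isAffineHom_bcMap D g₀ φ (hDaff _)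
  have h1 : CompactSpace ((bcDiagram D g₀).obj k₃) := compactSpace_bcDiagram_obj D g₀ k₃ (hDaff _)
  have h2 : QuasiSeparatedSpace ((bcDiagram D g₀).obj k₃) :=
    quasiSeparatedSpace_bcDiagram_obj D g₀ k₃ (hDaff _)
  let s : Set ((bcDiagram D g₀).obj k₃) := F.finrank ⁻¹' {d}ᶜ
  have hlc : IsLocallyConstant F.finrank := Scheme.Hom.isLocallyConstant_finrank F
  have hso : IsOpen s := hlc _
  have hsc : IsClosed s := by
    rw [← isOpen_compl_iff, ← Set.preimage_compl]
    exact hlc _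
  have hs : IsConstructible s := hsc.isCompact.isConstructible hso
  have hπ : (bcCone D c g₀).π.app k₃ ≫ e = pullback.fst g₀ (c.π.app i₀) := bcProj_fst D c g₀ k₃
  have hP₂ : finFlatDeg d (pullback.snd F ((bcCone D c g₀).π.app k₃)) := by
    rw [← bc_comp_iff (P := finFlatDeg d), bc_congr (P := finFlatDeg d) f₀ hπ]
    exact hP₁
  have hempty : ((bcCone D c g₀).π.app k₃) ⁻¹' s = ∅ := by
    rw [Set.eq_empty_iff_forall_notMem]
    intro y hy
    exact hy ((finFlatDeg_snd_iff d F _).mp hP₂ y)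
  obtain ⟨k₄, hk₄⟩ := exists_preimage_eq_empty_of_isConstructible (bcDiagram D g₀)
    (bcCone D c g₀) (isLimitBcCone D c g₀ hc) k₃ s hs hempty
  refine ⟨k₄.left, ?_⟩
  have hmap : (bcDiagram D g₀).map k₄.hom ≫ e = pullback.fst g₀ (D.map k₄.left.hom) :=
    bcMap_fst D g₀ k₄.hom
  have hfinal : finFlatDeg d (pullback.snd F ((bcDiagram D g₀).map k₄.hom)) := by
    rw [finFlatDeg_snd_iff d F]
    intro t
    by_contra hne
    have : t ∈ ((bcDiagram D g₀).map k₄.hom) ⁻¹' s := hne
    rw [hk₄] at this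
    exact this
  have := (bc_comp_iff (P := finFlatDeg d) f₀ e ((bcDiagram D g₀).map k₄.hom)).mpr hfinal
  exact (bc_congr (P := finFlatDeg d) f₀ hmap).mp this

end Groth.Agent.H5.Lim
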