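import Groth.Agent.Lib.Helper5.Lim.Descend
import Groth.Agent.Lib.Helper5.Lim.DescendConverse
import Groth.Agent.Lib.Helper5.Lim.DescendProps
import Mathlib

set_option autoImplicit false
universe u
open CategoryTheory CategoryTheory.Limits AlgebraicGeometry MorphismProperty

namespace Groth.Agent.H5.Lim

section BC2

variable {P : MorphismProperty Scheme.{u}}

/-- base change of `h ≫ j` with `j` an open immersion -/
lemma bc_comp_openImmersion_iff [P.IsStableUnderBaseChange]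
    (hOI : ∀ {A B C : Scheme.{u}} (φ : A ⟶ B) (ψ : B ⟶ C) [IsOpenImmersion ψ], P φ → P (φ ≫ ψ))
    {W V Y T : Scheme.{u}} (h : W ⟶ V) (j : V ⟶ Y) [IsOpenImmersion j] (b : T ⟶ Y) :
    P (pullback.snd (h ≫ j) b) ↔ P (pullback.snd h (pullback.fst j b)) := by
  have e := pullbackRightPullbackFstIso_hom_snd j b h
  rw [← P.cancel_left_of_respectsIso (pullbackRightPullbackFstIso j b h).hom, e]
  constructor
  · intro H
    exact P.of_postcomp (W' := @IsOpenImmersion) _ (pullback.snd j b) inferInstance H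
  · intro H
    exact hOI _ _ H

/-- reassociating the base of a base change -/
lemma bc_fst_comp_iff [P.IsStableUnderBaseChange] {W V Y S T : Scheme.{u}} (h : W ⟶ V)
    (j : V ⟶ Y) (g₀ : Y ⟶ S) (a : T ⟶ S) :
    P (pullback.snd h (pullback.fst j (pullback.fst g₀ a))) ↔
      P (pullback.snd h (pullback.fst (j ≫ g₀) a)) := by
  have e := pullbackRightPullbackFstIso_hom_fst g₀ a j
  rw [bc_congr (P := P) h e.symm]
  exact bc_iso_iff h _ _

lemma bc_fst_congr {X Y T : Scheme.{u}} {f f' : X ⟶ Y} (e : f = f') (b : T ⟶ Y) :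
    P (pullback.snd f b) ↔ P (pullback.snd f' b) := by
  subst e; rfl

end BC2

end Groth.Agent.H5.Lim

namespace Groth.Agent.H5.Lim

section CoreLocal

variable {I : Type u} [SmallCategory I] [IsCofiltered I] (D : I ⥤ Scheme.{u}) (c : Cone D)
  (hc : IsLimit c)

include hc in
/-- Descent of a source-local property along a limit, when only the source is quasi-compact. -/
theorem exists_descend_core_local {P Φ : MorphismProperty Scheme.{u}} [IsZariskiLocalAtTarget P]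
    [IsZariskiLocalAtSource P]
    [P.IsStableUnderBaseChange] [Φ.IsStableUnderBaseChange] (H : AffineSystemDescent P Φ)
    (hOI : ∀ {A B C : Scheme.{u}} (φ : A ⟶ B) (ψ : B ⟶ C) [IsOpenImmersion ψ], P φ → P (φ ≫ ψ))
    [∀ (i j : I) (f : i ⟶ j), IsAffineHom (D.map f)] (i₀ : I)
    {X₀ Y₀ : Scheme.{u}} (f₀ : X₀ ⟶ Y₀) (g₀ : Y₀ ⟶ D.obj i₀) [CompactSpace X₀]
    (hΦ : ∀ (U₀ : X₀.Opens) (V₀ : Y₀.Opens) (e : U₀ ≤ f₀ ⁻¹ᵁ V₀), IsAffineOpen U₀ →
      IsAffineOpen V₀ → Φ (f₀.resLE V₀ U₀ e))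
    (hP₁ : P (pullback.snd f₀ (pullback.fst g₀ (c.π.app i₀)))) :
    ∃ k : Over i₀, P (pullback.snd f₀ (pullback.fst g₀ (D.map k.hom))) := by
  classical
  have hex : ∀ x : X₀, ∃ (V₀ : Y₀.Opens) (U₀ : X₀.Opens), IsAffineOpen V₀ ∧ IsAffineOpen U₀ ∧
      x ∈ U₀ ∧ U₀ ≤ f₀ ⁻¹ᵁ V₀ := by
    intro x
    obtain ⟨_, ⟨V, hV, rfl⟩, hxV, -⟩ :=
      Y₀.isBasis_affineOpens.exists_subset_of_mem_open (Set.mem_univ (f₀ x)) isOpen_univ
    obtain ⟨_, ⟨U, hU, rfl⟩, hxU, hUV⟩ :=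
      X₀.isBasis_affineOpens.exists_subset_of_mem_open hxV (V.2.preimage f₀.continuous)
    exact ⟨V, U, hV, hU, hxU, hUV⟩
  choose V₀ U₀ hV₀ hU₀ hxU₀ hUV₀ using hex
  obtain ⟨t, ht⟩ := isCompact_univ.elim_finite_subcover (fun x => (U₀ x : Set X₀))
    (fun x => (U₀ x).2) (fun x _ => Set.mem_iUnion.mpr ⟨x, hxU₀ x⟩)
  have hcov : TopologicalSpace.IsOpenCover (fun u : t => U₀ u.1) := by
    rw [TopologicalSpace.IsOpenCover, eq_top_iff]
    intro x _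
    obtain ⟨y, hy⟩ := Set.mem_iUnion.mp (ht (Set.mem_univ x))
    obtain ⟨hyt, hxy⟩ := Set.mem_iUnion.mp hy
    exact TopologicalSpace.Opens.mem_iSup.mpr ⟨⟨y, hyt⟩, hxy⟩
  let 𝒰 : X₀.OpenCover := X₀.openCoverOfIsOpenCover (fun u : t => U₀ u.1) hcov
  -- the key equivalence
  have E : ∀ (u : t) {T : Scheme.{u}} (a : T ⟶ D.obj i₀),
      P (pullback.snd (𝒰.f u ≫ f₀) (pullback.fst g₀ a)) ↔
        P (pullback.snd (f₀.resLE (V₀ u.1) (U₀ u.1) (hUV₀ u.1))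
          (pullback.fst ((V₀ u.1).ι ≫ g₀) a)) := by
    intro u T a
    have e1 : 𝒰.f u ≫ f₀ = f₀.resLE (V₀ u.1) (U₀ u.1) (hUV₀ u.1) ≫ (V₀ u.1).ι :=
      (Scheme.Hom.resLE_comp_ι f₀ (hUV₀ u.1)).symm
    rw [bc_fst_congr (P := P) e1]
    exact (bc_comp_openImmersion_iff hOI _ _ _).trans (bc_fst_comp_iff _ _ _ _)
  have h1 := (bc_source_iff f₀ (pullback.fst g₀ (c.π.app i₀)) 𝒰).mp hP₁
  have key : ∀ u : t, ∃ k : Over i₀, P (pullback.snd (f₀.resLE (V₀ u.1) (U₀ u.1) (hUV₀ u.1))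
      (pullback.fst ((V₀ u.1).ι ≫ g₀) (D.map k.hom))) := by
    intro u
    haveI : IsAffine (V₀ u.1) := hV₀ u.1
    exact exists_descend_core D c hc H i₀ (f₀.resLE (V₀ u.1) (U₀ u.1) (hUV₀ u.1))
      ((V₀ u.1).ι ≫ g₀) (hΦ _ _ _ (hU₀ u.1) (hV₀ u.1)) ((E u _).mp (h1 u))
  choose ku hku using key
  obtain ⟨k, hk⟩ := IsCofiltered.inf_objs_exists (Finset.univ.image ku)
  refine ⟨k, (bc_source_iff f₀ (pullback.fst g₀ (D.map k.hom)) 𝒰).mpr fun (u : t) => ?_⟩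
  refine (E u _).mpr ?_
  exact descend_mono D _ _ (hk (Finset.mem_image_of_mem ku (Finset.mem_univ u))).some (hku u)

end CoreLocal

end Groth.Agent.H5.Lim
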