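import Groth.Agent.Lib.Helper5.Lim.DescendLocal
import Groth.Agent.Lib.Helper5.EtSrc.OfComp

set_option autoImplicit false
universe u
open CategoryTheory CategoryTheory.Limits AlgebraicGeometry MorphismProperty

namespace Groth.Agent.H5.Lim

section Global

variable {I : Type u} [SmallCategory I] [IsCofiltered I] (D : I ⥤ Scheme.{u}) (c : Cone D)
  (hc : IsLimit c)

include hc in
/-- generic global form -/
theorem descend_local_iff {P Φ₀ : MorphismProperty Scheme.{u}} [IsZariskiLocalAtTarget P]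
    [IsZariskiLocalAtSource P] [P.IsStableUnderBaseChange] [Φ₀.IsStableUnderBaseChange]
    [IsZariskiLocalAtTarget Φ₀] [IsZariskiLocalAtSource Φ₀]
    (H : AffineSystemDescent P (Φ₀ ⊓ (@QuasiCompact ⊓ @QuasiSeparated)))
    (hOI : ∀ {A B C : Scheme.{u}} (φ : A ⟶ B) (ψ : B ⟶ C) [IsOpenImmersion ψ], P φ → P (φ ≫ ψ))
    [∀ (i j : I) (f : i ⟶ j), IsAffineHom (D.map f)] (i₀ : I)
    {X₀ Y₀ : Scheme.{u}} (f₀ : X₀ ⟶ Y₀) (g₀ : Y₀ ⟶ D.obj i₀) (hΦ₀ : Φ₀ f₀)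
    [CompactSpace ↥X₀]
    {X Y : Scheme.{u}} (f : X ⟶ Y) (g : Y ⟶ c.pt) (qY : Y ⟶ Y₀) (qX : X ⟶ X₀)
    (hY : IsPullback qY g g₀ (c.π.app i₀)) (hX : IsPullback qX f f₀ qY) :
    P f ↔
      ∃ (j : I) (φ : j ⟶ i₀) (Xj Yj : Scheme.{u}) (fj : Xj ⟶ Yj) (gj : Yj ⟶ D.obj j) (pY : Yj ⟶ Y₀)
        (pX : Xj ⟶ X₀), IsPullback pY gj g₀ (D.map φ) ∧ IsPullback pX fj f₀ pY ∧ P fj := by
  constructor
  · intro hf
    have hΦ : ∀ (U₀ : X₀.Opens) (V₀ : Y₀.Opens) (e : U₀ ≤ f₀ ⁻¹ᵁ V₀), IsAffineOpen U₀ →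
        IsAffineOpen V₀ → (Φ₀ ⊓ (@QuasiCompact ⊓ @QuasiSeparated)) (f₀.resLE V₀ U₀ e) := by
      intro U₀ V₀ e hU₀ hV₀
      haveI : IsAffine U₀ := hU₀
      haveI : IsAffine V₀ := hV₀
      refine ⟨?_, (inferInstance : QuasiCompact _), (inferInstance : QuasiSeparated _)⟩
      exact IsZariskiLocalAtSource.resLE (P := Φ₀) _ hΦ₀
    obtain ⟨k, hk⟩ := exists_descend_core_local D c hc H hOI i₀ f₀ g₀ hΦ
      (descend_in D c f₀ g₀ hY hX hf)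
    exact descend_out D f₀ g₀ k hk
  · intro h
    exact descend_converse D c hY hX h

end Global

end Groth.Agent.H5.Lim

namespace Groth.Agent.H5.Lim

section Inst

variable {I : Type u} [SmallCategory I] [IsCofiltered I] (D : I ⥤ Scheme.{u}) (c : Cone D)
  (hc : IsLimit c)

lemma smooth_comp_openImmersion {A B C : Scheme.{u}} (φ : A ⟶ B) (ψ : B ⟶ C) [IsOpenImmersion ψ]
    (h : Smooth φ) : Smooth (φ ≫ ψ) := inferInstance

lemma etale_comp_openImmersion {A B C : Scheme.{u}} (φ : A ⟶ B) (ψ : B ⟶ C) [IsOpenImmersion ψ]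
    (h : Etale φ) : Etale (φ ≫ ψ) := inferInstance

lemma formallyUnramified_comp_openImmersion {A B C : Scheme.{u}} (φ : A ⟶ B) (ψ : B ⟶ C)
    [IsOpenImmersion ψ] (h : FormallyUnramified φ) : FormallyUnramified (φ ≫ ψ) := by
  haveI : FormallyUnramified ψ := inferInstance
  exact MorphismProperty.comp_mem _ _ _ h ‹_›

include hc in
theorem main5940 [∀ (i j : I) (f : i ⟶ j), IsAffineHom (D.map f)] (i₀ : I)
    {X₀ Y₀ : Scheme.{u}} (f₀ : X₀ ⟶ Y₀) (g₀ : Y₀ ⟶ D.obj i₀)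
    [LocallyOfFinitePresentation g₀] [LocallyOfFinitePresentation (f₀ ≫ g₀)]
    [CompactSpace ↥X₀]
    {X Y : Scheme.{u}} (f : X ⟶ Y) (g : Y ⟶ c.pt) (qY : Y ⟶ Y₀) (qX : X ⟶ X₀)
    (hY : IsPullback qY g g₀ (c.π.app i₀)) (hX : IsPullback qX f f₀ qY) :
    Smooth f ↔
      ∃ (j : I) (φ : j ⟶ i₀) (Xj Yj : Scheme.{u}) (fj : Xj ⟶ Yj) (gj : Yj ⟶ D.obj j) (pY : Yj ⟶ Y₀)
        (pX : Xj ⟶ X₀), IsPullback pY gj g₀ (D.map φ) ∧ IsPullback pX fj f₀ pY ∧ Smooth fj := by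
  have hlfp : LocallyOfFinitePresentation f₀ :=
    Groth.Agent.H5.EtSrc.locallyOfFinitePresentation_of_comp f₀ g₀ inferInstance inferInstance
  exact descend_local_iff D c hc affineSystemDescent_smooth
    (fun φ ψ _ h => smooth_comp_openImmersion φ ψ h) i₀ f₀ g₀ hlfp f g qY qX hY hX

include hc in
theorem main5941 [∀ (i j : I) (f : i ⟶ j), IsAffineHom (D.map f)] (i₀ : I)
    {X₀ Y₀ : Scheme.{u}} (f₀ : X₀ ⟶ Y₀) (g₀ : Y₀ ⟶ D.obj i₀)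
    [LocallyOfFinitePresentation g₀] [LocallyOfFinitePresentation (f₀ ≫ g₀)]
    [CompactSpace ↥X₀]
    {X Y : Scheme.{u}} (f : X ⟶ Y) (g : Y ⟶ c.pt) (qY : Y ⟶ Y₀) (qX : X ⟶ X₀)
    (hY : IsPullback qY g g₀ (c.π.app i₀)) (hX : IsPullback qX f f₀ qY) :
    Etale f ↔
      ∃ (j : I) (φ : j ⟶ i₀) (Xj Yj : Scheme.{u}) (fj : Xj ⟶ Yj) (gj : Yj ⟶ D.obj j) (pY : Yj ⟶ Y₀)
        (pX : Xj ⟶ X₀), IsPullback pY gj g₀ (D.map φ) ∧ IsPullback pX fj f₀ pY ∧ Etale fj := by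
  have hlfp : LocallyOfFinitePresentation f₀ :=
    Groth.Agent.H5.EtSrc.locallyOfFinitePresentation_of_comp f₀ g₀ inferInstance inferInstance
  exact descend_local_iff D c hc affineSystemDescent_etale
    (fun φ ψ _ h => etale_comp_openImmersion φ ψ h) i₀ f₀ g₀ hlfp f g qY qX hY hX

include hc in
theorem main5942 [∀ (i j : I) (f : i ⟶ j), IsAffineHom (D.map f)] (i₀ : I)
    {X₀ Y₀ : Scheme.{u}} (f₀ : X₀ ⟶ Y₀) (g₀ : Y₀ ⟶ D.obj i₀)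
    [LocallyOfFinitePresentation g₀] [LocallyOfFinitePresentation (f₀ ≫ g₀)]
    [CompactSpace ↥X₀]
    {X Y : Scheme.{u}} (f : X ⟶ Y) (g : Y ⟶ c.pt) (qY : Y ⟶ Y₀) (qX : X ⟶ X₀)
    (hY : IsPullback qY g g₀ (c.π.app i₀)) (hX : IsPullback qX f f₀ qY) :
    FormallyUnramified f ↔
      ∃ (j : I) (φ : j ⟶ i₀) (Xj Yj : Scheme.{u}) (fj : Xj ⟶ Yj) (gj : Yj ⟶ D.obj j) (pY : Yj ⟶ Y₀)
        (pX : Xj ⟶ X₀), IsPullback pY gj g₀ (D.map φ) ∧ IsPullback pX fj f₀ pY ∧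
          FormallyUnramified fj := by
  have hlft : LocallyOfFiniteType f₀ := locallyOfFiniteType_of_comp f₀ g₀
  exact descend_local_iff D c hc affineSystemDescent_formallyUnramified
    (fun φ ψ _ h => formallyUnramified_comp_openImmersion φ ψ h) i₀ f₀ g₀ hlft f g qY qX hY hX

end Inst

end Groth.Agent.H5.Lim
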