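import Groth.Agent.Lib.Helper5.Lim.DescendLocal2

set_option autoImplicit false
universe u
open CategoryTheory CategoryTheory.Limits AlgebraicGeometry MorphismProperty

namespace Groth.Agent.H5.Lim

section Nhd

variable {I : Type u} [SmallCategory I] (D : I ⥤ Scheme.{u}) (c : Cone D)

/-- completing a given projection `rX` to a pullback square over a stage -/
lemma exists_isPullback_of_stage' {i₀ : I} {X₀ Y₀ : Scheme.{u}} {f₀ : X₀ ⟶ Y₀}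
    {g₀ : Y₀ ⟶ D.obj i₀}
    {X Y : Scheme.{u}} {f : X ⟶ Y} {g : Y ⟶ c.pt} {qY : Y ⟶ Y₀} {qX : X ⟶ X₀}
    (hY : IsPullback qY g g₀ (c.π.app i₀)) (hX : IsPullback qX f f₀ qY)
    {j : I} {φ : j ⟶ i₀} {Xj Yj : Scheme.{u}} {fj : Xj ⟶ Yj} {gj : Yj ⟶ D.obj j} {pY : Yj ⟶ Y₀}
    {pX : Xj ⟶ X₀} (hYj : IsPullback pY gj g₀ (D.map φ)) (hXj : IsPullback pX fj f₀ pY)
    (rX : X ⟶ Xj) (h1 : rX ≫ pX = qX) (h2 : rX ≫ fj ≫ gj = f ≫ g ≫ c.π.app j) :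
    ∃ (r : Y ⟶ Yj), IsPullback rX f fj r ∧ IsPullback r g gj (c.π.app j) ∧ r ≫ pY = qY ∧
      r ≫ gj = g ≫ c.π.app j := by
  have e1 : qY ≫ g₀ = (g ≫ c.π.app j) ≫ D.map φ := by
    rw [Category.assoc, c.w, hY.w]
  let r : Y ⟶ Yj := hYj.lift qY (g ≫ c.π.app j) e1
  have hr1 : r ≫ pY = qY := hYj.lift_fst _ _ _
  have hr2 : r ≫ gj = g ≫ c.π.app j := hYj.lift_snd _ _ _
  have hs2 : rX ≫ fj = f ≫ r := by
    apply hYj.hom_ext
    · rw [Category.assoc, ← hXj.w, ← Category.assoc, h1, Category.assoc, hr1, hX.w]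
    · rw [Category.assoc, h2, Category.assoc, hr2]
  refine ⟨r, ?_, ?_, hr1, hr2⟩
  · have hbig : IsPullback (rX ≫ pX) f f₀ (r ≫ pY) := by
      rw [h1, hr1]; exact hX
    exact IsPullback.of_right hbig hs2 hXj
  · have hbig : IsPullback (r ≫ pY) g g₀ (c.π.app j ≫ D.map φ) := by
      rw [hr1, c.w]; exact hY
    exact IsPullback.of_right hbig hr2 hYj

/-- the easy direction of the neighbourhood statement -/
lemma nhd_of_stage {P : MorphismProperty Scheme.{u}} [P.IsStableUnderBaseChange]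
    {i₀ : I} {X₀ Y₀ : Scheme.{u}} {f₀ : X₀ ⟶ Y₀} {g₀ : Y₀ ⟶ D.obj i₀}
    {X Y : Scheme.{u}} {f : X ⟶ Y} {g : Y ⟶ c.pt} {qY : Y ⟶ Y₀} {qX : X ⟶ X₀}
    (hY : IsPullback qY g g₀ (c.π.app i₀)) (hX : IsPullback qX f f₀ qY) (x : X)
    (h : ∃ (j : I) (φ : j ⟶ i₀) (Xj Yj : Scheme.{u}) (fj : Xj ⟶ Yj) (gj : Yj ⟶ D.obj j)
      (pY : Yj ⟶ Y₀) (pX : Xj ⟶ X₀) (rX : X ⟶ Xj), IsPullback pY gj g₀ (D.map φ) ∧
        IsPullback pX fj f₀ pY ∧ rX ≫ pX = qX ∧ rX ≫ fj ≫ gj = f ≫ g ≫ c.π.app j ∧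
          ∃ V : Xj.Opens, rX.base x ∈ V ∧ P (V.ι ≫ fj)) :
    ∃ U : X.Opens, x ∈ U ∧ P (U.ι ≫ f) := by
  obtain ⟨j, φ, Xj, Yj, fj, gj, pY, pX, rX, hYj, hXj, h1, h2, V, hxV, hP⟩ := h
  obtain ⟨r, hsq, -, -, -⟩ := exists_isPullback_of_stage' D c hY hX hYj hXj rX h1 h2
  exact ⟨rX ⁻¹ᵁ V, hxV, P.of_isPullback ((isPullback_morphismRestrict rX V).paste_vert hsq) hP⟩

end Nhd

end Groth.Agent.H5.Lim

namespace Groth.Agent.H5.Lim

section Nhd2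

variable {I : Type u} [SmallCategory I] [IsCofiltered I] (D : I ⥤ Scheme.{u}) (c : Cone D)
  (hc : IsLimit c)

include hc in
/-- Step 1: a neighbourhood of `x` in the limit contains the preimage of an affine open of a
finite stage. -/
lemma exists_stage_affineOpen [∀ (i j : I) (f : i ⟶ j), IsAffineHom (D.map f)] {i₀ : I}
    {X₀ : Scheme.{u}} (t : X₀ ⟶ D.obj i₀) {X : Scheme.{u}} (qX : X ⟶ X₀) (s : X ⟶ c.pt)
    (hbig : IsPullback qX s t (c.π.app i₀)) (x : X) (U : X.Opens) (hxU : x ∈ U) :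
    ∃ (j : Over i₀) (rX : X ⟶ pullback t (D.map j.hom)) (W : (pullback t (D.map j.hom)).Opens),
      IsAffineOpen W ∧ rX ≫ pullback.fst t (D.map j.hom) = qX ∧
      rX ≫ pullback.snd t (D.map j.hom) = s ≫ c.π.app j.left ∧ rX.base x ∈ W ∧ rX ⁻¹ᵁ W ≤ U := by
  let e : X ≅ pullback t (c.π.app i₀) := hbig.isoPullback
  have he1 : e.hom ≫ pullback.fst t (c.π.app i₀) = qX := hbig.isoPullback_hom_fst
  have he2 : e.hom ≫ pullback.snd t (c.π.app i₀) = s := hbig.isoPullback_hom_snd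
  haveI : ∀ {j k : Over i₀} (φ : j ⟶ k), IsAffineHom ((bcDiagram D t).map φ) := fun φ =>
    isAffineHom_bcMap D t φ inferInstance
  have hB := isBasis_preimage_isAffineOpen (bcDiagram D t) (bcCone D c t) (isLimitBcCone D c t hc)
  have hx' : e.hom.base x ∈ e.inv ⁻¹ᵁ U := by
    show e.inv.base (e.hom.base x) ∈ U
    rw [← Scheme.Hom.comp_apply, e.hom_inv_id]
    exact hxU
  obtain ⟨_, ⟨j, W, hW, rfl⟩, hxW, hWU⟩ := TopologicalSpace.Opens.isBasis_iff_nbhd.mp hB hx'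
  refine ⟨j, e.hom ≫ bcProj D c t j, W, hW, ?_, ?_, hxW, ?_⟩
  · rw [Category.assoc, bcProj_fst, he1]
  · rw [Category.assoc, bcProj_snd, ← Category.assoc, he2]
  · intro z hz
    have h1 : e.hom.base z ∈ e.inv ⁻¹ᵁ U := hWU hz
    have h2 : e.inv.base (e.hom.base z) ∈ U := h1
    rwa [← Scheme.Hom.comp_apply, e.hom_inv_id] at h2

end Nhd2

end Groth.Agent.H5.Lim

namespace Groth.Agent.H5.Lim

section Nhd3

variable {I : Type u} [SmallCategory I] [IsCofiltered I] (D : I ⥤ Scheme.{u}) (c : Cone D)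
  (hc : IsLimit c)

include hc in
theorem stage_of_nhd {P Φ₀ : MorphismProperty Scheme.{u}} [IsZariskiLocalAtTarget P]
    [IsZariskiLocalAtSource P] [P.IsStableUnderBaseChange] [Φ₀.IsStableUnderBaseChange]
    [IsZariskiLocalAtTarget Φ₀] [IsZariskiLocalAtSource Φ₀]
    (H : AffineSystemDescent P (Φ₀ ⊓ (@QuasiCompact ⊓ @QuasiSeparated)))
    (hOI : ∀ {A B C : Scheme.{u}} (φ : A ⟶ B) (ψ : B ⟶ C) [IsOpenImmersion ψ], P φ → P (φ ≫ ψ))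
    [∀ (i j : I) (f : i ⟶ j), IsAffineHom (D.map f)] (i₀ : I)
    {X₀ Y₀ : Scheme.{u}} (f₀ : X₀ ⟶ Y₀) (g₀ : Y₀ ⟶ D.obj i₀) (hΦ₀ : Φ₀ f₀)
    {X Y : Scheme.{u}} (f : X ⟶ Y) (g : Y ⟶ c.pt) (qY : Y ⟶ Y₀) (qX : X ⟶ X₀)
    (hY : IsPullback qY g g₀ (c.π.app i₀)) (hX : IsPullback qX f f₀ qY) (x : X)
    (h : ∃ U : X.Opens, x ∈ U ∧ P (U.ι ≫ f)) :
    ∃ (j : I) (φ : j ⟶ i₀) (Xj Yj : Scheme.{u}) (fj : Xj ⟶ Yj) (gj : Yj ⟶ D.obj j)
      (pY : Yj ⟶ Y₀) (pX : Xj ⟶ X₀) (rX : X ⟶ Xj), IsPullback pY gj g₀ (D.map φ) ∧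
        IsPullback pX fj f₀ pY ∧ rX ≫ pX = qX ∧ rX ≫ fj ≫ gj = f ≫ g ≫ c.π.app j ∧
          ∃ V : Xj.Opens, rX.base x ∈ V ∧ P (V.ι ≫ fj) := by
  obtain ⟨U, hxU, hPU⟩ := h
  -- Step 1
  obtain ⟨j, rXj, W, hW, hr1, hr2, hxW, hWU⟩ := exists_stage_affineOpen D c hc (f₀ ≫ g₀) qX (f ≫ g)
    (hX.paste_vert hY) x U hxU
  -- stage `j` data
  have hYj : IsPullback (pullback.fst g₀ (D.map j.hom)) (pullback.snd g₀ (D.map j.hom)) g₀
      (D.map j.hom) := IsPullback.of_hasPullback _ _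
  let fj : pullback (f₀ ≫ g₀) (D.map j.hom) ⟶ pullback g₀ (D.map j.hom) :=
    pullback.lift (pullback.fst _ _ ≫ f₀) (pullback.snd _ _)
      (by rw [Category.assoc, pullback.condition])
  have hfj1 : fj ≫ pullback.fst g₀ (D.map j.hom) = pullback.fst _ _ ≫ f₀ := pullback.lift_fst _ _ _
  have hfj2 : fj ≫ pullback.snd g₀ (D.map j.hom) = pullback.snd _ _ := pullback.lift_snd _ _ _
  have hXj : IsPullback (pullback.fst (f₀ ≫ g₀) (D.map j.hom)) fj f₀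
      (pullback.fst g₀ (D.map j.hom)) := by
    refine IsPullback.of_bot ?_ hfj1.symm hYj
    rw [hfj2]
    exact IsPullback.of_hasPullback _ _
  have hr2' : rXj ≫ fj ≫ pullback.snd g₀ (D.map j.hom) = f ≫ g ≫ c.π.app j.left := by
    rw [hfj2, hr2, Category.assoc]
  obtain ⟨r, hsq, hY', hrY1, hrY2⟩ := exists_isPullback_of_stage' D c hY hX hYj hXj rXj hr1 hr2'
  -- new base data over stage `j`
  haveI : IsAffine W := hW
  have hΦj : Φ₀ fj := Φ₀.of_isPullback hXj hΦ₀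
  have hΦW : Φ₀ (W.ι ≫ fj) := IsZariskiLocalAtSource.comp hΦj _
  have hX' : IsPullback (rXj ∣_ W) ((rXj ⁻¹ᵁ W).ι ≫ f) (W.ι ≫ fj) r :=
    (isPullback_morphismRestrict rXj W).paste_vert hsq
  have hPf' : P ((rXj ⁻¹ᵁ W).ι ≫ f) := by
    have : (rXj ⁻¹ᵁ W).ι = X.homOfLE hWU ≫ U.ι := (X.homOfLE_ι hWU).symm
    rw [this, Category.assoc]
    exact IsZariskiLocalAtSource.comp hPU _
  obtain ⟨k, φ', X'k, Y'k, f'k, g'k, pY', pX', hY'k, hX'k, hPk⟩ :=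
    (descend_local_iff D c hc H hOI j.left (W.ι ≫ fj) (pullback.snd g₀ (D.map j.hom)) hΦW
      ((rXj ⁻¹ᵁ W).ι ≫ f) g r (rXj ∣_ W) hY' hX').mp hPf'
  -- assemble
  have hYk : IsPullback (pY' ≫ pullback.fst g₀ (D.map j.hom)) g'k g₀ (D.map (φ' ≫ j.hom)) := by
    rw [D.map_comp]
    exact hY'k.paste_horiz hYj
  have hXk : IsPullback (pullback.fst fj pY' ≫ pullback.fst (f₀ ≫ g₀) (D.map j.hom))
      (pullback.snd fj pY') f₀ (pY' ≫ pullback.fst g₀ (D.map j.hom)) :=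
    (IsPullback.of_hasPullback fj pY').paste_horiz hXj
  have e3 : r ≫ pullback.snd g₀ (D.map j.hom) = (g ≫ c.π.app k) ≫ D.map φ' := by
    rw [hrY2, Category.assoc, c.w]
  let rY' : Y ⟶ Y'k := hY'k.lift r (g ≫ c.π.app k) e3
  have hrY'1 : rY' ≫ pY' = r := hY'k.lift_fst _ _ _
  have hrY'2 : rY' ≫ g'k = g ≫ c.π.app k := hY'k.lift_snd _ _ _
  have e4 : rXj ≫ fj = (f ≫ rY') ≫ pY' := by
    rw [Category.assoc, hrY'1, hsq.w]
  let rX : X ⟶ pullback fj pY' := pullback.lift rXj (f ≫ rY') e4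
  have hrX1 : rX ≫ pullback.fst fj pY' = rXj := pullback.lift_fst _ _ _
  have hrX2 : rX ≫ pullback.snd fj pY' = f ≫ rY' := pullback.lift_snd _ _ _
  refine ⟨k, φ' ≫ j.hom, pullback fj pY', Y'k, pullback.snd fj pY', g'k,
    pY' ≫ pullback.fst g₀ (D.map j.hom),
    pullback.fst fj pY' ≫ pullback.fst (f₀ ≫ g₀) (D.map j.hom), rX, hYk, hXk, ?_, ?_,
    (pullback.fst fj pY') ⁻¹ᵁ W, ?_, ?_⟩
  · rw [← Category.assoc, hrX1, hr1]
  · rw [← Category.assoc, hrX2, Category.assoc, hrY'2]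
  · show (pullback.fst fj pY').base (rX.base x) ∈ W
    rw [← Scheme.Hom.comp_apply, hrX1]
    exact hxW
  · have hV : IsPullback (pullback.fst fj pY' ∣_ W)
        (((pullback.fst fj pY') ⁻¹ᵁ W).ι ≫ pullback.snd fj pY') (W.ι ≫ fj) pY' :=
      (isPullback_morphismRestrict (pullback.fst fj pY') W).paste_vert
        (IsPullback.of_hasPullback fj pY')
    have := hV.isoIsPullback_hom_snd _ _ hX'k
    rw [← this]
    exact (P.cancel_left_of_respectsIso _ _).mpr hPk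

end Nhd3

end Groth.Agent.H5.Lim

namespace Groth.Agent.H5.Lim

section Inst2

variable {I : Type u} [SmallCategory I] [IsCofiltered I] (D : I ⥤ Scheme.{u}) (c : Cone D)
  (hc : IsLimit c)

include hc in
theorem main5943 [∀ (i j : I) (f : i ⟶ j), IsAffineHom (D.map f)] (i₀ : I)
    {X₀ Y₀ : Scheme.{u}} (f₀ : X₀ ⟶ Y₀) (g₀ : Y₀ ⟶ D.obj i₀)
    [LocallyOfFinitePresentation g₀] [LocallyOfFinitePresentation (f₀ ≫ g₀)]
    {X Y : Scheme.{u}} (f : X ⟶ Y) (g : Y ⟶ c.pt) (qY : Y ⟶ Y₀) (qX : X ⟶ X₀)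
    (hY : IsPullback qY g g₀ (c.π.app i₀)) (hX : IsPullback qX f f₀ qY) (x : ↥X) :
    (∃ U : X.Opens, x ∈ U ∧ Smooth (U.ι ≫ f)) ↔
      ∃ (j : I) (φ : j ⟶ i₀) (Xj Yj : Scheme.{u}) (fj : Xj ⟶ Yj) (gj : Yj ⟶ D.obj j) (pY : Yj ⟶ Y₀)
        (pX : Xj ⟶ X₀) (rX : X ⟶ Xj), IsPullback pY gj g₀ (D.map φ) ∧ IsPullback pX fj f₀ pY ∧
          rX ≫ pX = qX ∧ rX ≫ fj ≫ gj = f ≫ g ≫ c.π.app j ∧
            ∃ V : Xj.Opens, rX.base x ∈ V ∧ Smooth (V.ι ≫ fj) := by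
  have hlfp : LocallyOfFinitePresentation f₀ :=
    Groth.Agent.H5.EtSrc.locallyOfFinitePresentation_of_comp f₀ g₀ inferInstance inferInstance
  exact ⟨stage_of_nhd D c hc affineSystemDescent_smooth
    (fun φ ψ _ h => smooth_comp_openImmersion φ ψ h) i₀ f₀ g₀ hlfp f g qY qX hY hX x,
    nhd_of_stage (P := @Smooth) D c hY hX x⟩

include hc in
theorem main5944 [∀ (i j : I) (f : i ⟶ j), IsAffineHom (D.map f)] (i₀ : I)
    {X₀ Y₀ : Scheme.{u}} (f₀ : X₀ ⟶ Y₀) (g₀ : Y₀ ⟶ D.obj i₀)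
    [LocallyOfFinitePresentation g₀] [LocallyOfFinitePresentation (f₀ ≫ g₀)]
    {X Y : Scheme.{u}} (f : X ⟶ Y) (g : Y ⟶ c.pt) (qY : Y ⟶ Y₀) (qX : X ⟶ X₀)
    (hY : IsPullback qY g g₀ (c.π.app i₀)) (hX : IsPullback qX f f₀ qY) (x : ↥X) :
    (∃ U : X.Opens, x ∈ U ∧ Etale (U.ι ≫ f)) ↔
      ∃ (j : I) (φ : j ⟶ i₀) (Xj Yj : Scheme.{u}) (fj : Xj ⟶ Yj) (gj : Yj ⟶ D.obj j) (pY : Yj ⟶ Y₀)
        (pX : Xj ⟶ X₀) (rX : X ⟶ Xj), IsPullback pY gj g₀ (D.map φ) ∧ IsPullback pX fj f₀ pY ∧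
          rX ≫ pX = qX ∧ rX ≫ fj ≫ gj = f ≫ g ≫ c.π.app j ∧
            ∃ V : Xj.Opens, rX.base x ∈ V ∧ Etale (V.ι ≫ fj) := by
  have hlfp : LocallyOfFinitePresentation f₀ :=
    Groth.Agent.H5.EtSrc.locallyOfFinitePresentation_of_comp f₀ g₀ inferInstance inferInstance
  exact ⟨stage_of_nhd D c hc affineSystemDescent_etale
    (fun φ ψ _ h => etale_comp_openImmersion φ ψ h) i₀ f₀ g₀ hlfp f g qY qX hY hX x,
    nhd_of_stage (P := @Etale) D c hY hX x⟩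

include hc in
theorem main5945 [∀ (i j : I) (f : i ⟶ j), IsAffineHom (D.map f)] (i₀ : I)
    {X₀ Y₀ : Scheme.{u}} (f₀ : X₀ ⟶ Y₀) (g₀ : Y₀ ⟶ D.obj i₀)
    [LocallyOfFinitePresentation g₀] [LocallyOfFinitePresentation (f₀ ≫ g₀)]
    {X Y : Scheme.{u}} (f : X ⟶ Y) (g : Y ⟶ c.pt) (qY : Y ⟶ Y₀) (qX : X ⟶ X₀)
    (hY : IsPullback qY g g₀ (c.π.app i₀)) (hX : IsPullback qX f f₀ qY) (x : ↥X) :
    (∃ U : X.Opens, x ∈ U ∧ FormallyUnramified (U.ι ≫ f)) ↔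
      ∃ (j : I) (φ : j ⟶ i₀) (Xj Yj : Scheme.{u}) (fj : Xj ⟶ Yj) (gj : Yj ⟶ D.obj j) (pY : Yj ⟶ Y₀)
        (pX : Xj ⟶ X₀) (rX : X ⟶ Xj), IsPullback pY gj g₀ (D.map φ) ∧ IsPullback pX fj f₀ pY ∧
          rX ≫ pX = qX ∧ rX ≫ fj ≫ gj = f ≫ g ≫ c.π.app j ∧
            ∃ V : Xj.Opens, rX.base x ∈ V ∧ FormallyUnramified (V.ι ≫ fj) := by
  have hlft : LocallyOfFiniteType f₀ := locallyOfFiniteType_of_comp f₀ g₀
  exact ⟨stage_of_nhd D c hc affineSystemDescent_formallyUnramified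
    (fun φ ψ _ h => formallyUnramified_comp_openImmersion φ ψ h) i₀ f₀ g₀ hlft f g qY qX hY hX x,
    nhd_of_stage (P := @FormallyUnramified) D c hY hX x⟩

end Inst2

end Groth.Agent.H5.Lim
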