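import Groth.Agent.Lib.Helper5.Lim.ProConsFlat
import Mathlib

set_option autoImplicit false
universe u
open CategoryTheory CategoryTheory.Limits AlgebraicGeometry Topology
open Groth.Agent.H2.ConsTop Groth.Agent.H2.ProConsLib
open scoped Set.Notation

namespace Groth.Agent.H5.Lim

/-- Dominance of a base change along a flat morphism, in terms of the closure of the image of the
original (quasi-compact) morphism. -/
theorem isDominant_iff_preimage_compl_closure_eq_empty {X X₀ Y Y₀ : Scheme.{u}}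
    {qX : X ⟶ X₀} {f : X ⟶ Y} {f₀ : X₀ ⟶ Y₀} {qY : Y ⟶ Y₀} (hX : IsPullback qX f f₀ qY)
    [Flat qY] [QuasiCompact f₀] :
    IsDominant f ↔ qY ⁻¹' (closure (Set.range f₀))ᶜ = ∅ := by
  have hr : Set.range f = qY ⁻¹' Set.range f₀ := by
    have := Scheme.image_preimage_eq_of_isPullback hX Set.univ
    simpa using this
  have hcl : closure (Set.range f) = qY ⁻¹' closure (Set.range f₀) := by
    rw [hr]
    exact closure_preimage_eq_of_flat qY (isProConstructible_range f₀)
  rw [isDominant_iff, DenseRange, dense_iff_closure_eq, hcl, Set.preimage_compl,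
    Set.compl_empty_iff]

variable {I : Type u} [SmallCategory I] [IsCofiltered I] (D : I ⥤ Scheme.{u}) (c : Cone D)
  (hc : IsLimit c)

include hc in
/-- EGA IV 8.3.11-type statement: dominance is detected at a finite stage for flat transition maps,
when the closure of the image is constructible. -/
theorem isDominant_iff_eventually_of_flat
    [∀ (i j : I) (f : i ⟶ j), IsAffineHom (D.map f)] (i₀ : I) [CompactSpace (D.obj i₀)]
    (hfl : ∀ (i j : I) (φ : i ⟶ j), Flat (D.map φ))
    {X₀ Y₀ : Scheme.{u}} (f₀ : X₀ ⟶ Y₀) (g₀ : Y₀ ⟶ D.obj i₀)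
    [QuasiCompact (f₀ ≫ g₀)] [QuasiCompact g₀] [QuasiSeparated g₀]
    (hcl : Topology.IsConstructible (closure (Set.range ⇑f₀)))
    {X Y : Scheme.{u}} (f : X ⟶ Y) (g : Y ⟶ c.pt) (qY : Y ⟶ Y₀) (qX : X ⟶ X₀)
    (hY : IsPullback qY g g₀ (c.π.app i₀)) (hX : IsPullback qX f f₀ qY) :
    IsDominant f ↔ ∃ (j : I) (φ : j ⟶ i₀) (Xj Yj : Scheme.{u}) (fj : Xj ⟶ Yj) (gj : Yj ⟶ D.obj j)
      (pY : Yj ⟶ Y₀) (pX : Xj ⟶ X₀), IsPullback pY gj g₀ (D.map φ) ∧ IsPullback pX fj f₀ pY ∧
      IsDominant fj := by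
  have hqc : QuasiCompact f₀ := QuasiCompact.of_comp f₀ g₀
  have hπ : Flat (c.π.app i₀) := flat_π_app D c hc i₀ (fun j φ => hfl j i₀ φ)
  have hqY : Flat qY := MorphismProperty.of_isPullback (P := @Flat) hY.flip hπ
  let T : Set Y₀ := (closure (Set.range f₀))ᶜ
  have hT : ProCons.IsProConstructible T :=
    (isLocallyConstructible_iff.mp hcl.compl.isLocallyConstructible).2
  have hgT : ProCons.IsProConstructible (g₀ '' T) := isProConstructible_image g₀ hT
  have hempty : ProCons.IsIndConstructible (∅ : Set (D.obj i₀)) :=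
    isIndConstructible_of_isOpen isOpen_empty
  have key := preimage_subset_preimage_iff_exists D c hc i₀ (g₀ '' T) ∅ hgT hempty
  -- general translation for a pullback square over a map into `D.obj i₀`
  have trans : ∀ {Y' S' : Scheme.{u}} (p : Y' ⟶ Y₀) (g' : Y' ⟶ S') (a : S' ⟶ D.obj i₀),
      IsPullback p g' g₀ a → (p ⁻¹' T = ∅ ↔ a ⁻¹' (g₀ '' T) ⊆ a ⁻¹' (∅ : Set (D.obj i₀))) := by
    intro Y' S' p g' a h
    constructor
    · rintro he z ⟨t, ht, hz⟩
      obtain ⟨y, hy1, hy2⟩ := Scheme.exists_preimage_of_isPullback h t z hz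
      have : y ∈ p ⁻¹' T := by change p y ∈ T; rw [hy1]; exact ht
      rw [he] at this
      exact this.elim
    · intro hsub
      rw [Set.eq_empty_iff_forall_notMem]
      intro y hy
      have h1 : g' y ∈ a ⁻¹' (g₀ '' T) := by
        refine ⟨p y, hy, ?_⟩
        rw [← Scheme.Hom.comp_apply, ← Scheme.Hom.comp_apply, h.w]
      exact hsub h1
  rw [isDominant_iff_preimage_compl_closure_eq_empty hX, trans qY g (c.π.app i₀) hY, key]
  constructor
  · rintro ⟨j, φ, h⟩
    have hφ : Flat (D.map φ) := hfl j i₀ φ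
    have hpb : IsPullback (pullback.fst g₀ (D.map φ)) (pullback.snd g₀ (D.map φ)) g₀ (D.map φ) :=
      IsPullback.of_hasPullback _ _
    have hpb' : IsPullback (pullback.fst f₀ (pullback.fst g₀ (D.map φ)))
        (pullback.snd f₀ (pullback.fst g₀ (D.map φ))) f₀ (pullback.fst g₀ (D.map φ)) :=
      IsPullback.of_hasPullback _ _
    have hpY : Flat (pullback.fst g₀ (D.map φ)) :=
      MorphismProperty.of_isPullback (P := @Flat) hpb.flip hφ
    refine ⟨j, φ, _, _, _, _, _, _, hpb, hpb', ?_⟩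
    rw [isDominant_iff_preimage_compl_closure_eq_empty hpb', trans _ _ _ hpb]
    exact h
  · rintro ⟨j, φ, Xj, Yj, fj, gj, pY, pX, hpb, hpb', hdom⟩
    have hφ : Flat (D.map φ) := hfl j i₀ φ
    have hpY : Flat pY := MorphismProperty.of_isPullback (P := @Flat) hpb.flip hφ
    refine ⟨j, φ, ?_⟩
    rw [isDominant_iff_preimage_compl_closure_eq_empty hpb', trans _ _ _ hpb] at hdom
    exact hdom

end Groth.Agent.H5.Lim
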