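import Groth.Agent.Lib.Helper5.Lim.IrredComponents
import Groth.Agent.Lib.Helper5.Lim.ConnComponents
import Mathlib

set_option autoImplicit false
universe u
open CategoryTheory CategoryTheory.Limits AlgebraicGeometry Topology

namespace Groth.Agent.H5.Lim

variable {I : Type u} [SmallCategory I] [IsCofiltered I] (D : I ⥤ Scheme.{u})

/-- In a cofiltered system of schemes whose transition maps are inducing, with a stage with
Noetherian underlying space, the transition maps are eventually dominant. -/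
theorem eventually_isDominant_of_isInducing (i₀ : I)
    [TopologicalSpace.NoetherianSpace (D.obj i₀)]
    (he : ∀ (i j : I) (φ : i ⟶ j), Topology.IsInducing ⇑(D.map φ)) :
    ∃ k₁ : Over i₀, ∀ (j j' : I) (_ : j ⟶ k₁.left) (b : j' ⟶ j), IsDominant (D.map b) := by
  classical
  let C : Over i₀ → TopologicalSpace.Closeds (D.obj i₀) := fun k =>
    ⟨closure (Set.range (D.map k.hom)), isClosed_closure⟩
  have hmono : ∀ (k k' : Over i₀) (_ : k' ⟶ k), C k' ≤ C k := by
    intro k k' a
    change closure (Set.range (D.map k'.hom)) ⊆ closure (Set.range (D.map k.hom))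
    apply closure_mono
    rintro _ ⟨x, rfl⟩
    refine ⟨D.map a.left x, ?_⟩
    rw [← Scheme.Hom.comp_apply, ← D.map_comp, Over.w a]
  obtain ⟨_, ⟨k₁, rfl⟩, hmin⟩ := wellFounded_lt.has_min (Set.range C) ⟨_, ⟨Over.mk (𝟙 i₀), rfl⟩⟩
  have hstab : ∀ (k : Over i₀) (_ : k ⟶ k₁), C k = C k₁ := by
    intro k a
    by_contra hne
    exact hmin (C k) ⟨k, rfl⟩ (lt_of_le_of_ne (hmono k₁ k a) hne)
  refine ⟨k₁, fun j j' a b => ⟨?_⟩⟩
  let kj : Over i₀ := Over.mk (a ≫ k₁.hom)
  let kj' : Over i₀ := Over.mk (b ≫ a ≫ k₁.hom)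
  have h1 : C kj = C k₁ := hstab kj (Over.homMk a rfl)
  have h2 : C kj' = C k₁ := hstab kj' (Over.homMk (b ≫ a) (by simp [kj']))
  have h3 : closure (Set.range (D.map (b ≫ a ≫ k₁.hom))) =
      closure (Set.range (D.map (a ≫ k₁.hom))) :=
    congrArg (fun Z : TopologicalSpace.Closeds (D.obj i₀) => (Z : Set (D.obj i₀))) (h2.trans h1.symm)
  have hind := he j i₀ (a ≫ k₁.hom)
  rw [DenseRange, dense_iff_closure_eq, hind.closure_eq_preimage_closure_image]
  have h4 : (D.map (a ≫ k₁.hom)) '' Set.range (D.map b) = Set.range (D.map (b ≫ a ≫ k₁.hom)) := by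
    rw [← Set.range_comp]
    congr 1
    ext x
    rw [D.map_comp b, Scheme.Hom.comp_apply]
    rfl
  rw [h4, h3]
  ext x
  simp only [Set.mem_preimage, Set.mem_univ, iff_true]
  exact subset_closure ⟨x, rfl⟩

variable (c : Cone D) (hc : IsLimit c)

include hc in
/-- EGA IV 8.4.2 for systems that are eventually dominant (irreducible components). -/
theorem eventually_bijOn_irreducibleComponents_of_eventually_dominant
    [∀ (i j : I) (f : i ⟶ j), IsAffineHom (D.map f)] (i₀ : I)
    [TopologicalSpace.NoetherianSpace c.pt] (k₁ : Over i₀)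
    (hd : ∀ (j j' : I) (_ : j ⟶ k₁.left) (b : j' ⟶ j), IsDominant (D.map b)) :
    ∃ (i : I) (_ : i ⟶ i₀), ∀ (j : I) (_ : j ⟶ i),
      Set.BijOn (fun Y : Set c.pt => closure ((c.π.app j) '' Y))
        (irreducibleComponents c.pt) (irreducibleComponents (D.obj j)) := by
  let i₁ := k₁.left
  let D' : Over i₁ ⥤ Scheme.{u} := Over.forget i₁ ⋙ D
  let c' : Cone D' := c.whisker (Over.forget i₁)
  have hc' : IsLimit c' := (Functor.Initial.isLimitWhiskerEquiv (Over.forget i₁) c).symm hc
  have haff : ∀ (j k : Over i₁) (a : j ⟶ k), IsAffineHom (D'.map a) :=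
    fun j k a => inferInstanceAs (IsAffineHom (D.map a.left))
  have hN : TopologicalSpace.NoetherianSpace c'.pt :=
    inferInstanceAs (TopologicalSpace.NoetherianSpace c.pt)
  have hd' : ∀ (j k : Over i₁) (a : j ⟶ k), IsDominant (D'.map a) :=
    fun j k a => hd k.left j.left k.hom a.left
  obtain ⟨k, hk⟩ := eventually_bijOn_irreducibleComponents D' c' hc' (Over.mk (𝟙 i₁)) hd'
  refine ⟨k.left.left, k.left.hom ≫ k₁.hom, fun j ψ => ?_⟩
  exact hk (Over.mk (ψ ≫ k.left.hom)) (Over.homMk ψ rfl)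

include hc in
/-- EGA IV 8.4.2 for systems that are eventually dominant (connected components). -/
theorem eventually_bijOn_connectedComponents_of_eventually_dominant
    [∀ (i j : I) (f : i ⟶ j), IsAffineHom (D.map f)] (i₀ : I) [CompactSpace (D.obj i₀)]
    [TopologicalSpace.NoetherianSpace c.pt] (k₁ : Over i₀)
    (hd : ∀ (j j' : I) (_ : j ⟶ k₁.left) (b : j' ⟶ j), IsDominant (D.map b)) :
    ∃ (i : I) (_ : i ⟶ i₀), ∀ (j : I) (_ : j ⟶ i),
      Set.BijOn (fun Y : Set c.pt => closure ((c.π.app j) '' Y))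
        (Set.range (connectedComponent : c.pt → Set c.pt))
        (Set.range (connectedComponent : D.obj j → Set (D.obj j))) := by
  let i₁ := k₁.left
  let D' : Over i₁ ⥤ Scheme.{u} := Over.forget i₁ ⋙ D
  let c' : Cone D' := c.whisker (Over.forget i₁)
  have hc' : IsLimit c' := (Functor.Initial.isLimitWhiskerEquiv (Over.forget i₁) c).symm hc
  have haff : ∀ (j k : Over i₁) (a : j ⟶ k), IsAffineHom (D'.map a) :=
    fun j k a => inferInstanceAs (IsAffineHom (D.map a.left))
  have hN : TopologicalSpace.NoetherianSpace c'.pt :=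
    inferInstanceAs (TopologicalSpace.NoetherianSpace c.pt)
  have hd' : ∀ (j k : Over i₁) (a : j ⟶ k), IsDominant (D'.map a) :=
    fun j k a => hd k.left j.left k.hom a.left
  have hcomp : CompactSpace (D'.obj (Over.mk (𝟙 i₁))) :=
    QuasiCompact.compactSpace_of_compactSpace (D.map k₁.hom)
  obtain ⟨k, φk, hk⟩ := eventually_bijOn_connectedComponents D' c' hc' (Over.mk (𝟙 i₁)) hd'
  refine ⟨k.left, k.hom ≫ k₁.hom, fun j ψ => ?_⟩
  exact hk (Over.mk (ψ ≫ k.hom)) (Over.homMk ψ rfl)

end Groth.Agent.H5.Lim
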