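import Groth.Agent.Lib.Helper5.Lim.QuotUnder
import Mathlib.RingTheory.MvPolynomial.Basic
import Mathlib.Algebra.MvPolynomial.Supported

set_option autoImplicit false
universe u
open CategoryTheory CategoryTheory.Limits Opposite

namespace Groth.Agent.H5.FPColim

noncomputable section

variable (R A : Type u) [CommRing R] [CommRing A] [Algebra R A]

/-- the big polynomial ring -/
abbrev P : Type u := MvPolynomial A R

/-- the tautological surjection -/
noncomputable def π : P R A →ₐ[R] A := MvPolynomial.aeval id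

lemma π_X (a : A) : π R A (MvPolynomial.X a) = a := by simp [π]

/-- index: finite sets of variables and finite sets of relations in those variables -/
def Idx : Type u :=
  {p : Finset A × Finset (P R A) //
    ∀ q ∈ p.2, q ∈ MvPolynomial.supported R (p.1 : Set A) ∧ π R A q = 0}

instance : Preorder (Idx R A) := Subtype.preorder _

instance : Nonempty (Idx R A) := ⟨⟨(∅, ∅), by simp⟩⟩

instance : IsDirected (Idx R A) (· ≤ ·) := by
  classical
  refine ⟨fun a b => ⟨⟨(a.1.1 ∪ b.1.1, a.1.2 ∪ b.1.2), ?_⟩, ?_, ?_⟩⟩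
  · intro q hq
    rcases Finset.mem_union.1 hq with h | h
    · exact ⟨MvPolynomial.supported_mono (by simp) (a.2 q h).1, (a.2 q h).2⟩
    · exact ⟨MvPolynomial.supported_mono (by simp) (b.2 q h).1, (b.2 q h).2⟩
  · exact ⟨Finset.subset_union_left, Finset.subset_union_left⟩
  · exact ⟨Finset.subset_union_right, Finset.subset_union_right⟩

variable {R A}

/-- the subalgebra of polynomials in the chosen variables -/
abbrev Sub (i : Idx R A) : Subalgebra R (P R A) := MvPolynomial.supported R (i.1.1 : Set A)

/-- the ideal of relations -/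
def rel (i : Idx R A) : Ideal (Sub i) := Ideal.span {x : Sub i | (x : P R A) ∈ i.1.2}

lemma rel_fg (i : Idx R A) : (rel i).FG :=
  Submodule.fg_span (Set.Finite.preimage Subtype.val_injective.injOn i.1.2.finite_toSet)

lemma sub_le {i j : Idx R A} (h : i ≤ j) : Sub i ≤ Sub j :=
  MvPolynomial.supported_mono (Finset.coe_subset.2 h.1)

/-- inclusion of subalgebras -/
def incl {i j : Idx R A} (h : i ≤ j) : Sub i →ₐ[R] Sub j := Subalgebra.inclusion (sub_le h)

lemma coe_incl {i j : Idx R A} (h : i ≤ j) (x : Sub i) :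
    ((incl h x : Sub j) : P R A) = (x : P R A) :=
  Subalgebra.coe_inclusion _ _

lemma incl_refl (i : Idx R A) (x : Sub i) : incl (le_refl i) x = x :=
  Subtype.ext (coe_incl _ _)

lemma incl_incl {i j k : Idx R A} (h : i ≤ j) (h' : j ≤ k) (x : Sub i) :
    incl h' (incl h x) = incl (h.trans h') x :=
  Subtype.ext (by rw [coe_incl h', coe_incl h, coe_incl (h.trans h')])

lemma rel_le {i j : Idx R A} (h : i ≤ j) :
    rel i ≤ (rel j).comap (incl h).toRingHom := by
  refine Ideal.span_le.2 ?_
  intro x hx
  have hx' : (x : P R A) ∈ i.1.2 := hx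
  have h2 : ((incl h x : Sub j) : P R A) ∈ j.1.2 := by
    rw [coe_incl h]
    exact h.2 hx'
  rw [SetLike.mem_coe, Ideal.mem_comap, AlgHom.toRingHom_eq_coe, RingHom.coe_coe]
  exact Ideal.subset_span h2

/-- restriction of `π` -/
def πSub (i : Idx R A) : Sub i →ₐ[R] A := (π R A).comp (Sub i).val

lemma πSub_apply (i : Idx R A) (x : Sub i) : πSub i x = π R A (x : P R A) := rfl

lemma πSub_incl {i j : Idx R A} (h : i ≤ j) (x : Sub i) : πSub j (incl h x) = πSub i x := by
  rw [πSub_apply, πSub_apply, coe_incl h]

lemma πSub_eq_zero_of_mem_rel (i : Idx R A) (x : Sub i) (hx : x ∈ rel i) : πSub i x = 0 := by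
  have hx' : x ∈ Ideal.span {x : Sub i | (x : P R A) ∈ i.1.2} := hx
  clear hx
  induction hx' using Submodule.span_induction with
  | mem y hy => exact (i.2 _ hy).2
  | zero => simp
  | add y z _ _ hy hz => rw [map_add, hy, hz, add_zero]
  | smul a y _ hy => rw [smul_eq_mul, map_mul, hy, mul_zero]

variable (R A)

/-- the diagram of f.p. algebras -/
def diagram : Idx R A ⥤ Under (CommRingCat.of R) where
  obj i := qObj R (Sub i) (rel i)
  map {i j} h := qMap (rel i) (rel j) (incl (leOfHom h)) (rel_le (leOfHom h))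
  map_id i := by
    apply q_hom_ext
    intro x
    rw [qMap_qmk, incl_refl]
    rfl
  map_comp {i j k} h h' := by
    apply q_hom_ext
    intro x
    rw [Under.comp_right, CommRingCat.hom_comp, RingHom.comp_apply, qMap_qmk, qMap_qmk, qMap_qmk,
      incl_incl]

def cocone : Cocone (diagram R A) where
  pt := Under.mk (CommRingCat.ofHom (algebraMap R A))
  ι :=
    { app := fun i => qDesc (rel i) (πSub i) (πSub_eq_zero_of_mem_rel i)
      naturality := fun i j h => by
        apply q_hom_ext
        intro x
        show ((diagram R A).map h ≫ qDesc (rel j) (πSub j) (πSub_eq_zero_of_mem_rel j)).right.hom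
            (qmk (rel i) x) =
          (qDesc (rel i) (πSub i) (πSub_eq_zero_of_mem_rel i) ≫ 𝟙 _).right.hom (qmk (rel i) x)
        rw [Category.comp_id, Under.comp_right, CommRingCat.hom_comp, RingHom.comp_apply]
        show (qDesc (rel j) (πSub j) (πSub_eq_zero_of_mem_rel j)).right.hom
          ((qMap (rel i) (rel j) (incl (leOfHom h)) (rel_le (leOfHom h))).right.hom
            (qmk (rel i) x)) = _
        rw [qMap_qmk, qDesc_qmk, qDesc_qmk, πSub_incl] }

lemma cocone_ι_qmk (i : Idx R A) (x : Sub i) :
    ((cocone R A).ι.app i).right.hom (qmk (rel i) x) = π R A (x : P R A) :=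
  qDesc_qmk _ _ _ _

def isColimitCocone : IsColimit (cocone R A) := by
  classical
  apply FPConv.isColimitUnderOfForget
  · intro a
    change A at a
    refine ⟨⟨({a}, ∅), by simp⟩,
      qmk _ ⟨MvPolynomial.X a, by
        show MvPolynomial.X a ∈ Algebra.adjoin R (MvPolynomial.X '' ((({a} : Finset A)) : Set A))
        exact Algebra.subset_adjoin ⟨a, by simp, rfl⟩⟩, ?_⟩
    rw [cocone_ι_qmk]
    exact π_X R A a
  · intro i x y hxy
    obtain ⟨p, rfl⟩ := qmk_surjective (R := R) (rel i) x
    obtain ⟨q, rfl⟩ := qmk_surjective (R := R) (rel i) y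
    rw [cocone_ι_qmk, cocone_ι_qmk] at hxy
    let j : Idx R A := ⟨(i.1.1, insert ((p : P R A) - q) i.1.2), by
      intro r hr
      rcases Finset.mem_insert.1 hr with rfl | h
      · exact ⟨(Sub i).sub_mem p.2 q.2, by rw [map_sub, hxy, sub_self]⟩
      · exact i.2 r h⟩
    have hij : i ≤ j := ⟨le_rfl, Finset.subset_insert _ _⟩
    refine ⟨j, homOfLE hij, ?_⟩
    show (qMap (rel i) (rel j) (incl hij) (rel_le hij)).right.hom (qmk (rel i) p) =
      (qMap (rel i) (rel j) (incl hij) (rel_le hij)).right.hom (qmk (rel i) q)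
    rw [qMap_qmk, qMap_qmk, qmk_eq_iff]
    refine Ideal.subset_span ?_
    show ((incl hij p - incl hij q : Sub j) : P R A) ∈ j.1.2
    rw [Subalgebra.coe_sub, coe_incl hij, coe_incl hij]
    exact Finset.mem_insert_self _ _

lemma finitePresentation_diagram (i : Idx R A) :
    ((diagram R A).obj i).hom.hom.FinitePresentation := by
  haveI : Algebra.FinitePresentation R (Sub i) :=
    Algebra.FinitePresentation.equiv (MvPolynomial.supportedEquivMvPolynomial (i.1.1 : Set A)).symm
  exact finitePresentation_qObj (rel i) (rel_fg i)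

end

end Groth.Agent.H5.FPColim
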