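import Groth.Agent.Lib.Helper5.Lim.DescendIso
import Mathlib

set_option autoImplicit false
universe u v
open CategoryTheory CategoryTheory.Limits

namespace Groth.Agent.H5.Lim

section Cat

variable {C : Type u} [Category.{v} C] [HasPullbacks C]

/-- Factoring one base-changed subobject through another, expressed as an isomorphism
condition. -/
lemma exists_factor_iff_isIso {Z₁ Z₂ S T : C} (ι₁ : Z₁ ⟶ S) (ι₂ : Z₂ ⟶ S) [Mono ι₂] (t : T ⟶ S) :
    (∃ k : pullback ι₁ t ⟶ pullback ι₂ t, k ≫ pullback.snd ι₂ t = pullback.snd ι₁ t) ↔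
      IsIso (pullback.snd (pullback.snd ι₂ ι₁) (pullback.fst ι₁ t)) := by
  constructor
  · rintro ⟨k, hk⟩
    have hcond : (k ≫ pullback.fst ι₂ t) ≫ ι₂ = pullback.fst ι₁ t ≫ ι₁ := by
      rw [Category.assoc, pullback.condition, ← Category.assoc, hk, pullback.condition]
    let σ : pullback ι₁ t ⟶ pullback (pullback.snd ι₂ ι₁) (pullback.fst ι₁ t) :=
      pullback.lift (pullback.lift (k ≫ pullback.fst ι₂ t) (pullback.fst ι₁ t) hcond) (𝟙 _)
        (by rw [pullback.lift_snd, Category.id_comp])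
    have hσ : σ ≫ pullback.snd (pullback.snd ι₂ ι₁) (pullback.fst ι₁ t) = 𝟙 _ :=
      pullback.lift_snd _ _ _
    have : IsSplitEpi (pullback.snd (pullback.snd ι₂ ι₁) (pullback.fst ι₁ t)) :=
      IsSplitEpi.mk' ⟨σ, hσ⟩
    exact isIso_of_mono_of_isSplitEpi _
  · intro h
    let e := inv (pullback.snd (pullback.snd ι₂ ι₁) (pullback.fst ι₁ t))
    have he : e ≫ pullback.snd (pullback.snd ι₂ ι₁) (pullback.fst ι₁ t) = 𝟙 _ :=
      IsIso.inv_hom_id _
    have hcond : (e ≫ pullback.fst (pullback.snd ι₂ ι₁) (pullback.fst ι₁ t) ≫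
        pullback.fst ι₂ ι₁) ≫ ι₂ = pullback.snd ι₁ t ≫ t := by
      rw [Category.assoc, Category.assoc, pullback.condition, ← Category.assoc _ _ ι₁,
        pullback.condition, ← Category.assoc, ← Category.assoc, he, Category.id_comp,
        pullback.condition]
    exact ⟨pullback.lift _ _ hcond, pullback.lift_snd _ _ _⟩

end Cat

end Groth.Agent.H5.Lim
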