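import Groth.Agent.Lib.Helper5.Lim.LimitPoints
import Mathlib

set_option autoImplicit false
universe u
open CategoryTheory CategoryTheory.Limits AlgebraicGeometry Topology

namespace Groth.Agent.H5.Lim

variable {I : Type u} [SmallCategory I] [IsCofiltered I] (D : I ⥤ Scheme.{u}) (c : Cone D)
  (hc : IsLimit c)

include hc in
/-- The underlying space of a cofiltered limit of schemes with affine transition maps is the limit
of the underlying spaces (Stacks 0CUF). -/
theorem nonempty_isLimit_forgetToTop_mapCone
    [∀ (i j : I) (f : i ⟶ j), IsAffineHom (D.map f)] :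
    Nonempty (IsLimit (Scheme.forgetToTop.mapCone c)) := by
  let F : I ⥤ TopCat.{u} := D ⋙ Scheme.forgetToTop
  let t : Cone F := Scheme.forgetToTop.mapCone c
  let P : IsLimit (TopCat.limitCone.{u, u} F) := TopCat.limitConeIsLimit.{u, u} F
  have hval : ∀ (x : c.pt) (j : I), ((P.lift t) x).1 j = c.π.app j x := fun x j => rfl
  have hbij : Function.Bijective (P.lift t) := by
    constructor
    · intro x y hxy
      apply ext_of_π_app_eq D c hc
      intro j
      rw [← hval x j, ← hval y j, hxy]
    · intro w
      obtain ⟨x, hx⟩ := exists_point_of_compatible D c hc (fun j => w.1 j)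
        (fun i j φ => w.2 φ)
      refine ⟨x, Subtype.ext ?_⟩
      funext j
      rw [hval x j, hx j]
  have hiso : IsIso (P.lift t) := by
    rw [TopCat.isIso_iff_isHomeomorph]
    refine ⟨(P.lift t).hom.continuous, ?_, hbij⟩
    have hB := isBasis_preimage_isAffineOpen D c hc
    rw [TopologicalSpace.Opens.IsBasis] at hB
    rw [hB.isOpenMap_iff]
    rintro _ ⟨_, ⟨j, V, -, rfl⟩, rfl⟩
    have himg : (P.lift t) '' ((c.π.app j ⁻¹ᵁ V : c.pt.Opens) : Set c.pt) =
        ((TopCat.limitCone.{u, u} F).π.app j) ⁻¹' (V : Set (D.obj j)) := by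
      apply Set.Subset.antisymm
      · rintro _ ⟨x, hx, rfl⟩
        exact hx
      · intro w hw
        obtain ⟨x, rfl⟩ := hbij.2 w
        exact ⟨x, hw, rfl⟩
    rw [himg]
    exact V.2.preimage ((TopCat.limitCone.{u, u} F).π.app j).hom.continuous
  exact ⟨IsLimit.ofPointIso P⟩

end Groth.Agent.H5.Lim
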