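import Groth.Agent.Lib.Helper5.Lim.ClosedImmStructure
import Groth.Agent.Lib.Helper5.Lim.BaseChangeOver
import Mathlib

set_option autoImplicit false
universe u
open CategoryTheory CategoryTheory.Limits AlgebraicGeometry MorphismProperty

namespace Groth.Agent.H5.Lim

section Ring

/-- A finite algebra over a finite type algebra whose generators become integral is finite. -/
lemma finite_of_finite_of_isIntegral_gens {A B C : Type*} [CommRing A] [CommRing B] [CommRing C]
    [Algebra A B] [Algebra B C] [Algebra A C] [IsScalarTower A B C] [Module.Finite B C]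
    (s : Finset B) (hs : Algebra.adjoin A (s : Set B) = ⊤)
    (hint : ∀ b ∈ s, IsIntegral A (algebraMap B C b)) : Module.Finite A C := by
  classical
  let φ : B →ₐ[A] C := IsScalarTower.toAlgHom A B C
  have hrange : φ.range = Algebra.adjoin A ((s.image φ : Finset C) : Set C) := by
    rw [← Algebra.map_top, ← hs, AlgHom.map_adjoin, Finset.coe_image]
  have hfin : Module.Finite A φ.range := by
    rw [hrange]
    refine Algebra.finite_adjoin_of_finite_of_isIntegral (Finset.finite_toSet _) ?_
    intro x hx
    obtain ⟨b, hb, rfl⟩ := Finset.mem_image.mp hx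
    exact hint b hb
  let _ : Algebra B φ.range := φ.rangeRestrict.toRingHom.toAlgebra
  have : IsScalarTower B φ.range C := IsScalarTower.of_algebraMap_eq fun b => rfl
  have : Module.Finite φ.range C := Module.Finite.of_restrictScalars_finite B φ.range C
  exact Module.Finite.trans φ.range C

lemma ringHom_finite_comp_of_isIntegral_gens {A B C : Type*} [CommRing A] [CommRing B]
    [CommRing C] (f : A →+* B) (h : B →+* C) (hh : h.Finite) (s : Finset B)
    (hs : @Algebra.adjoin A B _ _ f.toAlgebra (s : Set B) = ⊤)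
    (hint : ∀ b ∈ s, (h.comp f).IsIntegralElem (h b)) : (h.comp f).Finite := by
  algebraize [f, h, h.comp f]
  have : Module.Finite B C := hh
  exact finite_of_finite_of_isIntegral_gens (A := A) s hs fun b hb => hint b hb

end Ring

section Affine

open Polynomial

variable {J : Type u} [SmallCategory J] [IsCofiltered J] (E : J ⥤ Scheme.{u}) (cE : Cone E)
  (hcE : IsLimit cE)

include hcE in
/-- Affine case: an integral limit of a system with finite transition maps, of finite type over
an affine base, is finite over the base at a finite stage. -/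
theorem exists_isFinite_of_isAffine [∀ j, IsAffine (E.obj j)] {T : Scheme.{u}} [IsAffine T]
    (tt : E ⟶ (Functor.const J).obj T) (hfin : ∀ {i j : J} (a : i ⟶ j), IsFinite (E.map a))
    (j₁ : J) (hft : LocallyOfFiniteType (tt.app j₁))
    (hint : IsIntegralHom (cE.π.app j₁ ≫ tt.app j₁)) :
    ∃ K : Over j₁, IsFinite (tt.app K.left) := by
  classical
  have : IsAffine cE.pt := Scheme.isAffine_of_isLimit cE hcE
  have hT : ∀ j, IsAffine (((Functor.const J).obj T).obj j) := fun j => ‹IsAffine T›
  let f₁ := (tt.app j₁).appTop.hom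
  let g := (cE.π.app j₁).appTop.hom
  have hft' : f₁.FiniteType :=
    (HasRingHomProperty.iff_of_isAffine (P := @LocallyOfFiniteType)).mp hft
  have hint' : (g.comp f₁).IsIntegral := by
    have := (HasAffineProperty.iff_of_isAffine (P := @IsIntegralHom)).mp hint
    have h2 : (cE.π.app j₁ ≫ tt.app j₁).appTop.hom.IsIntegral := this.2
    rwa [Scheme.Hom.comp_appTop, CommRingCat.hom_comp] at h2
  let _ : Algebra Γ(T, ⊤) Γ(E.obj j₁, ⊤) := f₁.toAlgebra
  obtain ⟨s, hs⟩ := (hft' : Algebra.FiniteType Γ(T, ⊤) Γ(E.obj j₁, ⊤)).out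
  choose P hPm hP using fun b : Γ(E.obj j₁, ⊤) => hint' (g b)
  obtain ⟨K, hK⟩ := exists_over_appTop_eq_zero E cE hcE j₁ (s.image fun b => eval₂ f₁ b (P b))
    (by
      intro a ha
      obtain ⟨b, -, rfl⟩ := Finset.mem_image.mp ha
      change g (eval₂ f₁ b (P b)) = 0
      rw [hom_eval₂]
      exact hP b)
  refine ⟨K, ?_⟩
  rw [HasAffineProperty.iff_of_isAffine (P := @IsFinite)]
  refine ⟨inferInstance, ?_⟩
  let h := (E.map K.hom).appTop.hom
  have e : (tt.app K.left).appTop.hom = h.comp f₁ := by
    have := t_naturality E tt K.hom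
    rw [← this, Scheme.Hom.comp_appTop, CommRingCat.hom_comp]
  rw [e]
  have hh : h.Finite := by
    have := (HasAffineProperty.iff_of_isAffine (P := @IsFinite)).mp (hfin K.hom)
    exact this.2
  refine ringHom_finite_comp_of_isIntegral_gens f₁ h hh s hs fun b hb => ?_
  refine ⟨P b, hPm b, ?_⟩
  have := hK (eval₂ f₁ b (P b)) (Finset.mem_image_of_mem _ hb)
  change h (eval₂ f₁ b (P b)) = 0 at this
  rwa [hom_eval₂] at this

end Affine

section General

variable {I : Type u} [SmallCategory I] [IsCofiltered I] (S : Scheme.{u}) [CompactSpace S]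
  [QuasiSeparatedSpace S] (D : I ⥤ Scheme.{u}) (t : D ⟶ (Functor.const I).obj S) (c : Cone D)
  (hc : IsLimit c)

set_option backward.isDefEq.respectTransparency false in
include hc in
/-- If the limit of an `S`-system of qcqs schemes locally of finite type over `S` with finite
transition maps is integral over `S`, then the stages are eventually finite over `S`. -/
theorem exists_isFinite_of_isIntegralHom_limit
    (hfin : ∀ {i j : I} (a : i ⟶ j), IsFinite (D.map a))
    [∀ i, CompactSpace (D.obj i)] [∀ i, QuasiSeparatedSpace (D.obj i)]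
    (hft : ∀ i, LocallyOfFiniteType (t.app i)) (p : c.pt ⟶ S)
    (hp : ∀ k, c.π.app k ≫ t.app k = p) (hintp : IsIntegralHom p) :
    ∃ i₀ : I, ∀ (i : I) (_ : i ⟶ i₀), IsFinite (t.app i) := by
  classical
  have hqsS : ∀ k, QuasiSeparatedSpace ↥(((Functor.const I).obj S).obj k) := fun k =>
    ‹QuasiSeparatedSpace S›
  have hqc : ∀ k, QuasiCompact (t.app k) := fun k => inferInstance
  let 𝒰 := S.affineCover.finiteSubcover
  have h𝒰 : ∀ u, IsAffine (𝒰.X u) := fun u => by
    dsimp [𝒰]; infer_instance
  have key : ∀ u : 𝒰.I₀, ∃ k : I, IsFinite (pullback.fst (𝒰.f u) (t.app k)) := by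
    intro u
    let E := tbcDiagram D t (𝒰.f u)
    let cE := tbcCone D t (𝒰.f u) c p hp
    have hcE : IsLimit cE := isLimitTbcCone D t (𝒰.f u) c p hp hc
    have hEfin : ∀ {i j : I} (a : i ⟶ j), IsFinite (E.map a) := fun a =>
      MorphismProperty.of_isPullback (P := @IsFinite) (isPullback_tbcMap D t (𝒰.f u) a).flip
        (hfin a)
    have hEaff : ∀ {i j : I} (a : i ⟶ j), IsAffineHom (E.map a) := fun a =>
      have := hEfin a; inferInstance
    have hEc : ∀ k, CompactSpace (E.obj k) := fun k => by
      change CompactSpace ↥(pullback (𝒰.f u) (t.app k))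
      have : QuasiCompact (pullback.fst (𝒰.f u) (t.app k)) :=
        MorphismProperty.pullback_fst (P := @QuasiCompact) _ _ (hqc k)
      exact QuasiCompact.compactSpace_of_compactSpace (pullback.fst (𝒰.f u) (t.app k))
    have hEqs : ∀ k, QuasiSeparatedSpace (E.obj k) := fun k => by
      change QuasiSeparatedSpace ↥(pullback (𝒰.f u) (t.app k))
      have : QuasiSeparated (pullback.snd (𝒰.f u) (t.app k)) :=
        MorphismProperty.pullback_snd (P := @QuasiSeparated) _ _ inferInstance
      exact quasiSeparatedSpace_of_quasiSeparated (pullback.snd (𝒰.f u) (t.app k))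
    have hpt : IsAffine cE.pt := by
      change IsAffine (pullback (𝒰.f u) p)
      have : IsAffineHom (pullback.fst (𝒰.f u) p) :=
        MorphismProperty.pullback_fst (P := @IsAffineHom) _ _ inferInstance
      exact isAffine_of_isAffineHom (pullback.fst (𝒰.f u) p)
    obtain ⟨k₁, hk₁⟩ := Scheme.exists_isAffine_of_isLimit E cE hcE
    let E' : Over k₁ ⥤ Scheme.{u} := Over.forget k₁ ⋙ E
    let cE' : Cone E' := cE.whisker (Over.forget k₁)
    have hcE' : IsLimit cE' := (Functor.Initial.isLimitWhiskerEquiv (Over.forget k₁) cE).symm hcE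
    have hE'aff : ∀ k, IsAffine (E'.obj k) := fun k => by
      have : IsAffineHom (E.map k.hom) := hEaff k.hom
      exact isAffine_of_isAffineHom (E.map k.hom)
    let tt : E' ⟶ (Functor.const (Over k₁)).obj (𝒰.X u) :=
      { app := fun k => pullback.fst (𝒰.f u) (t.app k.left)
        naturality := fun k k' a => by
          change tbcMap D t (𝒰.f u) a.left ≫ pullback.fst _ _ = pullback.fst _ _ ≫ 𝟙 _
          rw [tbcMap_fst, Category.comp_id] }
    have hE'fin : ∀ {i j : Over k₁} (a : i ⟶ j), IsFinite (E'.map a) := fun a => hEfin a.left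
    let j₁ : Over k₁ := Over.mk (𝟙 k₁)
    have hft' : LocallyOfFiniteType (tt.app j₁) :=
      MorphismProperty.pullback_fst (P := @LocallyOfFiniteType) _ _ (hft k₁)
    have hint : IsIntegralHom (cE'.π.app j₁ ≫ tt.app j₁) := by
      have e : cE'.π.app j₁ ≫ tt.app j₁ = pullback.fst (𝒰.f u) p :=
        tbcProj_fst D t (𝒰.f u) c p hp k₁
      rw [e]
      exact MorphismProperty.pullback_fst (P := @IsIntegralHom) _ _ inferInstance
    obtain ⟨K, hK⟩ := exists_isFinite_of_isAffine E' cE' hcE' tt hE'fin j₁ hft' hint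
    exact ⟨K.left.left, hK⟩
  choose ku hku using key
  obtain ⟨k₀, hk₀⟩ := IsCofiltered.inf_objs_exists (Finset.univ.image ku)
  refine ⟨k₀, fun i ψ => ?_⟩
  rw [IsZariskiLocalAtTarget.iff_of_openCover (P := @IsFinite) 𝒰]
  intro (u : 𝒰.I₀)
  let a : i ⟶ ku u := ψ ≫ (hk₀ (Finset.mem_image_of_mem ku (Finset.mem_univ u))).some
  have h1 : IsFinite (pullback.fst (𝒰.f u) (t.app i)) := by
    rw [← tbcMap_fst D t (𝒰.f u) a]
    have := hku u
    have : IsFinite (tbcMap D t (𝒰.f u) a) :=
      MorphismProperty.of_isPullback (P := @IsFinite) (isPullback_tbcMap D t (𝒰.f u) a).flip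
        (hfin a)
    infer_instance
  have e : pullback.snd (t.app i) (𝒰.f u) =
      (pullbackSymmetry _ _).hom ≫ pullback.fst (𝒰.f u) (t.app i) := by simp
  change IsFinite (pullback.snd (t.app i) (𝒰.f u))
  rw [e]
  infer_instance

end General

end Groth.Agent.H5.Lim
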