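import Groth.Agent.Lib.Helper5.Lim.ReducedOpenImm
import Groth.Agent.Lib.Helper5.Lim.EmbeddingSystem
import Mathlib

set_option autoImplicit false
universe u
open CategoryTheory CategoryTheory.Limits AlgebraicGeometry Topology

namespace Groth.Agent.H5.Lim

variable {I : Type u} [SmallCategory I] [IsCofiltered I] (D : I ⥤ Scheme.{u}) (c : Cone D)
  (hc : IsLimit c)

include hc in
/-- With open immersions as transition maps and a Noetherian stage, the limit is integral iff the
stages eventually are. -/
theorem isIntegral_iff_eventually_of_isOpenImmersion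
    [∀ (i j : I) (f : i ⟶ j), IsAffineHom (D.map f)] (i₀ : I)
    [IsNoetherian (D.obj i₀)] (hoi : ∀ (i j : I) (φ : i ⟶ j), IsOpenImmersion (D.map φ)) :
    IsIntegral c.pt ↔ ∃ (i : I) (_ : i ⟶ i₀), ∀ (j : I) (_ : j ⟶ i), IsIntegral (D.obj j) := by
  constructor
  · intro hint
    -- eventually dominant
    obtain ⟨k₁, hk₁⟩ := eventually_isDominant_of_isInducing D i₀
      (fun i j φ => by
        have := hoi i j φ
        exact (D.map φ).isOpenEmbedding.isInducing)
    -- eventually reduced
    have hN : ∀ U : (D.obj i₀).affineOpens, (nilradical Γ(D.obj i₀, U)).FG := by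
      intro U
      have : IsNoetherianRing Γ(D.obj i₀, U) := IsLocallyNoetherian.component_noetherian U
      exact IsNoetherian.noetherian _
    have hred : IsReduced c.pt := inferInstance
    obtain ⟨i₂, φ₂, hi₂⟩ :=
      (isReduced_iff_eventually_of_isOpenImmersion D c hc i₀ hoi hN).mp hred
    refine ⟨IsCofiltered.min k₁.left i₂, IsCofiltered.minToLeft _ _ ≫ k₁.hom, fun j ψ => ?_⟩
    have h1 : IsReduced (D.obj j) := hi₂ j (ψ ≫ IsCofiltered.minToRight _ _)
    have hdom : IsDominant (c.π.app j) :=
      (isDominant_π_app_iff D c hc j).mpr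
        (fun j' φ => hk₁ j j' (ψ ≫ IsCofiltered.minToLeft _ _) φ)
    have hirr : IrreducibleSpace ↥(((Functor.const I).obj c.pt).obj j) :=
      inferInstanceAs (IrreducibleSpace c.pt)
    have h2 : IrreducibleSpace (D.obj j) :=
      irreducibleSpace_of_denseRange (c.π.app j) (c.π.app j).continuous hdom.denseRange
    exact isIntegral_of_irreducibleSpace_of_isReduced _
  · rintro ⟨i, φ₀, hi⟩
    have hred : IsReduced c.pt := by
      apply isReduced_of_cofinal_isReduced D c hc
      intro j
      have := hi _ (IsCofiltered.minToLeft i j)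
      exact ⟨IsCofiltered.min i j, IsCofiltered.minToRight i j, inferInstance⟩
    let D' : Over i ⥤ Scheme.{u} := Over.forget i ⋙ D
    let c' : Cone D' := c.whisker (Over.forget i)
    have hc' : IsLimit c' := (Functor.Initial.isLimitWhiskerEquiv (Over.forget i) c).symm hc
    have haff : ∀ (j k : Over i) (a : j ⟶ k), IsAffineHom (D'.map a) :=
      fun j k a => inferInstanceAs (IsAffineHom (D.map a.left))
    have hirrD : ∀ k : Over i, IrreducibleSpace (D'.obj k) := fun k => by
      have := hi k.left k.hom
      exact inferInstanceAs (IrreducibleSpace (D.obj k.left))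
    have hdom : ∀ k : Over i, IsDominant (c'.π.app k) := by
      intro k
      rw [isDominant_π_app_iff D' c' hc' k]
      intro j a
      refine ⟨?_⟩
      have hopen : IsOpen (Set.range (D'.map a)) := by
        have := hoi _ _ a.left
        exact (D.map a.left).isOpenEmbedding.isOpen_range
      have := hirrD k
      have hne : (Set.range (D'.map a)).Nonempty := by
        obtain ⟨y⟩ := (hirrD j).toNonempty
        exact ⟨_, y, rfl⟩
      exact hopen.dense hne
    have hirr : IrreducibleSpace c'.pt :=
      irreducibleSpace_pt_of_forall D' c' hc' hdom (Over.mk (𝟙 i)) (fun j _ => hirrD j)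
    have hirr' : IrreducibleSpace c.pt := hirr
    exact isIntegral_of_irreducibleSpace_of_isReduced _

end Groth.Agent.H5.Lim
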