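import Groth.Agent.Lib.Helper5.Lim.Irreducible
import Mathlib

set_option autoImplicit false
universe u
open CategoryTheory CategoryTheory.Limits AlgebraicGeometry Topology

namespace Groth.Agent.H5.Lim

/-- Topological core of EGA IV 8.4.2: a dominant continuous map from a space with finitely many
irreducible components, separating the closures of the images of distinct components, induces a
bijection on irreducible components. -/
theorem bijOn_irreducibleComponents_of_denseRange {X Y : Type*} [TopologicalSpace X]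
    [TopologicalSpace Y] (f : X → Y) (hc : Continuous f) (hd : DenseRange f)
    (hfin : (irreducibleComponents X).Finite)
    (hsep : ∀ Z ∈ irreducibleComponents X, ∀ Z' ∈ irreducibleComponents X, Z ≠ Z' →
      ¬ closure (f '' Z) ⊆ closure (f '' Z')) :
    Set.BijOn (fun Z : Set X => closure (f '' Z)) (irreducibleComponents X)
      (irreducibleComponents Y) := by
  classical
  have hirr : ∀ Z ∈ irreducibleComponents X, IsIrreducible (closure (f '' Z)) := fun Z hZ =>
    ((hZ.1 : IsIrreducible Z).image f hc.continuousOn).closure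
  have hcov : ⋃ Z ∈ irreducibleComponents X, closure (f '' Z) = Set.univ := by
    rw [← hfin.closure_biUnion, ← Set.image_iUnion₂, ← Set.sUnion_eq_biUnion,
      sUnion_irreducibleComponents, Set.image_univ]
    exact hd.closure_range
  have hsurj : ∀ T ∈ irreducibleComponents Y, ∃ Z ∈ irreducibleComponents X,
      closure (f '' Z) = T := by
    intro T hT
    have h1 := (isIrreducible_iff_sUnion_isClosed.mp hT.1)
      (hfin.toFinset.image (fun Z : Set X => closure (f '' Z)))
      (by
        intro z hz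
        obtain ⟨Z, -, rfl⟩ := Finset.mem_image.mp hz
        exact isClosed_closure)
      (by
        intro y _
        have : y ∈ ⋃ Z ∈ irreducibleComponents X, closure (f '' Z) := hcov ▸ Set.mem_univ y
        simp only [Set.mem_iUnion] at this
        obtain ⟨Z, hZ, hy⟩ := this
        refine Set.mem_sUnion.mpr ⟨closure (f '' Z), ?_, hy⟩
        exact Finset.mem_coe.mpr (Finset.mem_image.mpr ⟨Z, hfin.mem_toFinset.mpr hZ, rfl⟩))
    obtain ⟨z, hz, hTz⟩ := h1
    obtain ⟨Z, hZ, rfl⟩ := Finset.mem_image.mp hz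
    have hZ' : Z ∈ irreducibleComponents X := hfin.mem_toFinset.mp hZ
    exact ⟨Z, hZ', Set.Subset.antisymm (hT.2 (hirr Z hZ') hTz) hTz⟩
  refine ⟨?_, ?_, ?_⟩
  · intro Z hZ
    obtain ⟨T, hT, hZT⟩ :=
      exists_mem_irreducibleComponents_subset_of_isIrreducible _ (hirr Z hZ)
    obtain ⟨Z', hZ', rfl⟩ := hsurj T hT
    by_cases hne : Z = Z'
    · subst hne; exact hT
    · exact absurd hZT (hsep Z hZ Z' hZ' hne)
  · intro Z hZ Z' hZ' heq
    by_contra hne
    exact hsep Z hZ Z' hZ' hne (le_of_eq heq)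
  · intro T hT
    obtain ⟨Z, hZ, rfl⟩ := hsurj T hT
    exact ⟨Z, hZ, rfl⟩

end Groth.Agent.H5.Lim

namespace Groth.Agent.H5.Lim

variable {I : Type u} [SmallCategory I] [IsCofiltered I] (D : I ⥤ Scheme.{u}) (c : Cone D)
  (hc : IsLimit c)

include hc in
/-- Distinct irreducible components of the limit are separated by an open of some stage. -/
lemma exists_opens_separating_components [∀ (i j : I) (f : i ⟶ j), IsAffineHom (D.map f)]
    (Z Z' : Set c.pt) (hZ : Z ∈ irreducibleComponents c.pt) (hZ' : Z' ∈ irreducibleComponents c.pt)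
    (hne : Z ≠ Z') :
    ∃ (i : I) (V : (D.obj i).Opens), (∃ x ∈ Z, c.π.app i x ∈ V) ∧ ∀ y ∈ Z', c.π.app i y ∉ V := by
  have hnot : ¬ Z ⊆ Z' := fun h => hne (Set.Subset.antisymm h (hZ.2 hZ'.1 h))
  obtain ⟨x, hxZ, hxZ'⟩ := Set.not_subset.mp hnot
  have hcl : IsClosed Z' := isClosed_of_mem_irreducibleComponents Z' hZ'
  have hB := isBasis_preimage_isAffineOpen D c hc
  obtain ⟨_, ⟨_, ⟨i, V, -, rfl⟩, rfl⟩, hxV, hVsub⟩ :=
    hB.exists_subset_of_mem_open (show x ∈ Z'ᶜ from hxZ') hcl.isOpen_compl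
  exact ⟨i, V, ⟨x, hxZ, hxV⟩, fun y hy hyV => hVsub hyV hy⟩

include hc in
/-- EGA IV 8.4.2 (irreducible components): with dominant transition maps and Noetherian limit,
the irreducible components of the limit correspond bijectively to those of the stages beyond some
index. -/
theorem eventually_bijOn_irreducibleComponents
    [∀ (i j : I) (f : i ⟶ j), IsAffineHom (D.map f)] (i₀ : I)
    [TopologicalSpace.NoetherianSpace c.pt]
    (hd : ∀ (i j : I) (φ : i ⟶ j), IsDominant (D.map φ)) :
    ∃ k : Over i₀, ∀ (j : I) (_ : j ⟶ k.left),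
      Set.BijOn (fun Y : Set c.pt => closure ((c.π.app j) '' Y))
        (irreducibleComponents c.pt) (irreducibleComponents (D.obj j)) := by
  classical
  have hfin : (irreducibleComponents c.pt).Finite :=
    TopologicalSpace.NoetherianSpace.finite_irreducibleComponents
  have hdom : ∀ i, IsDominant (c.π.app i) := fun i =>
    (isDominant_π_app_iff D c hc i).mpr (fun j φ => hd j i φ)
  let Good : Set c.pt × Set c.pt → Prop := fun p =>
    p.1 ∈ irreducibleComponents c.pt ∧ p.2 ∈ irreducibleComponents c.pt ∧ p.1 ≠ p.2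
  have key : ∀ p : Set c.pt × Set c.pt, Good p →
      ∃ (i : I) (V : (D.obj i).Opens), (∃ x ∈ p.1, c.π.app i x ∈ V) ∧
        ∀ y ∈ p.2, c.π.app i y ∉ V := fun p hp =>
    exists_opens_separating_components D c hc p.1 p.2 hp.1 hp.2.1 hp.2.2
  let idx : Set c.pt × Set c.pt → I := fun p => if h : Good p then (key p h).choose else i₀
  let O : Finset I := insert i₀ ((hfin.toFinset ×ˢ hfin.toFinset).image idx)
  obtain ⟨i, hi⟩ := IsCofiltered.inf_objs_exists O
  let φ₀ : i ⟶ i₀ := (hi (Finset.mem_insert_self _ _)).some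
  refine ⟨Over.mk φ₀, fun j ψ => ?_⟩
  change j ⟶ i at ψ
  refine bijOn_irreducibleComponents_of_denseRange (c.π.app j) (c.π.app j).continuous
    (hdom j).denseRange hfin ?_
  intro Z hZ Z' hZ' hne hsub
  have hgood : Good (Z, Z') := ⟨hZ, hZ', hne⟩
  have hidx : idx (Z, Z') = (key (Z, Z') hgood).choose := dif_pos hgood
  obtain ⟨V, ⟨x, hxZ, hxV⟩, hV'⟩ := (key (Z, Z') hgood).choose_spec
  have hmem : idx (Z, Z') ∈ O := by
    refine Finset.mem_insert_of_mem (Finset.mem_image_of_mem idx ?_)
    exact Finset.mem_product.mpr ⟨hfin.mem_toFinset.mpr hZ, hfin.mem_toFinset.mpr hZ'⟩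
  let θ : i ⟶ (key (Z, Z') hgood).choose := eqToHom rfl ≫ (hidx ▸ (hi hmem).some)
  let β : j ⟶ (key (Z, Z') hgood).choose := ψ ≫ θ
  let Vj : Set (D.obj j) := (D.map β) ⁻¹' (V : Set (D.obj _))
  have hVjo : IsOpen Vj := V.2.preimage (D.map β).continuous
  have hmemVj : ∀ y : c.pt, c.π.app j y ∈ Vj ↔ c.π.app _ y ∈ V := by
    intro y
    change D.map β (c.π.app j y) ∈ V ↔ _
    rw [← Scheme.Hom.comp_apply, c.w]
  have h1 : c.π.app j x ∈ closure ((c.π.app j) '' Z') :=
    hsub (subset_closure ⟨x, hxZ, rfl⟩)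
  rw [mem_closure_iff] at h1
  obtain ⟨_, hyV, ⟨y, hyZ', rfl⟩⟩ := h1 Vj hVjo ((hmemVj x).mpr hxV)
  exact hV' y hyZ' ((hmemVj y).mp hyV)

end Groth.Agent.H5.Lim
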