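import Groth.Agent.Lib.Helper5.Lim.Connected
import Groth.Agent.Lib.Helper5.Lim.ReducedLimit
import Mathlib

set_option autoImplicit false
universe u
open CategoryTheory CategoryTheory.Limits AlgebraicGeometry Topology

namespace Groth.Agent.H5.Lim

lemma irreducibleSpace_of_denseRange {X Y : Type*} [TopologicalSpace X] [TopologicalSpace Y]
    [IrreducibleSpace X] (f : X → Y) (hc : Continuous f) (hd : DenseRange f) :
    IrreducibleSpace Y := by
  rw [irreducibleSpace_def]
  have h1 : IsIrreducible (f '' (Set.univ : Set X)) :=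
    (IrreducibleSpace.isIrreducible_univ X).image f hc.continuousOn
  have h2 := h1.closure
  rw [Set.image_univ, hd.closure_range] at h2
  exact h2

variable {I : Type u} [SmallCategory I] [IsCofiltered I] (D : I ⥤ Scheme.{u}) (c : Cone D)
  (hc : IsLimit c)

include hc in
/-- If the projections are dominant and the stages over `i` are irreducible, so is the limit. -/
theorem irreducibleSpace_pt_of_forall [∀ (i j : I) (f : i ⟶ j), IsAffineHom (D.map f)]
    (hdom : ∀ i, IsDominant (c.π.app i)) (i : I)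
    (hi : ∀ (j : I) (_ : j ⟶ i), IrreducibleSpace (D.obj j)) : IrreducibleSpace c.pt := by
  have hne : Nonempty c.pt := by
    by_contra hemp
    rw [not_nonempty_iff] at hemp
    obtain ⟨y⟩ := (hi i (𝟙 i)).toNonempty
    have := (hdom i).denseRange y
    have hemp' : IsEmpty ↥(((Functor.const I).obj c.pt).obj i) := hemp
    rw [Set.range_eq_empty, closure_empty] at this
    exact this
  have hB := isBasis_preimage_isAffineOpen D c hc
  refine { toNonempty := hne, isPreirreducible_univ := ?_ }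
  rintro u v hu hv ⟨x, -, hxu⟩ ⟨y, -, hyv⟩
  obtain ⟨_, ⟨_, ⟨j₁, V₁, -, rfl⟩, rfl⟩, hxV₁, hV₁u⟩ :=
    hB.exists_subset_of_mem_open hxu hu
  obtain ⟨_, ⟨_, ⟨j₂, V₂, -, rfl⟩, rfl⟩, hyV₂, hV₂v⟩ :=
    hB.exists_subset_of_mem_open hyv hv
  let a : I := IsCofiltered.min i (IsCofiltered.min j₁ j₂)
  let φi : a ⟶ i := IsCofiltered.minToLeft _ _
  let φ₁ : a ⟶ j₁ := IsCofiltered.minToRight _ _ ≫ IsCofiltered.minToLeft _ _
  let φ₂ : a ⟶ j₂ := IsCofiltered.minToRight _ _ ≫ IsCofiltered.minToRight _ _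
  have hirr : IrreducibleSpace (D.obj a) := hi a φi
  let W₁ : Set (D.obj a) := (D.map φ₁) ⁻¹' (V₁ : Set (D.obj j₁))
  let W₂ : Set (D.obj a) := (D.map φ₂) ⁻¹' (V₂ : Set (D.obj j₂))
  have hW₁ : (c.π.app a) ⁻¹' W₁ = ((c.π.app j₁ ⁻¹ᵁ V₁ : c.pt.Opens) : Set c.pt) :=
    preimage_π_app_map D c φ₁ _
  have hW₂ : (c.π.app a) ⁻¹' W₂ = ((c.π.app j₂ ⁻¹ᵁ V₂ : c.pt.Opens) : Set c.pt) :=
    preimage_π_app_map D c φ₂ _
  have hW₁o : IsOpen W₁ := V₁.2.preimage (D.map φ₁).continuous
  have hW₂o : IsOpen W₂ := V₂.2.preimage (D.map φ₂).continuous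
  have hx : c.π.app a x ∈ W₁ := by
    have : x ∈ (c.π.app a) ⁻¹' W₁ := by rw [hW₁]; exact hxV₁
    exact this
  have hy : c.π.app a y ∈ W₂ := by
    have : y ∈ (c.π.app a) ⁻¹' W₂ := by rw [hW₂]; exact hyV₂
    exact this
  obtain ⟨w, -, hw⟩ := hirr.toPreirreducibleSpace.isPreirreducible_univ W₁ W₂ hW₁o hW₂o
    ⟨_, trivial, hx⟩ ⟨_, trivial, hy⟩
  have hdense := (hdom a).denseRange
  rw [DenseRange, dense_iff_inter_open] at hdense
  obtain ⟨_, hz, ⟨z, rfl⟩⟩ := hdense (W₁ ∩ W₂) (hW₁o.inter hW₂o) ⟨w, hw⟩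
  refine ⟨z, trivial, hV₁u ?_, hV₂v ?_⟩
  · rw [← hW₁]; exact hz.1
  · rw [← hW₂]; exact hz.2

end Groth.Agent.H5.Lim

namespace Groth.Agent.H5.Lim

variable {I : Type u} [SmallCategory I] [IsCofiltered I] (D : I ⥤ Scheme.{u}) (c : Cone D)
  (hc : IsLimit c)

include hc in
/-- If the limit is empty, so is some stage over a quasi-compact stage. -/
theorem exists_isEmpty_of_isEmpty_pt [∀ (i j : I) (f : i ⟶ j), IsAffineHom (D.map f)] (i₀ : I)
    [CompactSpace (D.obj i₀)] (h : IsEmpty c.pt) : ∃ k : Over i₀, IsEmpty (D.obj k.left) := by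
  by_contra hcon
  push_neg at hcon
  have h1 : ∀ k : Over i₀, Nonempty ((Over.forget i₀ ⋙ D).obj k) := fun k =>
    hcon k
  have h2 : ∀ k : Over i₀, CompactSpace ((Over.forget i₀ ⋙ D).obj k) := fun k =>
    compactSpace_of_over D k
  have h3 : ∀ {j k : Over i₀} (φ : j ⟶ k), IsAffineHom ((Over.forget i₀ ⋙ D).map φ) := fun φ => by
    dsimp; infer_instance
  have := Scheme.nonempty_of_isLimit (Over.forget i₀ ⋙ D) (c.whisker (Over.forget i₀))
    ((Functor.Initial.isLimitWhiskerEquiv (Over.forget i₀) c).symm hc)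
  exact (not_isEmpty_iff.mpr this) h

include hc in
/-- If the (Noetherian) limit is not irreducible, neither are the stages beyond some index
(EGA IV 8.4.1 (i)). -/
theorem eventually_not_irreducibleSpace [∀ (i j : I) (f : i ⟶ j), IsAffineHom (D.map f)]
    (i₀ : I) [CompactSpace (D.obj i₀)] [QuasiSeparatedSpace (D.obj i₀)]
    [TopologicalSpace.NoetherianSpace c.pt] (h : ¬ IrreducibleSpace c.pt) :
    ∃ k : Over i₀, ∀ (j : I) (_ : j ⟶ k.left), ¬ IrreducibleSpace (D.obj j) := by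
  by_cases hne : Nonempty c.pt
  · have h1 : ¬ IsPreirreducible (Set.univ : Set c.pt) := fun h' =>
      h { toNonempty := hne, isPreirreducible_univ := h' }
    unfold IsPreirreducible at h1
    push_neg at h1
    obtain ⟨U, V, hUo, hVo, hUne, hVne, hdisj⟩ := h1
    simp only [Set.univ_inter] at hUne hVne hdisj
    have hUc : IsCompact U := TopologicalSpace.NoetherianSpace.isCompact U
    have hVc : IsCompact V := TopologicalSpace.NoetherianSpace.isCompact V
    obtain ⟨k₁, U₁, hU₁c, hU₁⟩ := exists_over_preimage_eq D c hc i₀ ⟨U, hUo⟩ hUc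
    obtain ⟨k₂, V₂, hV₂c, hV₂⟩ := exists_over_preimage_eq D c hc i₀ ⟨V, hVo⟩ hVc
    let k : Over i₀ := IsCofiltered.min k₁ k₂
    let φ₁ : k.left ⟶ k₁.left := (IsCofiltered.minToLeft k₁ k₂).left
    let φ₂ : k.left ⟶ k₂.left := (IsCofiltered.minToRight k₁ k₂).left
    have : QuasiSeparatedSpace (D.obj k.left) := quasiSeparatedSpace_of_over D k
    have : CompactSpace (D.obj k.left) := compactSpace_of_over D k
    let Uk : Set (D.obj k.left) := (D.map φ₁) ⁻¹' (U₁ : Set (D.obj k₁.left))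
    let Vk : Set (D.obj k.left) := (D.map φ₂) ⁻¹' (V₂ : Set (D.obj k₂.left))
    have hUko : IsOpen Uk := U₁.2.preimage (D.map φ₁).continuous
    have hVko : IsOpen Vk := V₂.2.preimage (D.map φ₂).continuous
    have hUkc : IsCompact Uk := QuasiCompact.isCompact_preimage (f := D.map φ₁) _ U₁.2 hU₁c
    have hVkc : IsCompact Vk := QuasiCompact.isCompact_preimage (f := D.map φ₂) _ V₂.2 hV₂c
    have hUk : (c.π.app k.left) ⁻¹' Uk = U := by
      rw [preimage_π_app_map]
      exact congrArg (fun W : c.pt.Opens => (W : Set c.pt)) hU₁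
    have hVk : (c.π.app k.left) ⁻¹' Vk = V := by
      rw [preimage_π_app_map]
      exact congrArg (fun W : c.pt.Opens => (W : Set c.pt)) hV₂
    obtain ⟨k', hk'⟩ := exists_preimage_eq_empty_of_isConstructible D c hc k.left (Uk ∩ Vk)
      ((hUkc.isConstructible hUko).inter (hVkc.isConstructible hVko)) (by
        rw [Set.preimage_inter, hUk, hVk]
        exact hdisj)
    refine ⟨Over.mk (k'.hom ≫ k.hom), fun j ψ hirr => ?_⟩
    change j ⟶ k'.left at ψ
    let φ : j ⟶ k.left := ψ ≫ k'.hom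
    have e1 : (D.map φ) ⁻¹' (Uk ∩ Vk) = ∅ := by
      change (D.map (ψ ≫ k'.hom)) ⁻¹' _ = ∅
      rw [D.map_comp, Scheme.Hom.comp_base, TopCat.coe_comp, Set.preimage_comp, hk',
        Set.preimage_empty]
    have hne1 : (Set.univ ∩ (D.map φ) ⁻¹' Uk).Nonempty := by
      obtain ⟨x, hx⟩ := hUne
      refine ⟨c.π.app j x, trivial, ?_⟩
      rw [← hUk, ← preimage_π_app_map D c φ] at hx
      exact hx
    have hne2 : (Set.univ ∩ (D.map φ) ⁻¹' Vk).Nonempty := by
      obtain ⟨x, hx⟩ := hVne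
      refine ⟨c.π.app j x, trivial, ?_⟩
      rw [← hVk, ← preimage_π_app_map D c φ] at hx
      exact hx
    have := hirr.toPreirreducibleSpace.isPreirreducible_univ _ _
      (hUko.preimage (D.map φ).continuous) (hVko.preimage (D.map φ).continuous) hne1 hne2
    rw [Set.univ_inter, ← Set.preimage_inter, e1] at this
    exact Set.not_nonempty_empty this
  · rw [not_nonempty_iff] at hne
    obtain ⟨k, hk⟩ := exists_isEmpty_of_isEmpty_pt D c hc i₀ hne
    refine ⟨k, fun j ψ hirr => ?_⟩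
    obtain ⟨y⟩ := hirr.toNonempty
    exact hk.false (D.map ψ y)

end Groth.Agent.H5.Lim
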