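import Groth.Agent.Lib.Helper5.Lim.ProConsLimit
import Mathlib

set_option autoImplicit false
universe u
open CategoryTheory CategoryTheory.Limits AlgebraicGeometry Topology
open Groth.Agent.H2.ConsTop Groth.Agent.H2.ProConsLib
open scoped Set.Notation

namespace Groth.Agent.H5.Lim

variable {I : Type u} [SmallCategory I] [IsCofiltered I] (D : I ⥤ Scheme.{u}) (c : Cone D)
  (hc : IsLimit c)

include hc in
/-- Specialization in the limit is detected on the stages. -/
theorem specializes_iff_forall_π_app [∀ (i j : I) (f : i ⟶ j), IsAffineHom (D.map f)]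
    (x y : c.pt) : x ⤳ y ↔ ∀ j, c.π.app j x ⤳ c.π.app j y := by
  constructor
  · intro h j
    exact h.map (c.π.app j).continuous
  · intro h
    have hB := isBasis_preimage_isAffineOpen D c hc
    rw [TopologicalSpace.Opens.IsBasis] at hB
    rw [specializes_iff_forall_open]
    intro U hU hyU
    obtain ⟨_, ⟨_, ⟨j, V, -, rfl⟩, rfl⟩, hyV, hVU⟩ := hB.exists_subset_of_mem_open hyU hU
    apply hVU
    exact (h j).mem_open V.2 hyV

include hc in
/-- A point of the limit is determined by its images in the stages. -/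
theorem ext_of_π_app_eq [∀ (i j : I) (f : i ⟶ j), IsAffineHom (D.map f)]
    (x y : c.pt) (h : ∀ j, c.π.app j x = c.π.app j y) : x = y := by
  have h1 : x ⤳ y := (specializes_iff_forall_π_app D c hc x y).mpr
    (fun j => by rw [h j])
  have h2 : y ⤳ x := (specializes_iff_forall_π_app D c hc y x).mpr
    (fun j => by rw [h j])
  exact (h1.antisymm h2).eq

include hc in
/-- Compatible families of points come from points of the limit (quasi-compact stage). -/
theorem exists_point_of_compatible_of_compactSpace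
    [∀ (i j : I) (f : i ⟶ j), IsAffineHom (D.map f)] (i₀ : I) [CompactSpace (D.obj i₀)]
    (z : ∀ j, D.obj j) (hz : ∀ (i j : I) (φ : i ⟶ j), D.map φ (z i) = z j) :
    ∃ x : c.pt, ∀ j, c.π.app j x = z j := by
  classical
  by_contra hcon
  push_neg at hcon
  have hcpt : CompactSpace c.pt := by
    have : QuasiCompact (c.π.app i₀) := by
      have := isAffineHom_π_app D c hc i₀
      infer_instance
    exact QuasiCompact.compactSpace_of_compactSpace (c.π.app i₀)
  obtain ⟨𝒜', ℬ', h𝒜', hℬ', h𝒜fin, -, hsub⟩ :=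
    exists_finite_of_sInter_subset_sUnion_scheme (X := c.pt)
      (𝒜 := Set.range fun j => (c.π.app j) ⁻¹' {z j}) (ℬ := ∅)
      (by rintro _ ⟨j, rfl⟩; exact isProConstructible_preimage (c.π.app j)
            (isProConstructible_singleton (z j)))
      (by rintro _ ⟨⟩)
      (by
        intro x hx
        obtain ⟨j, hj⟩ := hcon x
        exact absurd (hx _ ⟨j, rfl⟩) hj)
  have hidx : ∀ A ∈ 𝒜', ∃ j : I, (c.π.app j) ⁻¹' {z j} = A := fun A hA => h𝒜' hA
  let idx : Set c.pt → I := fun A => if hA : A ∈ 𝒜' then (hidx A hA).choose else i₀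
  let O : Finset I := insert i₀ (h𝒜fin.toFinset.image idx)
  obtain ⟨k, hk⟩ := IsCofiltered.inf_objs_exists O
  obtain ⟨x, hx⟩ := exists_π_app_eq D c hc k (z k) (fun j φ => ⟨z j, hz j k φ⟩)
  have hxA : x ∈ ⋂₀ 𝒜' := by
    intro A hA
    have hmem : idx A ∈ O := Finset.mem_insert_of_mem
      (Finset.mem_image_of_mem idx (h𝒜fin.mem_toFinset.mpr hA))
    have hidx' : idx A = (hidx A hA).choose := dif_pos hA
    have hspec := (hidx A hA).choose_spec
    rw [← hidx'] at hspec
    rw [← hspec]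
    let φ : k ⟶ idx A := (hk hmem).some
    change c.π.app (idx A) x = z (idx A)
    rw [← c.w φ, Scheme.Hom.comp_apply, hx, hz]
  obtain ⟨B, hB, -⟩ := hsub hxA
  exact (hℬ' hB).elim

include hc in
/-- Compatible families of points come from points of the limit. -/
theorem exists_point_of_compatible
    [∀ (i j : I) (f : i ⟶ j), IsAffineHom (D.map f)]
    (z : ∀ j, D.obj j) (hz : ∀ (i j : I) (φ : i ⟶ j), D.map φ (z i) = z j) :
    ∃ x : c.pt, ∀ j, c.π.app j x = z j := by
  have hDaff : ∀ {i j : I} (f : i ⟶ j), IsAffineHom (D.map f) := fun f => inferInstance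
  obtain ⟨i₀⟩ := IsCofiltered.nonempty (C := I)
  obtain ⟨_, ⟨U, hU : IsAffineOpen U, rfl⟩, hzU, -⟩ :=
    (D.obj i₀).isBasis_affineOpens.exists_subset_of_mem_open (Set.mem_univ (z i₀)) isOpen_univ
  let E := opensDiagram D i₀ U
  let cE := opensCone D c i₀ U
  have hcE : IsLimit cE := isLimitOpensCone D c hc i₀ U
  have hEaff : ∀ (j k : Over i₀) (f : j ⟶ k), IsAffineHom (E.map f) := fun j k f =>
    inferInstance
  have hmem : ∀ k : Over i₀, z k.left ∈ D.map k.hom ⁻¹ᵁ U := by
    intro k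
    change D.map k.hom (z k.left) ∈ U
    rw [hz]
    exact hzU
  let z' : ∀ k : Over i₀, E.obj k := fun k => ⟨z k.left, hmem k⟩
  have hz' : ∀ (j k : Over i₀) (f : j ⟶ k), E.map f (z' j) = z' k := by
    intro j k f
    apply Subtype.ext
    change ((E.map f) ≫ (D.map k.hom ⁻¹ᵁ U).ι) (z' j) = z k.left
    have : E.map f ≫ (D.map k.hom ⁻¹ᵁ U).ι = (D.map j.hom ⁻¹ᵁ U).ι ≫ D.map f.left :=
      (opensDiagramι D i₀ U).naturality f
    rw [this]
    change D.map f.left (z j.left) = z k.left
    exact hz _ _ f.left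
  have hcomp : CompactSpace (E.obj (Over.mk (𝟙 i₀))) := by
    have h1 : IsAffineOpen (D.map (Over.mk (𝟙 i₀)).hom ⁻¹ᵁ U) := hU.preimage _
    exact isCompact_iff_compactSpace.mp h1.isCompact
  obtain ⟨x', hx'⟩ := exists_point_of_compatible_of_compactSpace E cE hcE (Over.mk (𝟙 i₀)) z' hz'
  let x : c.pt := (c.π.app i₀ ⁻¹ᵁ U).ι x'
  have hxk : ∀ k : Over i₀, c.π.app k.left x = z k.left := by
    intro k
    have h1 : cE.π.app k ≫ (D.map k.hom ⁻¹ᵁ U).ι = (c.π.app i₀ ⁻¹ᵁ U).ι ≫ c.π.app k.left := by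
      change (c.π.app k.left).resLE _ _ _ ≫ _ = _
      exact Scheme.Hom.resLE_comp_ι _ _
    change ((c.π.app i₀ ⁻¹ᵁ U).ι ≫ c.π.app k.left) x' = z k.left
    rw [← h1]
    change (D.map k.hom ⁻¹ᵁ U).ι (cE.π.app k x') = z k.left
    rw [hx' k]
    rfl
  refine ⟨x, fun j => ?_⟩
  let k : I := IsCofiltered.min i₀ j
  have := hxk (Over.mk (IsCofiltered.minToLeft i₀ j))
  change c.π.app k x = z k at this
  rw [← c.w (IsCofiltered.minToRight i₀ j), Scheme.Hom.comp_apply, this, hz]

end Groth.Agent.H5.Lim
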