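import Groth.Agent.Lib.Helper5.Lim.LimitPoints
import Mathlib

set_option autoImplicit false
universe u
open CategoryTheory CategoryTheory.Limits AlgebraicGeometry Topology
open Groth.Agent.H2.ProConsLib

namespace Groth.Agent.H5.Lim

variable {I : Type u} [SmallCategory I] [IsCofiltered I] (D : I ⥤ Scheme.{u}) (c : Cone D)
  (hc : IsLimit c)

include hc in
/-- If all images of `s` are maximal points then `s` is a maximal point of the limit. -/
theorem isMaximalPoint_of_forall_stage [∀ (i j : I) (g : i ⟶ j), IsAffineHom (D.map g)]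
    (s : c.pt) (h : ∀ (i : I) (z : D.obj i), z ⤳ c.π.app i s → z = c.π.app i s) :
    ∀ z : c.pt, z ⤳ s → z = s := by
  intro z hz
  apply ext_of_π_app_eq D c hc
  intro j
  exact h j _ (hz.map (c.π.app j).continuous)

include hc in
/-- Given a point `s` of the limit, there is a point `x ⤳ s` all of whose images are maximal
points, provided the stages have finitely many maximal points, preserved by the transition
maps. -/
theorem exists_specializes_forall_stage_maximal
    [∀ (i j : I) (g : i ⟶ j), IsAffineHom (D.map g)]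
    (hfin : ∀ i : I, {s : D.obj i | ∀ z : D.obj i, z ⤳ s → z = s}.Finite)
    (hsys : ∀ (i j : I) (g : i ⟶ j) (s : D.obj i), (∀ z : D.obj i, z ⤳ s → z = s) →
      ∀ z : D.obj j, z ⤳ D.map g s → z = D.map g s)
    (s : c.pt) :
    ∃ x : c.pt, x ⤳ s ∧ ∀ (i : I) (z : D.obj i), z ⤳ c.π.app i x → z = c.π.app i x := by
  let F : I ⥤ Type u :=
    { obj := fun j => {z : D.obj j // (∀ w : D.obj j, w ⤳ z → w = z) ∧ z ⤳ c.π.app j s}
      map := fun {i j} φ => ↾fun z => ⟨D.map φ z.1, hsys i j φ z.1 z.2.1, by
        have := z.2.2.map (D.map φ).continuous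
        rwa [← Scheme.Hom.comp_apply, c.w] at this⟩
      map_id := fun j => by
        ext z : 3
        apply Subtype.ext
        change D.map (𝟙 j) z.1 = z.1
        rw [D.map_id]; rfl
      map_comp := fun {i j k} φ ψ => by
        ext z : 3
        apply Subtype.ext
        change D.map (φ ≫ ψ) z.1 = D.map ψ (D.map φ z.1)
        rw [D.map_comp]; rfl }
  have hF1 : ∀ j, Finite (F.obj j) := by
    intro j
    have := (hfin j).to_subtype
    exact Finite.of_injective
      (fun z : F.obj j => (⟨z.1, z.2.1⟩ : {s : D.obj j | ∀ z : D.obj j, z ⤳ s → z = s}))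
      (fun a b hab => Subtype.ext (congrArg (fun w => w.1) hab))
  have hF2 : ∀ j, Nonempty (F.obj j) := by
    intro j
    obtain ⟨ξ, h1, h2⟩ := exists_maximal_generization (c.π.app j s)
    exact ⟨⟨ξ, h2, h1⟩⟩
  obtain ⟨u, hu⟩ := nonempty_sections_of_finite_cofiltered_system F
  obtain ⟨x, hx⟩ := exists_point_of_compatible D c hc (fun j => (u j).1)
    (fun i j φ => congrArg Subtype.val (hu φ))
  refine ⟨x, ?_, fun i z hz => ?_⟩
  · rw [specializes_iff_forall_π_app D c hc]
    intro j
    rw [hx j]
    exact (u j).2.2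
  · rw [hx i] at hz ⊢
    exact (u i).2.1 z hz

include hc in
/-- EGA IV 8.4.? : maximal points of the limit are the limits of maximal points. -/
theorem isMaximalPoint_limit_iff_forall_stage
    [∀ (i j : I) (g : i ⟶ j), IsAffineHom (D.map g)]
    (hfin : ∀ i : I, {s : D.obj i | ∀ z : D.obj i, z ⤳ s → z = s}.Finite)
    (hsys : ∀ (i j : I) (g : i ⟶ j) (s : D.obj i), (∀ z : D.obj i, z ⤳ s → z = s) →
      ∀ z : D.obj j, z ⤳ D.map g s → z = D.map g s)
    (s : c.pt) :
    (∀ z : c.pt, z ⤳ s → z = s) ↔
      ∀ (i : I) (z : D.obj i), z ⤳ c.π.app i s → z = c.π.app i s := by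
  constructor
  · intro hs
    obtain ⟨x, hxs, hx⟩ := exists_specializes_forall_stage_maximal D c hc hfin hsys s
    have := hs x hxs
    rw [this] at hx
    exact hx
  · exact isMaximalPoint_of_forall_stage D c hc s

end Groth.Agent.H5.Lim
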