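import Mathlib.Algebra.Category.ModuleCat.Colimits
import Mathlib.Algebra.Category.ModuleCat.FilteredColimits
import Mathlib.Algebra.Module.FinitePresentation
import Mathlib.CategoryTheory.Limits.Types.Colimits
import Mathlib.CategoryTheory.Limits.Types.Filtered
import Mathlib.CategoryTheory.Limits.ConcreteCategory.Filtered
import Mathlib.CategoryTheory.Limits.ConcreteCategory.Basic
import Mathlib.Order.Directed

set_option autoImplicit false
universe u
open CategoryTheory CategoryTheory.Limits Opposite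

namespace Groth.Agent.H5.ModHom

variable {A : Type u} [CommRing A] (M : ModuleCat.{u} A)
  {J : Type u} [Preorder J] [IsDirected J (· ≤ ·)] [Nonempty J] (N : J ⥤ ModuleCat.{u} A)

lemma post_ι (j : J) (χ : M ⟶ N.obj j) :
    colimit.post N (coyoneda.obj (op M)) (colimit.ι (N ⋙ coyoneda.obj (op M)) j χ) =
      χ ≫ colimit.ι N j := by
  have := ConcreteCategory.congr_hom (colimit.ι_post N (coyoneda.obj (op M)) j) χ
  rw [comp_apply] at this
  exact this

lemma ι_eq_of_le {j k : J} (g : j ⟶ k) (χ : M ⟶ N.obj j) :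
    colimit.ι (N ⋙ coyoneda.obj (op M)) j χ =
      colimit.ι (N ⋙ coyoneda.obj (op M)) k (χ ≫ N.map g) :=
  (colimit.w_apply (N ⋙ coyoneda.obj (op M)) g χ).symm

theorem injective_of_finite [Module.Finite A M] :
    Function.Injective (colimit.post N (coyoneda.obj (op M))) := by
  classical
  intro x₁ x₂ h
  obtain ⟨j, φ, ψ, rfl, rfl⟩ := Types.FilteredColimit.jointly_surjective_of_isColimit₂
    (colimit.isColimit (N ⋙ coyoneda.obj (op M))) x₁ x₂
  dsimp only [colimit.cocone_ι] at h ⊢
  rw [post_ι, post_ι] at h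
  have key : ∀ m : M, ∃ (k : J) (f : j ⟶ k),
      (N.map f).hom (φ.hom m) = (N.map f).hom (ψ.hom m) := by
    intro m
    have h1 : (colimit.ι N j).hom (φ.hom m) = (colimit.ι N j).hom (ψ.hom m) :=
      congrArg (fun χ : M ⟶ colimit N => χ.hom m) h
    exact (IsColimit.eq_iff' (colimit.isColimit N) _ _).1 h1
  obtain ⟨s, hs⟩ := Module.Finite.fg_top (R := A) (M := M)
  choose k f hf using key
  obtain ⟨k₀, hk₀⟩ := Finset.exists_le (insert j (s.image k))
  have hj : j ≤ k₀ := hk₀ j (Finset.mem_insert_self _ _)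
  have hk : ∀ m ∈ s, k m ≤ k₀ := fun m hm =>
    hk₀ _ (Finset.mem_insert_of_mem (Finset.mem_image_of_mem k hm))
  have heq : φ ≫ N.map (homOfLE hj) = ψ ≫ N.map (homOfLE hj) := by
    apply ModuleCat.hom_ext
    apply LinearMap.ext_on hs
    intro m hm
    have : homOfLE hj = f m ≫ homOfLE (hk m hm) := Subsingleton.elim _ _
    rw [this, N.map_comp]
    simp only [ModuleCat.hom_comp, LinearMap.comp_apply]
    rw [hf m]
  rw [ι_eq_of_le M N (homOfLE hj) φ, ι_eq_of_le M N (homOfLE hj) ψ, heq]

theorem surjective_of_finitePresentation [Module.FinitePresentation A M] :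
    Function.Surjective (colimit.post N (coyoneda.obj (op M))) := by
  classical
  intro g
  change M ⟶ colimit N at g
  obtain ⟨n, K, e, s, hsK⟩ := Module.FinitePresentation.exists_fin A M
  obtain ⟨f, hf, hs⟩ : ∃ f : (Fin n → A) →ₗ[A] M, Function.Surjective f ∧
      Submodule.span A (s : Set (Fin n → A)) = LinearMap.ker f := by
    refine ⟨e.symm.toLinearMap.comp K.mkQ, e.symm.surjective.comp K.mkQ_surjective, ?_⟩
    rw [hsK]
    ext r
    simp
  -- representatives for the images of the basis vectors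
  have hrep : ∀ i : Fin n, ∃ (j : J) (y : N.obj j),
      (colimit.ι N j).hom y = g.hom (f (Pi.single i 1)) := fun i =>
    CategoryTheory.Limits.Concrete.colimit_exists_rep N (g.hom (f (Pi.single i 1)))
  choose j y hy using hrep
  obtain ⟨j₀, hj₀⟩ := Finset.exists_le (Finset.univ.image j)
  have hj : ∀ i, j i ≤ j₀ := fun i => hj₀ _ (Finset.mem_image_of_mem j (Finset.mem_univ i))
  let h₀ : (Fin n → A) →ₗ[A] N.obj j₀ :=
    Fintype.linearCombination A (fun i => (N.map (homOfLE (hj i))).hom (y i))
  have hh₀ : (colimit.ι N j₀).hom.comp h₀ = g.hom.comp f := by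
    apply LinearMap.pi_ext'
    intro i
    apply LinearMap.ext_ring
    simp only [LinearMap.comp_apply, LinearMap.single_apply]
    rw [← hy i]
    simp only [h₀, Fintype.linearCombination_apply_single, one_smul]
    rw [← LinearMap.comp_apply, ← ModuleCat.hom_comp, colimit.w]
  -- kill the relations
  have hrel : ∀ r : (Fin n → A), r ∈ s → ∃ (k : J) (e : j₀ ⟶ k), (N.map e).hom (h₀ r) = 0 := by
    intro r hr
    have hr0 : f r = 0 := by
      have : r ∈ LinearMap.ker f := hs ▸ Submodule.subset_span hr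
      exact this
    have h1 : (colimit.ι N j₀).hom (h₀ r) = (colimit.ι N j₀).hom 0 := by
      rw [map_zero, ← LinearMap.comp_apply, hh₀, LinearMap.comp_apply, hr0, map_zero]
    obtain ⟨k, e, he⟩ := (IsColimit.eq_iff' (colimit.isColimit N) _ _).1 h1
    exact ⟨k, e, he.trans (map_zero _)⟩
  choose! k e he using hrel
  obtain ⟨k₀, hk₀⟩ := Finset.exists_le (insert j₀ (s.image k))
  have hjk : j₀ ≤ k₀ := hk₀ _ (Finset.mem_insert_self _ _)
  have hk : ∀ r ∈ s, k r ≤ k₀ := fun r hr =>
    hk₀ _ (Finset.mem_insert_of_mem (Finset.mem_image_of_mem k hr))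
  let h₁ : (Fin n → A) →ₗ[A] N.obj k₀ := (N.map (homOfLE hjk)).hom.comp h₀
  have hker : LinearMap.ker f ≤ LinearMap.ker h₁ := by
    rw [← hs, Submodule.span_le]
    intro r hr
    have : homOfLE hjk = e r hr ≫ homOfLE (hk r hr) := Subsingleton.elim _ _
    show h₁ r = 0
    simp only [h₁, LinearMap.comp_apply]
    rw [this, N.map_comp, ModuleCat.hom_comp, LinearMap.comp_apply, he r hr, map_zero]
  -- descend to M
  let q : M →ₗ[A] N.obj k₀ :=
    (Submodule.liftQ _ h₁ hker).comp (f.quotKerEquivOfSurjective hf).symm.toLinearMap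
  have hq : q.comp f = h₁ := by
    apply LinearMap.ext
    intro r
    simp only [q, LinearMap.comp_apply, LinearEquiv.coe_coe]
    have : (f.quotKerEquivOfSurjective hf).symm (f r) = Submodule.Quotient.mk r := by
      rw [LinearEquiv.symm_apply_eq]
      rfl
    rw [this, Submodule.liftQ_apply]
  refine ⟨colimit.ι (N ⋙ coyoneda.obj (op M)) k₀ (ModuleCat.ofHom q), ?_⟩
  rw [post_ι]
  apply ModuleCat.hom_ext
  apply LinearMap.ext
  intro m
  obtain ⟨r, rfl⟩ := hf m
  have h2 : (colimit.ι N k₀).hom.comp h₁ = g.hom.comp f := by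
    rw [← hh₀]
    simp only [h₁]
    rw [← LinearMap.comp_assoc, ← ModuleCat.hom_comp, colimit.w]
  have := LinearMap.congr_fun h2 r
  simp only [LinearMap.comp_apply] at this
  rw [ModuleCat.hom_comp, LinearMap.comp_apply, ModuleCat.hom_ofHom, ← LinearMap.comp_apply q f,
    hq]
  exact this

end Groth.Agent.H5.ModHom
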