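import Groth.Agent.Lib.Helper5.Lim.ModuleLimit
import Groth.Agent.Lib.Helper5.Lim.ModuleExt
import Groth.Agent.Lib.Helper5.Lim.ConnComponents
import Groth.Agent.Lib.Lead.QC.FinType

set_option autoImplicit false
universe u
open CategoryTheory CategoryTheory.Limits AlgebraicGeometry Opposite TopologicalSpace
open Groth.Agent.LD.QC

namespace Groth.Agent.H5.Lim

/-- a quasi-compact scheme has a finite cover by affine opens. -/
lemma exists_finset_affineOpens_cover (X : Scheme.{u}) [CompactSpace X] :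
    ∃ t : Finset X.affineOpens, (⊤ : X.Opens) ≤ ⨆ V ∈ t, (V.1 : X.Opens) := by
  obtain ⟨t, ht⟩ := isCompact_univ.elim_finite_subcover
    (fun V : X.affineOpens => (V.1 : Set X)) (fun V => V.1.2) (by
      intro x _
      obtain ⟨_, ⟨V, hV, rfl⟩, hxV, -⟩ := X.isBasis_affineOpens.exists_subset_of_mem_open
        (Set.mem_univ x) isOpen_univ
      exact Set.mem_iUnion.2 ⟨⟨V, hV⟩, hxV⟩)
  refine ⟨t, fun x _ => ?_⟩
  obtain ⟨V, hV⟩ := Set.mem_iUnion.1 (ht (Set.mem_univ x))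
  obtain ⟨hVt, hxV⟩ := Set.mem_iUnion.1 hV
  exact Opens.mem_iSup.2 ⟨V, Opens.mem_iSup.2 ⟨hVt, hxV⟩⟩

section

variable {I : Type u} [SmallCategory I] [IsCofiltered I] (D : I ⥤ Scheme.{u}) (c : Cone D)
  (hc : IsLimit c) [∀ (i j : I) (f : i ⟶ j), IsAffineHom (D.map f)] (i₀ : I)

include hc in
/-- EGA IV 8.5.2 (i), injectivity: two homomorphisms from a finite type quasi-coherent module
whose pullbacks to the limit agree have equal pullbacks at some stage. -/
theorem exists_stage_pullback_map_eq [CompactSpace (D.obj i₀)]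
    {F₀ G₀ : (D.obj i₀).Modules} [F₀.IsQuasicoherent] (hft : F₀.IsFiniteType)
    [G₀.IsQuasicoherent] (φ₀ ψ₀ : F₀ ⟶ G₀)
    (h : (Scheme.Modules.pullback (c.π.app i₀)).map φ₀ =
      (Scheme.Modules.pullback (c.π.app i₀)).map ψ₀) :
    ∃ k : Over i₀, (Scheme.Modules.pullback (D.map k.hom)).map φ₀ =
      (Scheme.Modules.pullback (D.map k.hom)).map ψ₀ := by
  classical
  obtain ⟨t, ht⟩ := exists_finset_affineOpens_cover (D.obj i₀)
  have hfin : ∀ V : (D.obj i₀).affineOpens, Module.Finite Γ(D.obj i₀, V.1) Γ(F₀, V.1) :=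
    fun V => finite_sections_of_isFiniteType F₀ hft V.2
  choose gens hgens using fun V : (D.obj i₀).affineOpens => (hfin V).fg_top
  -- the finite family of conditions
  let S : Set (Σ V : (D.obj i₀).affineOpens, Γ(F₀, V.1)) :=
    ⋃ V ∈ t, (fun m => (⟨V, m⟩ : Σ V : (D.obj i₀).affineOpens, Γ(F₀, V.1))) '' (gens V : Set _)
  have hS : S.Finite :=
    Set.Finite.biUnion t.finite_toSet (fun V _ => (Finset.finite_toSet _).image _)
  let P : (Σ V : (D.obj i₀).affineOpens, Γ(F₀, V.1)) → Over i₀ → Prop := fun p k =>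
    pbSec (D.map k.hom) G₀ (le_refl (stageOpen D i₀ p.1.1 k)) (φ₀.app p.1.1 p.2) =
      pbSec (D.map k.hom) G₀ (le_refl (stageOpen D i₀ p.1.1 k)) (ψ₀.app p.1.1 p.2)
  have hP : ∀ p ∈ S, ∃ k, P p k := by
    rintro ⟨V, m⟩ -
    apply exists_pbSec_eq D c hc i₀ V.1 V.2 G₀
    rw [← pbSec_naturality, ← pbSec_naturality, h]
  have hmono : ∀ (p : Σ V : (D.obj i₀).affineOpens, Γ(F₀, V.1)) (k k' : Over i₀) (_ : k' ⟶ k),
      P p k → P p k' := fun p k k' a hk => pbSec_eq_of_hom D i₀ p.1.1 G₀ a _ _ hk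
  obtain ⟨k, -, hk⟩ := exists_common_stage S hS P hP hmono (Over.mk (𝟙 i₀))
  refine ⟨k, ?_⟩
  haveI : ((Scheme.Modules.pullback (D.map k.hom)).obj F₀).IsQuasicoherent :=
    qc_pullback (D.map k.hom) F₀
  apply hom_ext_of_affine_cover _ _ (fun V : t => stageOpen D i₀ V.1.1 k)
    (fun V => isAffineOpen_stageOpen D i₀ V.1.1 V.1.2 k)
  · intro x _
    have hx : D.map k.hom x ∈ ⨆ V ∈ t, (V.1 : (D.obj i₀).Opens) := ht trivial
    obtain ⟨V, hV⟩ := Opens.mem_iSup.1 hx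
    obtain ⟨hVt, hxV⟩ := Opens.mem_iSup.1 hV
    exact Opens.mem_iSup.2 ⟨⟨V, hVt⟩, hxV⟩
  · rintro ⟨V, hVt⟩ x
    apply app_eq_of_forall_pbSec_eq (D.map k.hom) (isAffineOpen_stageOpen D i₀ V.1 V.2 k) V.2
      le_rfl F₀ _ _ (gens V : Set _) (hgens V)
    intro m hm
    rw [pbSec_naturality, pbSec_naturality]
    exact hk ⟨V, m⟩ (Set.mem_biUnion hVt ⟨m, hm, rfl⟩)

omit [IsCofiltered I] [∀ (i j : I) (f : i ⟶ j), IsAffineHom (D.map f)] in
/-- equality of pullbacks at a stage implies equality of pullbacks to the limit. -/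
theorem pullback_map_eq_of_stage {F₀ G₀ : (D.obj i₀).Modules} (φ₀ ψ₀ : F₀ ⟶ G₀) {j : I}
    (φ : j ⟶ i₀)
    (h : (Scheme.Modules.pullback (D.map φ)).map φ₀ = (Scheme.Modules.pullback (D.map φ)).map ψ₀) :
    (Scheme.Modules.pullback (c.π.app i₀)).map φ₀ =
      (Scheme.Modules.pullback (c.π.app i₀)).map ψ₀ := by
  let e := Scheme.Modules.pullbackComp (c.π.app j) (D.map φ) ≪≫
    Scheme.Modules.pullbackCongr (c.w φ)
  have h1 : ∀ χ : F₀ ⟶ G₀, (Scheme.Modules.pullback (c.π.app i₀)).map χ =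
      e.inv.app F₀ ≫ (Scheme.Modules.pullback (c.π.app j)).map
        ((Scheme.Modules.pullback (D.map φ)).map χ) ≫ e.hom.app G₀ := by
    intro χ
    have := e.hom.naturality χ
    rw [Functor.comp_map] at this
    rw [this, Iso.inv_hom_id_app_assoc]
  rw [h1 φ₀, h1 ψ₀, h]

end

end Groth.Agent.H5.Lim
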