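import Groth.Agent.Lib.Helper5.Lim.ModuleIso
import Groth.Agent.Lib.Helper5.CA.WeakColimitModule
import Groth.Agent.Lib.Lead.QC.LocFree3

set_option autoImplicit false
universe u
open CategoryTheory CategoryTheory.Limits AlgebraicGeometry Opposite TopologicalSpace TensorProduct
open Groth.Agent.LD.QC

namespace Groth.Agent.H5.Lim

/-- projectivity of a base change persists along algebra homomorphisms. -/
lemma projective_baseChange_of_algHom {K R R' : Type*} [CommRing K] [CommRing R] [CommRing R']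
    [Algebra K R] [Algebra K R'] (φ : R →ₐ[K] R') (M : Type*) [AddCommGroup M] [Module K M]
    (h : Module.Projective R (R ⊗[K] M)) : Module.Projective R' (R' ⊗[K] M) := by
  letI : Algebra R R' := φ.toRingHom.toAlgebra
  haveI : IsScalarTower K R R' := IsScalarTower.of_algebraMap_eq fun x => (φ.commutes x).symm
  exact Module.Projective.of_equiv
    (TensorProduct.AlgebraTensorModule.cancelBaseChange K R R' R' M)

section

variable {I : Type u} [SmallCategory I] [IsCofiltered I] (D : I ⥤ Scheme.{u}) (c : Cone D)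
  (hc : IsLimit c) [∀ (i j : I) (f : i ⟶ j), IsAffineHom (D.map f)] (i₀ : I)

/-- the transition maps as algebra homomorphisms. -/
noncomputable def stageTransAlgHom (V : (D.obj i₀).Opens) {k k' : Over i₀} (a : k' ⟶ k) :
    letI := stageAlgebra D i₀ V
    Γ(D.obj k.left, stageOpen D i₀ V k) →ₐ[Γ(D.obj i₀, V)]
      Γ(D.obj k'.left, stageOpen D i₀ V k') :=
  letI := stageAlgebra D i₀ V
  { toRingHom := (stageTrans D i₀ V a).hom
    commutes' := fun r => by
      have := app_comp_stageTrans D i₀ V a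
      exact congrArg (fun φ : Γ(D.obj i₀, V) ⟶ Γ(D.obj k'.left, stageOpen D i₀ V k') =>
        φ.hom r) this }

/-- sections of the pullback to a stage over the preimage of an affine open, as a tensor product. -/
lemma nonempty_stage_sections_equiv {V : (D.obj i₀).Opens} (hV : IsAffineOpen V)
    (F₀ : (D.obj i₀).Modules) [F₀.IsQuasicoherent] (k : Over i₀) :
    letI := stageAlgebra D i₀ V
    Nonempty (Γ(D.obj k.left, stageOpen D i₀ V k) ⊗[Γ(D.obj i₀, V)] Γ(F₀, V)
      ≃ₗ[Γ(D.obj k.left, stageOpen D i₀ V k)]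
        Γ((Scheme.Modules.pullback (D.map k.hom)).obj F₀, stageOpen D i₀ V k)) := by
  letI := stageAlgebra D i₀ V
  letI := pbModule (D.map k.hom) F₀ (le_refl (stageOpen D i₀ V k))
  haveI : IsScalarTower Γ(D.obj i₀, V) Γ(D.obj k.left, stageOpen D i₀ V k)
      Γ((Scheme.Modules.pullback (D.map k.hom)).obj F₀, stageOpen D i₀ V k) :=
    pbModule_isScalarTower (D.map k.hom) F₀ (le_refl (stageOpen D i₀ V k))
  have hst : IsBaseChange Γ(D.obj k.left, stageOpen D i₀ V k)
      (pbSecₗ (D.map k.hom) F₀ (le_refl (stageOpen D i₀ V k))) :=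
    isBaseChange_pbSec (D.map k.hom) (isAffineOpen_stageOpen D i₀ V hV k) hV le_rfl F₀
  exact ⟨hst.equiv⟩

include hc in
lemma nonempty_lim_sections_equiv {V : (D.obj i₀).Opens} (hV : IsAffineOpen V)
    (F₀ : (D.obj i₀).Modules) [F₀.IsQuasicoherent] :
    letI := limAlgebra D c i₀ V
    Nonempty (Γ(c.pt, limOpen D c i₀ V) ⊗[Γ(D.obj i₀, V)] Γ(F₀, V)
      ≃ₗ[Γ(c.pt, limOpen D c i₀ V)]
        Γ((Scheme.Modules.pullback (c.π.app i₀)).obj F₀, limOpen D c i₀ V)) := by
  letI := limAlgebra D c i₀ V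
  letI := pbModule (c.π.app i₀) F₀ (le_refl (limOpen D c i₀ V))
  haveI : IsScalarTower Γ(D.obj i₀, V) Γ(c.pt, limOpen D c i₀ V)
      Γ((Scheme.Modules.pullback (c.π.app i₀)).obj F₀, limOpen D c i₀ V) :=
    pbModule_isScalarTower (c.π.app i₀) F₀ (le_refl (limOpen D c i₀ V))
  have hlim : IsBaseChange Γ(c.pt, limOpen D c i₀ V)
      (pbSecₗ (c.π.app i₀) F₀ (le_refl (limOpen D c i₀ V))) :=
    isBaseChange_pbSec (c.π.app i₀) (isAffineOpen_limOpen D c hc i₀ V hV) hV le_rfl F₀
  exact ⟨hlim.equiv⟩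

include hc in
/-- EGA IV 8.5.5: local freeness of the pullback of a finitely presented module descends. -/
theorem exists_stage_isFinLocFree_pullback [CompactSpace (D.obj i₀)]
    (F₀ : (D.obj i₀).Modules) (hF₀ : F₀.IsFinitePresentation)
    (h : FlatMod.IsFinLocFree ((Scheme.Modules.pullback (c.π.app i₀)).obj F₀)) :
    ∃ k : Over i₀, FlatMod.IsFinLocFree ((Scheme.Modules.pullback (D.map k.hom)).obj F₀) := by
  classical
  haveI : F₀.IsQuasicoherent := inferInstance
  haveI hqcL : ((Scheme.Modules.pullback (c.π.app i₀)).obj F₀).IsQuasicoherent :=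
    qc_pullback (c.π.app i₀) F₀
  obtain ⟨t, ht⟩ := exists_finset_affineOpens_cover (D.obj i₀)
  let P : (D.obj i₀).affineOpens → Over i₀ → Prop := fun V k =>
    letI := stageAlgebra D i₀ V.1
    Module.Projective Γ(D.obj k.left, stageOpen D i₀ V.1 k)
      (Γ(D.obj k.left, stageOpen D i₀ V.1 k) ⊗[Γ(D.obj i₀, V.1)] Γ(F₀, V.1))
  have hP : ∀ V ∈ (t : Set (D.obj i₀).affineOpens), ∃ k, P V k := by
    intro V _
    letI := stageAlgebra D i₀ V.1
    letI := limAlgebra D c i₀ V.1
    haveI : Module.FinitePresentation Γ(D.obj i₀, V.1) Γ(F₀, V.1) :=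
      finitePresentation_sections_of_isFinitePresentation F₀ hF₀ V.2
    obtain ⟨e⟩ := nonempty_lim_sections_equiv D c hc i₀ V.2 F₀
    have h1 := ((isFinLocFree_iff_sections _).1 h _ (isAffineOpen_limOpen D c hc i₀ V.1 V.2))
    have hproj : Module.Projective Γ(c.pt, limOpen D c i₀ V.1)
        Γ((Scheme.Modules.pullback (c.π.app i₀)).obj F₀, limOpen D c i₀ V.1) :=
      @Module.Flat.projective_of_finitePresentation _ _ _ _ _ h1.2 h1.1
    have hproj' : Module.Projective Γ(c.pt, limOpen D c i₀ V.1)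
        (Γ(c.pt, limOpen D c i₀ V.1) ⊗[Γ(D.obj i₀, V.1)] Γ(F₀, V.1)) :=
      Module.Projective.of_equiv e.symm
    obtain ⟨k, -, -, hk⟩ := (weakColimitOpens D c i₀ V.1 hc V.2).exists_projective_baseChange
      (Over.mk (𝟙 i₀)) hproj'
    exact ⟨k, hk⟩
  have hmono : ∀ (V : (D.obj i₀).affineOpens) (k k' : Over i₀) (_ : k' ⟶ k), P V k → P V k' := by
    intro V k k' a hk
    letI := stageAlgebra D i₀ V.1
    exact projective_baseChange_of_algHom (stageTransAlgHom D i₀ V.1 a) _ hk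
  obtain ⟨k, -, hk⟩ := exists_common_stage (t : Set (D.obj i₀).affineOpens) t.finite_toSet P hP
    hmono (Over.mk (𝟙 i₀))
  refine ⟨k, ?_⟩
  haveI : ((Scheme.Modules.pullback (D.map k.hom)).obj F₀).IsQuasicoherent :=
    qc_pullback (D.map k.hom) F₀
  apply isFinLocFree_of_projective_sections
  intro x
  have hx : D.map k.hom x ∈ ⨆ V ∈ t, (V.1 : (D.obj i₀).Opens) := ht trivial
  obtain ⟨V, hV⟩ := Opens.mem_iSup.1 hx
  obtain ⟨hVt, hxV⟩ := Opens.mem_iSup.1 hV
  letI := stageAlgebra D i₀ V.1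
  obtain ⟨e⟩ := nonempty_stage_sections_equiv D i₀ V.2 F₀ k
  have hfp : Module.FinitePresentation Γ(D.obj k.left, stageOpen D i₀ V.1 k)
      Γ((Scheme.Modules.pullback (D.map k.hom)).obj F₀, stageOpen D i₀ V.1 k) :=
    finitePresentation_pullback_sections (D.map k.hom) (isAffineOpen_stageOpen D i₀ V.1 V.2 k) V.2
      le_rfl F₀ (finitePresentation_sections_of_isFinitePresentation F₀ hF₀ V.2)
  refine ⟨stageOpen D i₀ V.1 k, isAffineOpen_stageOpen D i₀ V.1 V.2 k, hxV, inferInstance, ?_⟩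
  have hkV : Module.Projective Γ(D.obj k.left, stageOpen D i₀ V.1 k)
      (Γ(D.obj k.left, stageOpen D i₀ V.1 k) ⊗[Γ(D.obj i₀, V.1)] Γ(F₀, V.1)) := hk V hVt
  exact Module.Projective.of_equiv e

end

end Groth.Agent.H5.Lim
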