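import Groth.Agent.Lib.Helper5.Lim.ModuleGlue
import Groth.Agent.Lib.Helper5.Lim.ModuleLocFree

set_option autoImplicit false
universe u
open CategoryTheory CategoryTheory.Limits AlgebraicGeometry Opposite TopologicalSpace TensorProduct
open Groth.Agent.LD.QC

namespace Groth.Agent.H5.Lim

section

variable {I : Type u} [SmallCategory I] (D : I ⥤ Scheme.{u}) (c : Cone D)
  (i₀ : I) (G₀ : (D.obj i₀).Modules) (V : (D.obj i₀).Opens)

/-- transport of sections from a stage to the limit. -/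
noncomputable def toLimSec (k : Over i₀) :
    Γ((Scheme.Modules.pullback (D.map k.hom)).obj G₀, stageOpen D i₀ V k) →
      Γ((Scheme.Modules.pullback (c.π.app i₀)).obj G₀, limOpen D c i₀ V) :=
  trSec (c.π.app k.left) (D.map k.hom) (c.π.app i₀) (c.w k.hom) G₀ (limOpen_le D c i₀ V k)

lemma hw_of_hom {k k' : Over i₀} (a : k' ⟶ k) : D.map a.left ≫ D.map k.hom = D.map k'.hom := by
  rw [← D.map_comp, Over.w a]

/-- transport of sections from a stage to a later stage. -/
noncomputable def transSec {k k' : Over i₀} (a : k' ⟶ k) :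
    Γ((Scheme.Modules.pullback (D.map k.hom)).obj G₀, stageOpen D i₀ V k) →
      Γ((Scheme.Modules.pullback (D.map k'.hom)).obj G₀, stageOpen D i₀ V k') :=
  trSec (D.map a.left) (D.map k.hom) (D.map k'.hom) (hw_of_hom D i₀ a) G₀ (stageOpen_le D i₀ V a)

lemma toLimSec_add (k : Over i₀) (x y) :
    toLimSec D c i₀ G₀ V k (x + y) = toLimSec D c i₀ G₀ V k x + toLimSec D c i₀ G₀ V k y :=
  trSec_add _ _ _ _ _ _ x y

lemma toLimSec_sub (k : Over i₀) (x y) :
    toLimSec D c i₀ G₀ V k (x - y) = toLimSec D c i₀ G₀ V k x - toLimSec D c i₀ G₀ V k y :=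
  trSec_sub _ _ _ _ _ _ x y

lemma toLimSec_smul (k : Over i₀) (r : Γ(D.obj k.left, stageOpen D i₀ V k)) (x) :
    toLimSec D c i₀ G₀ V k (r • x) = (stageToLim D c i₀ V k r) • toLimSec D c i₀ G₀ V k x :=
  trSec_smul _ _ _ _ _ _ r x

lemma toLimSec_pbSec (k : Over i₀) (n : Γ(G₀, V)) :
    toLimSec D c i₀ G₀ V k (pbSec (D.map k.hom) G₀ (le_refl _) n) =
      pbSec (c.π.app i₀) G₀ (le_refl _) n :=
  trSec_pbSec _ _ _ _ _ _ _ _ n

lemma toLimSec_res {V' : (D.obj i₀).Opens} (h : V' ≤ V) (k : Over i₀) (x) :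
    ((Scheme.Modules.pullback (c.π.app i₀)).obj G₀).presheaf.map
        (homOfLE ((c.π.app i₀).preimage_mono h)).op (toLimSec D c i₀ G₀ V k x) =
      toLimSec D c i₀ G₀ V' k (((Scheme.Modules.pullback (D.map k.hom)).obj G₀).presheaf.map
        (homOfLE ((D.map k.hom).preimage_mono h)).op x) :=
  trSec_res _ _ _ _ _ _ _ _ _ x

variable {k k' : Over i₀} (a : k' ⟶ k)

lemma transSec_add (x y) :
    transSec D i₀ G₀ V a (x + y) = transSec D i₀ G₀ V a x + transSec D i₀ G₀ V a y :=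
  trSec_add _ _ _ _ _ _ x y

lemma transSec_sub (x y) :
    transSec D i₀ G₀ V a (x - y) = transSec D i₀ G₀ V a x - transSec D i₀ G₀ V a y :=
  trSec_sub _ _ _ _ _ _ x y

lemma transSec_smul (r : Γ(D.obj k.left, stageOpen D i₀ V k)) (x) :
    transSec D i₀ G₀ V a (r • x) = (stageTrans D i₀ V a r) • transSec D i₀ G₀ V a x :=
  trSec_smul _ _ _ _ _ _ r x

lemma transSec_pbSec (n : Γ(G₀, V)) :
    transSec D i₀ G₀ V a (pbSec (D.map k.hom) G₀ (le_refl _) n) =
      pbSec (D.map k'.hom) G₀ (le_refl _) n :=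
  trSec_pbSec _ _ _ _ _ _ _ _ n

lemma transSec_res {V' : (D.obj i₀).Opens} (h : V' ≤ V) (x) :
    ((Scheme.Modules.pullback (D.map k'.hom)).obj G₀).presheaf.map
        (homOfLE ((D.map k'.hom).preimage_mono h)).op (transSec D i₀ G₀ V a x) =
      transSec D i₀ G₀ V' a (((Scheme.Modules.pullback (D.map k.hom)).obj G₀).presheaf.map
        (homOfLE ((D.map k.hom).preimage_mono h)).op x) :=
  trSec_res _ _ _ _ _ _ _ _ _ x

end

end Groth.Agent.H5.Lim

namespace Groth.Agent.H5.Lim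

section

variable {I : Type u} [SmallCategory I] [IsCofiltered I] (D : I ⥤ Scheme.{u}) (c : Cone D)
  (hc : IsLimit c) [∀ (i j : I) (f : i ⟶ j), IsAffineHom (D.map f)]
  (i₀ : I) (G₀ : (D.obj i₀).Modules) [G₀.IsQuasicoherent] {V : (D.obj i₀).Opens}
  (hV : IsAffineOpen V)

include hV in
lemma toLimSec_transSec {k k' : Over i₀} (a : k' ⟶ k) (x) :
    toLimSec D c i₀ G₀ V k' (transSec D i₀ G₀ V a x) = toLimSec D c i₀ G₀ V k x := by
  refine eq_of_semilinear_of_pbSec (D.map k.hom) hV G₀ (isAffineOpen_stageOpen D i₀ V hV k)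
    (le_refl _) (stageToLim D c i₀ V k).hom
    (fun x => toLimSec D c i₀ G₀ V k' (transSec D i₀ G₀ V a x))
    (fun x => toLimSec D c i₀ G₀ V k x)
    (fun x y => by rw [transSec_add, toLimSec_add])
    (fun r x => by
      rw [transSec_smul, toLimSec_smul, ← stageTrans_comp_stageToLim D c i₀ V a]
      rfl)
    (fun x y => toLimSec_add D c i₀ G₀ V k x y)
    (fun r x => toLimSec_smul D c i₀ G₀ V k r x)
    (fun n => ?_) x
  rw [transSec_pbSec, toLimSec_pbSec, toLimSec_pbSec]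

include hV in
lemma transSec_transSec {k k' k'' : Over i₀} (a : k' ⟶ k) (b : k'' ⟶ k') (x) :
    transSec D i₀ G₀ V b (transSec D i₀ G₀ V a x) = transSec D i₀ G₀ V (b ≫ a) x := by
  refine eq_of_semilinear_of_pbSec (D.map k.hom) hV G₀ (isAffineOpen_stageOpen D i₀ V hV k)
    (le_refl _) (stageTrans D i₀ V (b ≫ a)).hom
    (fun x => transSec D i₀ G₀ V b (transSec D i₀ G₀ V a x))
    (fun x => transSec D i₀ G₀ V (b ≫ a) x)
    (fun x y => by rw [transSec_add, transSec_add])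
    (fun r x => by
      rw [transSec_smul, transSec_smul, ← stageTrans_comp D i₀ V a b]
      rfl)
    (fun x y => transSec_add D i₀ G₀ V (b ≫ a) x y)
    (fun r x => transSec_smul D i₀ G₀ V (b ≫ a) r x)
    (fun n => ?_) x
  rw [transSec_pbSec, transSec_pbSec, transSec_pbSec]

end

end Groth.Agent.H5.Lim

namespace Groth.Agent.H5.Lim

section

variable {I : Type u} [SmallCategory I] [IsCofiltered I] (D : I ⥤ Scheme.{u}) (c : Cone D)
  (hc : IsLimit c) [∀ (i j : I) (f : i ⟶ j), IsAffineHom (D.map f)]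
  (i₀ : I) (G₀ : (D.obj i₀).Modules) [G₀.IsQuasicoherent] {V : (D.obj i₀).Opens}
  (hV : IsAffineOpen V)

/-- the base change equivalence at a stage. -/
noncomputable def stageEquiv (k : Over i₀) :
    letI := stageAlgebra D i₀ V
    Γ(D.obj k.left, stageOpen D i₀ V k) ⊗[Γ(D.obj i₀, V)] Γ(G₀, V)
      ≃ₗ[Γ(D.obj k.left, stageOpen D i₀ V k)]
        Γ((Scheme.Modules.pullback (D.map k.hom)).obj G₀, stageOpen D i₀ V k) :=
  letI := stageAlgebra D i₀ V
  letI := pbModule (D.map k.hom) G₀ (le_refl (stageOpen D i₀ V k))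
  haveI : IsScalarTower Γ(D.obj i₀, V) Γ(D.obj k.left, stageOpen D i₀ V k)
      Γ((Scheme.Modules.pullback (D.map k.hom)).obj G₀, stageOpen D i₀ V k) :=
    pbModule_isScalarTower (D.map k.hom) G₀ (le_refl (stageOpen D i₀ V k))
  have hst : IsBaseChange Γ(D.obj k.left, stageOpen D i₀ V k)
      (pbSecₗ (D.map k.hom) G₀ (le_refl (stageOpen D i₀ V k))) :=
    isBaseChange_pbSec (D.map k.hom) (isAffineOpen_stageOpen D i₀ V hV k) hV le_rfl G₀
  hst.equiv

lemma stageEquiv_tmul (k : Over i₀) (r : Γ(D.obj k.left, stageOpen D i₀ V k)) (n : Γ(G₀, V)) :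
    letI := stageAlgebra D i₀ V
    stageEquiv D i₀ G₀ hV k (r ⊗ₜ n) = r • pbSec (D.map k.hom) G₀ (le_refl _) n := by
  letI := stageAlgebra D i₀ V
  letI := pbModule (D.map k.hom) G₀ (le_refl (stageOpen D i₀ V k))
  haveI : IsScalarTower Γ(D.obj i₀, V) Γ(D.obj k.left, stageOpen D i₀ V k)
      Γ((Scheme.Modules.pullback (D.map k.hom)).obj G₀, stageOpen D i₀ V k) :=
    pbModule_isScalarTower (D.map k.hom) G₀ (le_refl (stageOpen D i₀ V k))
  exact IsBaseChange.equiv_tmul _ r n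

include hc in
/-- the base change equivalence at the limit. -/
noncomputable def limEquiv :
    letI := limAlgebra D c i₀ V
    Γ(c.pt, limOpen D c i₀ V) ⊗[Γ(D.obj i₀, V)] Γ(G₀, V)
      ≃ₗ[Γ(c.pt, limOpen D c i₀ V)]
        Γ((Scheme.Modules.pullback (c.π.app i₀)).obj G₀, limOpen D c i₀ V) :=
  letI := limAlgebra D c i₀ V
  letI := pbModule (c.π.app i₀) G₀ (le_refl (limOpen D c i₀ V))
  haveI : IsScalarTower Γ(D.obj i₀, V) Γ(c.pt, limOpen D c i₀ V)
      Γ((Scheme.Modules.pullback (c.π.app i₀)).obj G₀, limOpen D c i₀ V) :=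
    pbModule_isScalarTower (c.π.app i₀) G₀ (le_refl (limOpen D c i₀ V))
  have hlim : IsBaseChange Γ(c.pt, limOpen D c i₀ V)
      (pbSecₗ (c.π.app i₀) G₀ (le_refl (limOpen D c i₀ V))) :=
    isBaseChange_pbSec (c.π.app i₀) (isAffineOpen_limOpen D c hc i₀ V hV) hV le_rfl G₀
  hlim.equiv

lemma limEquiv_tmul (r : Γ(c.pt, limOpen D c i₀ V)) (n : Γ(G₀, V)) :
    letI := limAlgebra D c i₀ V
    limEquiv D c hc i₀ G₀ hV (r ⊗ₜ n) = r • pbSec (c.π.app i₀) G₀ (le_refl _) n := by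
  letI := limAlgebra D c i₀ V
  letI := pbModule (c.π.app i₀) G₀ (le_refl (limOpen D c i₀ V))
  haveI : IsScalarTower Γ(D.obj i₀, V) Γ(c.pt, limOpen D c i₀ V)
      Γ((Scheme.Modules.pullback (c.π.app i₀)).obj G₀, limOpen D c i₀ V) :=
    pbModule_isScalarTower (c.π.app i₀) G₀ (le_refl (limOpen D c i₀ V))
  exact IsBaseChange.equiv_tmul _ r n

/-- the maps to the limit as algebra homomorphisms. -/
noncomputable def stageToLimAlgHom (V : (D.obj i₀).Opens) (k : Over i₀) :
    letI := stageAlgebra D i₀ V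
    letI := limAlgebra D c i₀ V
    Γ(D.obj k.left, stageOpen D i₀ V k) →ₐ[Γ(D.obj i₀, V)] Γ(c.pt, limOpen D c i₀ V) :=
  letI := stageAlgebra D i₀ V
  letI := limAlgebra D c i₀ V
  { toRingHom := (stageToLim D c i₀ V k).hom
    commutes' := fun r => by
      have := app_comp_stageToLim D c i₀ V k
      exact congrArg (fun φ : Γ(D.obj i₀, V) ⟶ Γ(c.pt, limOpen D c i₀ V) => φ.hom r) this }

lemma toLimSec_stageEquiv (k : Over i₀) :
    letI := stageAlgebra D i₀ V
    letI := limAlgebra D c i₀ V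
    ∀ z : Γ(D.obj k.left, stageOpen D i₀ V k) ⊗[Γ(D.obj i₀, V)] Γ(G₀, V),
      toLimSec D c i₀ G₀ V k (stageEquiv D i₀ G₀ hV k z) =
        limEquiv D c hc i₀ G₀ hV
          ((stageToLimAlgHom D c i₀ V k).toLinearMap.rTensor Γ(G₀, V) z) := by
  letI := stageAlgebra D i₀ V
  letI := limAlgebra D c i₀ V
  intro z
  induction z using TensorProduct.induction_on with
  | zero =>
    rw [map_zero, map_zero, map_zero]
    exact trSec_zero _ _ _ _ _ _
  | tmul r n =>
    rw [stageEquiv_tmul, toLimSec_smul, toLimSec_pbSec, LinearMap.rTensor_tmul, limEquiv_tmul]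
    rfl
  | add x y hx hy => rw [map_add, toLimSec_add, hx, hy, map_add, map_add]

lemma transSec_stageEquiv {k k' : Over i₀} (a : k' ⟶ k) :
    letI := stageAlgebra D i₀ V
    ∀ z : Γ(D.obj k.left, stageOpen D i₀ V k) ⊗[Γ(D.obj i₀, V)] Γ(G₀, V),
      transSec D i₀ G₀ V a (stageEquiv D i₀ G₀ hV k z) =
        stageEquiv D i₀ G₀ hV k'
          ((stageTransAlgHom D i₀ V a).toLinearMap.rTensor Γ(G₀, V) z) := by
  letI := stageAlgebra D i₀ V
  intro z
  induction z using TensorProduct.induction_on with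
  | zero =>
    rw [map_zero, map_zero, map_zero]
    exact trSec_zero _ _ _ _ _ _
  | tmul r n =>
    rw [stageEquiv_tmul, transSec_smul, transSec_pbSec, LinearMap.rTensor_tmul, stageEquiv_tmul]
    rfl
  | add x y hx hy => rw [map_add, transSec_add, hx, hy, map_add, map_add]

end

end Groth.Agent.H5.Lim

namespace Groth.Agent.H5.Lim

section

variable {I : Type u} [SmallCategory I] [IsCofiltered I] (D : I ⥤ Scheme.{u}) (c : Cone D)
  (hc : IsLimit c) [∀ (i j : I) (f : i ⟶ j), IsAffineHom (D.map f)]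
  (i₀ : I) (G₀ : (D.obj i₀).Modules) [G₀.IsQuasicoherent] {V : (D.obj i₀).Opens}
  (hV : IsAffineOpen V)

include hc hV in
/-- two sections at a stage (over the preimage of an affine open) with the same image in the limit
have the same image at a later stage. -/
theorem exists_transSec_eq (k : Over i₀)
    (x y : Γ((Scheme.Modules.pullback (D.map k.hom)).obj G₀, stageOpen D i₀ V k))
    (h : toLimSec D c i₀ G₀ V k x = toLimSec D c i₀ G₀ V k y) :
    ∃ (k' : Over i₀) (a : k' ⟶ k), transSec D i₀ G₀ V a x = transSec D i₀ G₀ V a y := by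
  letI := stageAlgebra D i₀ V
  letI := limAlgebra D c i₀ V
  let W := weakColimitOpens D c i₀ V hc hV
  set z := (stageEquiv D i₀ G₀ hV k).symm (x - y) with hz
  have hzx : stageEquiv D i₀ G₀ hV k z = x - y := LinearEquiv.apply_symm_apply _ _
  have h1 : (W.g k).toLinearMap.rTensor Γ(G₀, V) z = 0 := by
    apply (limEquiv D c hc i₀ G₀ hV).injective
    have h2 := toLimSec_stageEquiv D c hc i₀ G₀ hV k z
    rw [hzx, toLimSec_sub, h, sub_self] at h2
    rw [map_zero]
    exact h2.symm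
  obtain ⟨k', φ, ⟨a, rfl⟩, hφ⟩ := W.exists_rTensor_kill Γ(G₀, V) z h1
  refine ⟨k', a, ?_⟩
  have h3 := transSec_stageEquiv D i₀ G₀ hV a z
  rw [hzx, transSec_sub] at h3
  rw [← sub_eq_zero, h3]
  have : (stageTransAlgHom D i₀ V a).toLinearMap.rTensor Γ(G₀, V) z = 0 := hφ
  rw [this, map_zero]

include hc hV in
/-- a semilinear map from a finitely presented module to the sections of the pullback to the limit
(over the preimage of an affine open) lifts to a stage. -/
theorem exists_stage_lift {M : Type u} [AddCommGroup M] [Module Γ(D.obj i₀, V) M]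
    [Module.FinitePresentation Γ(D.obj i₀, V) M]
    (ν : M →+ Γ((Scheme.Modules.pullback (c.π.app i₀)).obj G₀, limOpen D c i₀ V))
    (hν : ∀ (r : Γ(D.obj i₀, V)) (m : M), ν (r • m) = ((c.π.app i₀).app V r) • ν m)
    (k₀ : Over i₀) :
    ∃ (k : Over i₀) (_ : k ⟶ k₀)
      (ν' : M →+ Γ((Scheme.Modules.pullback (D.map k.hom)).obj G₀, stageOpen D i₀ V k)),
      (∀ (r : Γ(D.obj i₀, V)) (m : M), ν' (r • m) = ((D.map k.hom).app V r) • ν' m) ∧
      ∀ m, toLimSec D c i₀ G₀ V k (ν' m) = ν m := by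
  letI := stageAlgebra D i₀ V
  letI := limAlgebra D c i₀ V
  let W := weakColimitOpens D c i₀ V hc hV
  letI := pbModule (c.π.app i₀) G₀ (le_refl (limOpen D c i₀ V))
  haveI : IsScalarTower Γ(D.obj i₀, V) Γ(c.pt, limOpen D c i₀ V)
      Γ((Scheme.Modules.pullback (c.π.app i₀)).obj G₀, limOpen D c i₀ V) :=
    pbModule_isScalarTower (c.π.app i₀) G₀ (le_refl (limOpen D c i₀ V))
  let νlin : M →ₗ[Γ(D.obj i₀, V)]
      Γ((Scheme.Modules.pullback (c.π.app i₀)).obj G₀, limOpen D c i₀ V) :=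
    { toFun := ν
      map_add' := map_add ν
      map_smul' := fun r m => by
        rw [hν, Scheme.Hom.app_eq_appLE]
        rfl }
  let νt : M →ₗ[Γ(D.obj i₀, V)] Γ(c.pt, limOpen D c i₀ V) ⊗[Γ(D.obj i₀, V)] Γ(G₀, V) :=
    ((limEquiv D c hc i₀ G₀ hV).symm.restrictScalars Γ(D.obj i₀, V)).toLinearMap ∘ₗ νlin
  obtain ⟨k, φ, ⟨a, rfl⟩, ν', hν'⟩ := W.exists_lift_linearMap Γ(G₀, V) k₀ νt
  refine ⟨k, a, ⟨⟨fun m => stageEquiv D i₀ G₀ hV k (ν' m), by rw [map_zero, map_zero]⟩,
    fun m m' => by simp only [map_add]⟩, fun r m => ?_, fun m => ?_⟩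
  · show stageEquiv D i₀ G₀ hV k (ν' (r • m)) = _ • stageEquiv D i₀ G₀ hV k (ν' m)
    rw [map_smul, ← algebraMap_smul Γ(D.obj k.left, stageOpen D i₀ V k) r (ν' m), map_smul,
      Scheme.Hom.app_eq_appLE]
    rfl
  · show toLimSec D c i₀ G₀ V k (stageEquiv D i₀ G₀ hV k (ν' m)) = ν m
    rw [toLimSec_stageEquiv D c hc i₀ G₀ hV k (ν' m)]
    have : (stageToLimAlgHom D c i₀ V k).toLinearMap.rTensor Γ(G₀, V) (ν' m) = νt m := hν' m
    rw [this]
    exact LinearEquiv.apply_symm_apply _ _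

end

end Groth.Agent.H5.Lim
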