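import Groth.Agent.Lib.Helper5.Lim.ModuleHomSurj

set_option autoImplicit false
universe u
open CategoryTheory CategoryTheory.Limits AlgebraicGeometry Opposite TopologicalSpace TensorProduct
open Groth.Agent.LD.QC

namespace Groth.Agent.H5.Lim

section

variable {I : Type u} [SmallCategory I] [IsCofiltered I] (D : I ⥤ Scheme.{u}) (c : Cone D)
  (hc : IsLimit c) [∀ (i j : I) (f : i ⟶ j), IsAffineHom (D.map f)]
  (i₀ : I) (F₀ G₀ : (D.obj i₀).Modules) [F₀.IsQuasicoherent] [G₀.IsQuasicoherent]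
  {V : (D.obj i₀).Opens} (hV : IsAffineOpen V)

/-- the value of the local homomorphism determined by `ν` on the pullback of a section over a
smaller affine open. -/
noncomputable def locRestrict (k : Over i₀)
    (ν : Γ(F₀, V) →+ Γ((Scheme.Modules.pullback (D.map k.hom)).obj G₀, stageOpen D i₀ V k))
    (hν : ∀ (r : Γ(D.obj i₀, V)) (m : Γ(F₀, V)), ν (r • m) = ((D.map k.hom).app V r) • ν m)
    {V' : (D.obj i₀).Opens} (hV' : IsAffineOpen V') (hV'V : V' ≤ V) (m' : Γ(F₀, V')) :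
    Γ((Scheme.Modules.pullback (D.map k.hom)).obj G₀, stageOpen D i₀ V' k) :=
  locApp (D.map k.hom) hV F₀ ((Scheme.Modules.pullback (D.map k.hom)).obj G₀) ν hν
    (stageOpen D i₀ V' k) (isAffineOpen_stageOpen D i₀ V' hV' k)
    ((D.map k.hom).preimage_mono hV'V) (pbSec (D.map k.hom) F₀ (le_refl _) m')

/-- the image in the limit of `locRestrict`. -/
theorem toLimSec_locRestrict (k : Over i₀)
    (ν : Γ(F₀, V) →+ Γ((Scheme.Modules.pullback (D.map k.hom)).obj G₀, stageOpen D i₀ V k))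
    (hν : ∀ (r : Γ(D.obj i₀, V)) (m : Γ(F₀, V)), ν (r • m) = ((D.map k.hom).app V r) • ν m)
    (h : (Scheme.Modules.pullback (c.π.app i₀)).obj F₀ ⟶
      (Scheme.Modules.pullback (c.π.app i₀)).obj G₀)
    (hlim : ∀ m, toLimSec D c i₀ G₀ V k (ν m) =
      h.app (limOpen D c i₀ V) (pbSec (c.π.app i₀) F₀ (le_refl _) m))
    {V' : (D.obj i₀).Opens} (hV' : IsAffineOpen V') (hV'V : V' ≤ V) (m' : Γ(F₀, V')) :
    toLimSec D c i₀ G₀ V' k (locRestrict D i₀ F₀ G₀ hV k ν hν hV' hV'V m') =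
      h.app (limOpen D c i₀ V') (pbSec (c.π.app i₀) F₀ (le_refl _) m') := by
  have hU : stageOpen D i₀ V' k ≤ (D.map k.hom) ⁻¹ᵁ V := (D.map k.hom).preimage_mono hV'V
  have hUaff := isAffineOpen_stageOpen D i₀ V' hV' k
  have key := eq_of_semilinear_of_pbSec (D.map k.hom) hV F₀ hUaff hU
    (stageToLim D c i₀ V' k).hom
    (fun s => toLimSec D c i₀ G₀ V' k
      (locApp (D.map k.hom) hV F₀ ((Scheme.Modules.pullback (D.map k.hom)).obj G₀) ν hν
        (stageOpen D i₀ V' k) hUaff hU s))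
    (fun s => h.app (limOpen D c i₀ V') (toLimSec D c i₀ F₀ V' k s))
    (fun x y => by rw [map_add, toLimSec_add])
    (fun r x => by rw [map_smul, toLimSec_smul])
    (fun x y => by rw [toLimSec_add, map_add])
    (fun r x => by rw [toLimSec_smul, Scheme.Modules.Hom.app_smul])
    (fun m => ?_) (pbSec (D.map k.hom) F₀ (le_refl _) m')
  · have := key
    simp only [toLimSec_pbSec] at this
    exact this
  · have e1 : limOpen D c i₀ V' ≤ (c.π.app i₀) ⁻¹ᵁ V := (c.π.app i₀).preimage_mono hV'V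
    have e2 : toLimSec D c i₀ F₀ V' k (pbSec (D.map k.hom) F₀ hU m) =
        pbSec (c.π.app i₀) F₀ e1 m := trSec_pbSec _ _ _ _ _ _ _ _ m
    have e3 : pbSec (c.π.app i₀) F₀ e1 m =
        ((Scheme.Modules.pullback (c.π.app i₀)).obj F₀).presheaf.map (homOfLE e1).op
          (pbSec (c.π.app i₀) F₀ (le_refl _) m) := by
      rw [← pbSec_res (c.π.app i₀) F₀ (le_refl _) e1 e1 le_rfl m, res_self]
    rw [locApp_pbSec, e2, e3, app_res, ← hlim m]
    exact (toLimSec_res D c i₀ G₀ V hV'V k (ν m)).symm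

/-- `locRestrict` commutes with transport to a later stage. -/
theorem transSec_locRestrict {k k' : Over i₀} (a : k' ⟶ k)
    (ν : Γ(F₀, V) →+ Γ((Scheme.Modules.pullback (D.map k.hom)).obj G₀, stageOpen D i₀ V k))
    (hν : ∀ (r : Γ(D.obj i₀, V)) (m : Γ(F₀, V)), ν (r • m) = ((D.map k.hom).app V r) • ν m)
    (ν' : Γ(F₀, V) →+ Γ((Scheme.Modules.pullback (D.map k'.hom)).obj G₀, stageOpen D i₀ V k'))
    (hν' : ∀ (r : Γ(D.obj i₀, V)) (m : Γ(F₀, V)), ν' (r • m) = ((D.map k'.hom).app V r) • ν' m)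
    (hνν' : ∀ m, ν' m = transSec D i₀ G₀ V a (ν m))
    {V' : (D.obj i₀).Opens} (hV' : IsAffineOpen V') (hV'V : V' ≤ V) (m' : Γ(F₀, V')) :
    locRestrict D i₀ F₀ G₀ hV k' ν' hν' hV' hV'V m' =
      transSec D i₀ G₀ V' a (locRestrict D i₀ F₀ G₀ hV k ν hν hV' hV'V m') := by
  have hU : stageOpen D i₀ V' k ≤ (D.map k.hom) ⁻¹ᵁ V := (D.map k.hom).preimage_mono hV'V
  have hU' : stageOpen D i₀ V' k' ≤ (D.map k'.hom) ⁻¹ᵁ V := (D.map k'.hom).preimage_mono hV'V
  have hUaff := isAffineOpen_stageOpen D i₀ V' hV' k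
  have hU'aff := isAffineOpen_stageOpen D i₀ V' hV' k'
  have key := eq_of_semilinear_of_pbSec (D.map k.hom) hV F₀ hUaff hU
    (stageTrans D i₀ V' a).hom
    (fun s => locApp (D.map k'.hom) hV F₀ ((Scheme.Modules.pullback (D.map k'.hom)).obj G₀) ν' hν'
        (stageOpen D i₀ V' k') hU'aff hU' (transSec D i₀ F₀ V' a s))
    (fun s => transSec D i₀ G₀ V' a
      (locApp (D.map k.hom) hV F₀ ((Scheme.Modules.pullback (D.map k.hom)).obj G₀) ν hν
        (stageOpen D i₀ V' k) hUaff hU s))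
    (fun x y => by rw [transSec_add, map_add])
    (fun r x => by rw [transSec_smul, map_smul])
    (fun x y => by rw [map_add, transSec_add])
    (fun r x => by rw [map_smul, transSec_smul])
    (fun m => ?_) (pbSec (D.map k.hom) F₀ (le_refl _) m')
  · have := key
    simp only [transSec_pbSec] at this
    exact this
  · have e2 : transSec D i₀ F₀ V' a (pbSec (D.map k.hom) F₀ hU m) =
        pbSec (D.map k'.hom) F₀ hU' m := trSec_pbSec _ _ _ _ _ _ _ _ m
    rw [e2, locApp_pbSec, locApp_pbSec, hνν' m]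
    exact transSec_res D i₀ G₀ V a hV'V (ν m)

end

end Groth.Agent.H5.Lim
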