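import Groth.Agent.Lib.Helper5.Lim.ModuleHomSurj2

set_option autoImplicit false
universe u
open CategoryTheory CategoryTheory.Limits AlgebraicGeometry Opposite TopologicalSpace TensorProduct
open Groth.Agent.LD.QC

namespace Groth.Agent.H5.Lim

/-- a quasi-compact open of a scheme has a finite cover by affine opens contained in it. -/
lemma exists_finset_affineOpens_cover_of_isCompact (X : Scheme.{u}) (U : X.Opens)
    (hU : IsCompact (U : Set X)) :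
    ∃ T : Finset X.affineOpens, (∀ c ∈ T, c.1 ≤ U) ∧ U ≤ ⨆ c ∈ T, (c.1 : X.Opens) := by
  classical
  obtain ⟨T, hT⟩ := hU.elim_finite_subcover
    (fun V : {V : X.affineOpens // V.1 ≤ U} => (V.1.1 : Set X)) (fun V => V.1.1.2) (by
      intro x hx
      obtain ⟨V, hV, hxV, hVU⟩ := exists_isAffineOpen_mem_and_subset (x := x) (U := U) hx
      exact Set.mem_iUnion.2 ⟨⟨⟨V, hV⟩, hVU⟩, hxV⟩)
  refine ⟨T.image Subtype.val, ?_, ?_⟩
  · intro c hc
    obtain ⟨V, -, rfl⟩ := Finset.mem_image.1 hc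
    exact V.2
  · intro x hx
    obtain ⟨V, hV⟩ := Set.mem_iUnion.1 (hT hx)
    obtain ⟨hVT, hxV⟩ := Set.mem_iUnion.1 hV
    exact Opens.mem_iSup.2 ⟨V.1, Opens.mem_iSup.2 ⟨Finset.mem_image_of_mem _ hVT, hxV⟩⟩

section

variable {I : Type u} [SmallCategory I] [IsCofiltered I] (D : I ⥤ Scheme.{u}) (c : Cone D)
  (hc : IsLimit c) [∀ (i j : I) (f : i ⟶ j), IsAffineHom (D.map f)]
  (i₀ : I) (F₀ G₀ : (D.obj i₀).Modules) [F₀.IsQuasicoherent] [G₀.IsQuasicoherent]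

omit [IsCofiltered I] [∀ (i j : I) (f : i ⟶ j), IsAffineHom (D.map f)] [F₀.IsQuasicoherent]
  [G₀.IsQuasicoherent] in
/-- transport of a local lift to a later stage. -/
lemma exists_transLift {V : (D.obj i₀).Opens} {k k' : Over i₀} (a : k' ⟶ k)
    (ν : Γ(F₀, V) →+ Γ((Scheme.Modules.pullback (D.map k.hom)).obj G₀, stageOpen D i₀ V k))
    (hν : ∀ (r : Γ(D.obj i₀, V)) (m : Γ(F₀, V)), ν (r • m) = ((D.map k.hom).app V r) • ν m) :
    ∃ (ν' : Γ(F₀, V) →+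
        Γ((Scheme.Modules.pullback (D.map k'.hom)).obj G₀, stageOpen D i₀ V k')),
      (∀ (r : Γ(D.obj i₀, V)) (m : Γ(F₀, V)), ν' (r • m) = ((D.map k'.hom).app V r) • ν' m) ∧
      ∀ m, ν' m = transSec D i₀ G₀ V a (ν m) := by
  refine ⟨AddMonoidHom.mk' (fun m => transSec D i₀ G₀ V a (ν m))
    (fun m m' => by rw [map_add, transSec_add]), fun r m => ?_, fun m => rfl⟩
  show transSec D i₀ G₀ V a (ν (r • m)) = _ • transSec D i₀ G₀ V a (ν m)
  rw [hν, transSec_smul]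
  congr 1
  have := app_comp_stageTrans D i₀ V a
  rw [Scheme.Hom.app_eq_appLE, Scheme.Hom.app_eq_appLE]
  exact congrArg (fun φ : Γ(D.obj i₀, V) ⟶ Γ(D.obj k'.left, stageOpen D i₀ V k') => φ.hom r) this

end

end Groth.Agent.H5.Lim

namespace Groth.Agent.H5.Lim

section

variable {I : Type u} [SmallCategory I] [IsCofiltered I] (D : I ⥤ Scheme.{u}) (c : Cone D)
  (hc : IsLimit c) [∀ (i j : I) (f : i ⟶ j), IsAffineHom (D.map f)]
  (i₀ : I) (F₀ G₀ : (D.obj i₀).Modules) [G₀.IsQuasicoherent]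

/-- a local lift of `h` at the stage `k` over the affine open `V`. -/
def IsLocalLift (h : (Scheme.Modules.pullback (c.π.app i₀)).obj F₀ ⟶
      (Scheme.Modules.pullback (c.π.app i₀)).obj G₀) (V : (D.obj i₀).Opens) (k : Over i₀)
    (ν : Γ(F₀, V) →+ Γ((Scheme.Modules.pullback (D.map k.hom)).obj G₀, stageOpen D i₀ V k)) :
    Prop :=
  (∀ (r : Γ(D.obj i₀, V)) (m : Γ(F₀, V)), ν (r • m) = ((D.map k.hom).app V r) • ν m) ∧
    ∀ m, toLimSec D c i₀ G₀ V k (ν m) =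
      h.app (limOpen D c i₀ V) (pbSec (c.π.app i₀) F₀ (le_refl _) m)

include hc in
/-- local lifts exist at some stage over each affine open. -/
lemma exists_isLocalLift (hF₀ : F₀.IsFinitePresentation)
    (h : (Scheme.Modules.pullback (c.π.app i₀)).obj F₀ ⟶
      (Scheme.Modules.pullback (c.π.app i₀)).obj G₀) {V : (D.obj i₀).Opens}
    (hV : IsAffineOpen V) : ∃ k ν, IsLocalLift D c i₀ F₀ G₀ h V k ν := by
  haveI : Module.FinitePresentation Γ(D.obj i₀, V) Γ(F₀, V) :=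
    finitePresentation_sections_of_isFinitePresentation F₀ hF₀ hV
  let νinf : Γ(F₀, V) →+ Γ((Scheme.Modules.pullback (c.π.app i₀)).obj G₀, limOpen D c i₀ V) :=
    AddMonoidHom.mk' (fun m => h.app (limOpen D c i₀ V) (pbSec (c.π.app i₀) F₀ (le_refl _) m))
      (fun m m' => by rw [pbSec_add, map_add])
  obtain ⟨k, -, ν', hν', hlim⟩ := exists_stage_lift D c hc i₀ G₀ hV νinf (fun r m => by
    show h.app _ (pbSec _ F₀ _ (r • m)) = _ • h.app _ (pbSec _ F₀ _ m)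
    rw [pbSec_smul, Scheme.Modules.Hom.app_smul, Scheme.Hom.app_eq_appLE]) (Over.mk (𝟙 i₀))
  exact ⟨k, ν', hν', hlim⟩

lemma IsLocalLift.trans {h : (Scheme.Modules.pullback (c.π.app i₀)).obj F₀ ⟶
      (Scheme.Modules.pullback (c.π.app i₀)).obj G₀} {V : (D.obj i₀).Opens}
    (hV : IsAffineOpen V) {k k' : Over i₀} (a : k' ⟶ k)
    {ν : Γ(F₀, V) →+ Γ((Scheme.Modules.pullback (D.map k.hom)).obj G₀, stageOpen D i₀ V k)}
    (hν : IsLocalLift D c i₀ F₀ G₀ h V k ν)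
    {ν' : Γ(F₀, V) →+ Γ((Scheme.Modules.pullback (D.map k'.hom)).obj G₀, stageOpen D i₀ V k')}
    (hν' : ∀ (r : Γ(D.obj i₀, V)) (m : Γ(F₀, V)), ν' (r • m) = ((D.map k'.hom).app V r) • ν' m)
    (hνν' : ∀ m, ν' m = transSec D i₀ G₀ V a (ν m)) :
    IsLocalLift D c i₀ F₀ G₀ h V k' ν' :=
  ⟨hν', fun m => by rw [hνν', toLimSec_transSec D c i₀ G₀ hV a, hν.2]⟩

end

end Groth.Agent.H5.Lim

namespace Groth.Agent.H5.Lim

section

variable {I : Type u} [SmallCategory I] [IsCofiltered I] (D : I ⥤ Scheme.{u}) (c : Cone D)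
  (hc : IsLimit c) [∀ (i j : I) (f : i ⟶ j), IsAffineHom (D.map f)]
  (i₀ : I) (F₀ G₀ : (D.obj i₀).Modules) [G₀.IsQuasicoherent]

include hc in
/-- **EGA IV 8.5.2 (i), surjectivity**: a homomorphism between the pullbacks to the limit of a
finitely presented module and a quasi-coherent module on a quasi-compact quasi-separated stage
comes from a stage. Sections-level form. -/
theorem exists_stage_hom_sections [CompactSpace (D.obj i₀)] [QuasiSeparatedSpace (D.obj i₀)]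
    (hF₀ : F₀.IsFinitePresentation)
    (h : (Scheme.Modules.pullback (c.π.app i₀)).obj F₀ ⟶
      (Scheme.Modules.pullback (c.π.app i₀)).obj G₀) :
    ∃ (k : Over i₀) (ψ : (Scheme.Modules.pullback (D.map k.hom)).obj F₀ ⟶
        (Scheme.Modules.pullback (D.map k.hom)).obj G₀)
      (t : Finset (D.obj i₀).affineOpens), (⊤ : (D.obj i₀).Opens) ≤ ⨆ V ∈ t, (V.1 : (D.obj i₀).Opens) ∧
      ∀ V ∈ t, ∀ m : Γ(F₀, V.1),
        toLimSec D c i₀ G₀ V.1 k (ψ.app (stageOpen D i₀ V.1 k)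
          (pbSec (D.map k.hom) F₀ (le_refl _) m)) =
        h.app (limOpen D c i₀ V.1) (pbSec (c.π.app i₀) F₀ (le_refl _) m) := by
  classical
  haveI : F₀.IsQuasicoherent := inferInstance
  have hft : F₀.IsFiniteType := inferInstance
  obtain ⟨t, ht⟩ := exists_finset_affineOpens_cover (D.obj i₀)
  -- step 1: local lifts at a common stage
  obtain ⟨k₁, -, hk₁⟩ := exists_common_stage (t : Set (D.obj i₀).affineOpens) t.finite_toSet
    (fun V k => ∃ ν, IsLocalLift D c i₀ F₀ G₀ h V.1 k ν)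
    (fun V _ => exists_isLocalLift D c hc i₀ F₀ G₀ hF₀ h V.2)
    (fun V k k' a ⟨ν, hν⟩ => by
      obtain ⟨ν', hν', hνν'⟩ := exists_transLift D i₀ F₀ G₀ a ν hν.1
      exact ⟨ν', hν.trans D c i₀ F₀ G₀ V.2 a hν' hνν'⟩) (Over.mk (𝟙 i₀))
  choose! ν₁ hν₁ using hk₁
  -- the lifts at later stages
  have hνκ : ∀ (κ : Over k₁) (V : (D.obj i₀).affineOpens), V ∈ t →
      ∃ ν', IsLocalLift D c i₀ F₀ G₀ h V.1 κ.left ν' ∧
        ∀ m, ν' m = transSec D i₀ G₀ V.1 κ.hom (ν₁ V m) := by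
    intro κ V hV
    obtain ⟨ν', hν', hνν'⟩ := exists_transLift D i₀ F₀ G₀ κ.hom (ν₁ V) (hν₁ V hV).1
    exact ⟨ν', (hν₁ V hV).trans D c i₀ F₀ G₀ V.2 κ.hom hν' hνν', hνν'⟩
  choose! νκ hνκ1 hνκ2 using hνκ
  -- finite affine covers of the overlaps
  have hT : ∀ a b : (D.obj i₀).affineOpens, ∃ T : Finset (D.obj i₀).affineOpens,
      (∀ c ∈ T, c.1 ≤ a.1 ⊓ b.1) ∧ a.1 ⊓ b.1 ≤ ⨆ c ∈ T, (c.1 : (D.obj i₀).Opens) := fun a b =>
    exists_finset_affineOpens_cover_of_isCompact _ _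
      (QuasiSeparatedSpace.inter_isCompact _ _ a.1.2 a.2.isCompact b.1.2 b.2.isCompact)
  choose T hT1 hT2 using hT
  -- generators
  have hfin : ∀ V : (D.obj i₀).affineOpens, Module.Finite Γ(D.obj i₀, V.1) Γ(F₀, V.1) :=
    fun V => finite_sections_of_isFiniteType F₀ hft V.2
  choose gens hgens using fun V : (D.obj i₀).affineOpens => (hfin V).fg_top
  -- step 2: the overlap conditions at a common later stage
  let Idx := ((D.obj i₀).affineOpens × (D.obj i₀).affineOpens) ×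
    (Σ V : (D.obj i₀).affineOpens, Γ(F₀, V.1))
  let S : Set Idx := ⋃ a ∈ t, ⋃ b ∈ t, ⋃ V ∈ T a b,
    (fun m => (((a, b), ⟨V, m⟩) : Idx)) '' (gens V : Set _)
  have hS : S.Finite :=
    Set.Finite.biUnion t.finite_toSet fun a _ => Set.Finite.biUnion t.finite_toSet fun b _ =>
      Set.Finite.biUnion (T a b).finite_toSet fun V _ => (Finset.finite_toSet _).image _
  let P : Idx → Over k₁ → Prop := fun p κ =>
    ∀ (hat : p.1.1 ∈ t) (hbt : p.1.2 ∈ t) (ha : p.2.1.1 ≤ p.1.1.1) (hb : p.2.1.1 ≤ p.1.2.1),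
      locRestrict D i₀ F₀ G₀ p.1.1.2 κ.left (νκ κ p.1.1) (hνκ1 κ p.1.1 hat).1 p.2.1.2 ha p.2.2 =
        locRestrict D i₀ F₀ G₀ p.1.2.2 κ.left (νκ κ p.1.2) (hνκ1 κ p.1.2 hbt).1 p.2.1.2 hb p.2.2
  have hP : ∀ p ∈ S, ∃ κ, P p κ := by
    intro p hp
    simp only [S, Set.mem_iUnion, Set.mem_image] at hp
    obtain ⟨a, ha't, b, hb't, V, hV'T, m, hm', rfl⟩ := hp
    have hVa : V.1 ≤ a.1 := (hT1 a b V hV'T).trans inf_le_left
    have hVb : V.1 ≤ b.1 := (hT1 a b V hV'T).trans inf_le_right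
    obtain ⟨k', α, hα⟩ := exists_transSec_eq D c hc i₀ G₀ V.2 k₁
      (locRestrict D i₀ F₀ G₀ a.2 k₁ (ν₁ a) (hν₁ a ha't).1 V.2 hVa m)
      (locRestrict D i₀ F₀ G₀ b.2 k₁ (ν₁ b) (hν₁ b hb't).1 V.2 hVb m) (by
        rw [toLimSec_locRestrict D c i₀ F₀ G₀ a.2 k₁ _ _ h (hν₁ a ha't).2,
          toLimSec_locRestrict D c i₀ F₀ G₀ b.2 k₁ _ _ h (hν₁ b hb't).2])
    refine ⟨Over.mk α, fun hat hbt ha hb => ?_⟩
    show locRestrict D i₀ F₀ G₀ a.2 k' (νκ (Over.mk α) a) (hνκ1 (Over.mk α) a hat).1 V.2 ha m =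
      locRestrict D i₀ F₀ G₀ b.2 k' (νκ (Over.mk α) b) (hνκ1 (Over.mk α) b hbt).1 V.2 hb m
    rw [transSec_locRestrict D i₀ F₀ G₀ a.2 α (ν₁ a) (hν₁ a hat).1 _ _ (hνκ2 (Over.mk α) a hat),
      transSec_locRestrict D i₀ F₀ G₀ b.2 α (ν₁ b) (hν₁ b hbt).1 _ _ (hνκ2 (Over.mk α) b hbt)]
    exact hα
  have hmono : ∀ (p : Idx) (κ κ' : Over k₁) (_ : κ' ⟶ κ), P p κ → P p κ' := by
    intro p κ κ' β hpκ hat hbt ha hb
    have hνν' : ∀ (V : (D.obj i₀).affineOpens), V ∈ t → ∀ m,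
        νκ κ' V m = transSec D i₀ G₀ V.1 β.left (νκ κ V m) := by
      intro V hV m
      rw [hνκ2 κ' V hV, hνκ2 κ V hV, transSec_transSec D i₀ G₀ V.2, Over.w β]
    rw [transSec_locRestrict D i₀ F₀ G₀ p.1.1.2 β.left (νκ κ p.1.1) (hνκ1 κ p.1.1 hat).1 _ _
        (hνν' p.1.1 hat),
      transSec_locRestrict D i₀ F₀ G₀ p.1.2.2 β.left (νκ κ p.1.2) (hνκ1 κ p.1.2 hbt).1 _ _
        (hνν' p.1.2 hbt), hpκ hat hbt ha hb]
  obtain ⟨κ, -, hκ⟩ := exists_common_stage S hS P hP hmono (Over.mk (𝟙 k₁))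
  -- step 3: gluing
  have hcov : ∀ y : D.obj i₀, ∃ a : {a : (D.obj i₀).affineOpens // a ∈ t}, y ∈ a.1.1 := by
    intro y
    obtain ⟨V, hV⟩ := Opens.mem_iSup.1 (ht (show y ∈ (⊤ : (D.obj i₀).Opens) from trivial))
    obtain ⟨hVt, hyV⟩ := Opens.mem_iSup.1 hV
    exact ⟨⟨V, hVt⟩, hyV⟩
  obtain ⟨ψ, hψ⟩ := exists_glue (D.map κ.left.hom)
    (fun a : {a : (D.obj i₀).affineOpens // a ∈ t} => a.1.1) (fun a => a.1.2) hcov F₀
    ((Scheme.Modules.pullback (D.map κ.left.hom)).obj G₀) (fun a => νκ κ a.1)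
    (fun a => (hνκ1 κ a.1 a.2).1) (by
      intro a b
      refine compat_of_cover (D.map κ.left.hom)
        (fun a : {a : (D.obj i₀).affineOpens // a ∈ t} => a.1.1) (fun a => a.1.2) F₀
        ((Scheme.Modules.pullback (D.map κ.left.hom)).obj G₀) (fun a => νκ κ a.1)
        (fun a => (hνκ1 κ a.1 a.2).1) a b
        (fun c : {c : (D.obj i₀).affineOpens // c ∈ T a.1 b.1} => c.1.1) (fun c => c.1.2)
        (fun c => (hT1 a.1 b.1 c.1 c.2).trans inf_le_left)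
        (fun c => (hT1 a.1 b.1 c.1 c.2).trans inf_le_right)
        (by
          intro x hx
          obtain ⟨V, hV⟩ := Opens.mem_iSup.1 (hT2 a.1 b.1 hx)
          obtain ⟨hVT, hxV⟩ := Opens.mem_iSup.1 hV
          exact Opens.mem_iSup.2 ⟨⟨V, hVT⟩, hxV⟩)
        (fun c => isAffineOpen_stageOpen D i₀ c.1.1 c.1.2 κ.left) ?_
      intro c m'
      have hca : c.1.1 ≤ a.1.1 := (hT1 a.1 b.1 c.1 c.2).trans inf_le_left
      have hcb : c.1.1 ≤ b.1.1 := (hT1 a.1 b.1 c.1 c.2).trans inf_le_right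
      refine eq_of_semilinear_of_span
        ((D.map κ.left.hom).appLE c.1.1 (stageOpen D i₀ c.1.1 κ.left) (le_refl _)).hom
        (fun m' => locRestrict D i₀ F₀ G₀ a.1.2 κ.left (νκ κ a.1) (hνκ1 κ a.1 a.2).1 c.1.2 hca m')
        (fun m' => locRestrict D i₀ F₀ G₀ b.1.2 κ.left (νκ κ b.1) (hνκ1 κ b.1 b.2).1 c.1.2 hcb m')
        (fun x y => by unfold locRestrict; rw [pbSec_add, map_add])
        (fun r x => by
          unfold locRestrict
          rw [pbSec_smul, map_smul])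
        (fun x y => by unfold locRestrict; rw [pbSec_add, map_add])
        (fun r x => by
          unfold locRestrict
          rw [pbSec_smul, map_smul])
        (gens c.1 : Set _) (hgens c.1) (fun m hm => ?_) m'
      have hmem : (((a.1, b.1), ⟨c.1, m⟩) : Idx) ∈ S := by
        simp only [S, Set.mem_iUnion, Set.mem_image]
        exact ⟨a.1, a.2, b.1, b.2, c.1, c.2, m, hm, rfl⟩
      exact hκ _ hmem a.2 b.2 hca hcb)
  refine ⟨κ.left, ψ, t, ht, fun V hV m => ?_⟩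
  rw [hψ ⟨V, hV⟩ (stageOpen D i₀ V.1 κ.left) (isAffineOpen_stageOpen D i₀ V.1 V.2 κ.left)
    (le_refl _), locApp_pbSec, res_self]
  exact (hνκ1 κ V hV).2 m

end

end Groth.Agent.H5.Lim
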