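import Groth.Agent.Lib.Helper5.Lim.OpensWeakColimit
import Groth.Agent.Lib.Lead.QC.PullbackUnit

set_option autoImplicit false
universe u
open CategoryTheory CategoryTheory.Limits AlgebraicGeometry Opposite TensorProduct
open Groth.Agent.LD.QC

namespace Groth.Agent.H5.Lim

section

variable {I : Type u} [SmallCategory I] [IsCofiltered I] (D : I ⥤ Scheme.{u}) (c : Cone D)
  (hc : IsLimit c) [∀ (i j : I) (f : i ⟶ j), IsAffineHom (D.map f)]
  (i₀ : I) (V : (D.obj i₀).Opens)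

include hc in
lemma isAffineOpen_limOpen (hV : IsAffineOpen V) : IsAffineOpen (limOpen D c i₀ V) := by
  have hDaff : ∀ {i j : I} (f : i ⟶ j), IsAffineHom (D.map f) := fun f => inferInstance
  haveI : IsAffineHom (c.π.app i₀) := isAffineHom_π_app D c hc i₀
  exact hV.preimage (c.π.app i₀)

lemma isAffineOpen_stageOpen (hV : IsAffineOpen V) (k : Over i₀) :
    IsAffineOpen (stageOpen D i₀ V k) :=
  hV.preimage (D.map k.hom)

include hc in
/-- a section of a quasi-coherent module over an affine open of a stage whose pullback to the limit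
vanishes already has vanishing pullback at some stage. -/
theorem exists_pbSec_eq_zero (hV : IsAffineOpen V) (G₀ : (D.obj i₀).Modules)
    [G₀.IsQuasicoherent] (n : Γ(G₀, V))
    (hn : pbSec (c.π.app i₀) G₀ (le_refl (limOpen D c i₀ V)) n = 0) :
    ∃ k : Over i₀, pbSec (D.map k.hom) G₀ (le_refl (stageOpen D i₀ V k)) n = 0 := by
  letI : ∀ k : Over i₀, Algebra Γ(D.obj i₀, V) Γ(D.obj k.left, stageOpen D i₀ V k) := fun k =>
    ((D.map k.hom).appLE V (stageOpen D i₀ V k) le_rfl).hom.toAlgebra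
  letI : Algebra Γ(D.obj i₀, V) Γ(c.pt, limOpen D c i₀ V) :=
    ((c.π.app i₀).appLE V (limOpen D c i₀ V) le_rfl).hom.toAlgebra
  let W : CA.WeakColimit Γ(D.obj i₀, V)
      (fun k : Over i₀ => Γ(D.obj k.left, stageOpen D i₀ V k)) Γ(c.pt, limOpen D c i₀ V) :=
    weakColimitOpens D c i₀ V hc hV
  -- base change description in the limit
  letI := pbModule (c.π.app i₀) G₀ (le_refl (limOpen D c i₀ V))
  haveI : IsScalarTower Γ(D.obj i₀, V) Γ(c.pt, limOpen D c i₀ V)
      Γ((Scheme.Modules.pullback (c.π.app i₀)).obj G₀, limOpen D c i₀ V) :=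
    pbModule_isScalarTower (c.π.app i₀) G₀ (le_refl (limOpen D c i₀ V))
  have hlim : IsBaseChange Γ(c.pt, limOpen D c i₀ V)
      (pbSecₗ (c.π.app i₀) G₀ (le_refl (limOpen D c i₀ V))) :=
    isBaseChange_pbSec (c.π.app i₀) (isAffineOpen_limOpen D c hc i₀ V hV) hV le_rfl G₀
  have h1 : (1 : Γ(c.pt, limOpen D c i₀ V)) ⊗ₜ[Γ(D.obj i₀, V)] n = 0 := by
    apply hlim.equiv.injective
    rw [IsBaseChange.equiv_tmul, one_smul, map_zero]
    exact hn
  let k₀ : Over i₀ := Over.mk (𝟙 i₀)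
  obtain ⟨k, φ, -, hk⟩ := W.exists_rTensor_kill Γ(G₀, V)
    ((1 : Γ(D.obj k₀.left, stageOpen D i₀ V k₀)) ⊗ₜ[Γ(D.obj i₀, V)] n) (by
      rw [LinearMap.rTensor_tmul, AlgHom.toLinearMap_apply, map_one]
      exact h1)
  rw [LinearMap.rTensor_tmul, AlgHom.toLinearMap_apply, map_one] at hk
  refine ⟨k, ?_⟩
  letI := pbModule (D.map k.hom) G₀ (le_refl (stageOpen D i₀ V k))
  haveI : IsScalarTower Γ(D.obj i₀, V) Γ(D.obj k.left, stageOpen D i₀ V k)
      Γ((Scheme.Modules.pullback (D.map k.hom)).obj G₀, stageOpen D i₀ V k) :=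
    pbModule_isScalarTower (D.map k.hom) G₀ (le_refl (stageOpen D i₀ V k))
  have hst : IsBaseChange Γ(D.obj k.left, stageOpen D i₀ V k)
      (pbSecₗ (D.map k.hom) G₀ (le_refl (stageOpen D i₀ V k))) :=
    isBaseChange_pbSec (D.map k.hom) (isAffineOpen_stageOpen D i₀ V hV k) hV le_rfl G₀
  have h2 := congrArg hst.equiv hk
  rw [IsBaseChange.equiv_tmul, one_smul, map_zero] at h2
  exact h2

lemma pbSec_sub' {X Y : Scheme.{u}} (f : X ⟶ Y) (M : Y.Modules) {U : X.Opens} {V : Y.Opens}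
    (e : U ≤ f ⁻¹ᵁ V) (m m' : Γ(M, V)) :
    pbSec f M e (m - m') = pbSec f M e m - pbSec f M e m' := by
  rw [eq_sub_iff_add_eq, ← pbSec_add, sub_add_cancel]

include hc in
theorem exists_pbSec_eq (hV : IsAffineOpen V) (G₀ : (D.obj i₀).Modules)
    [G₀.IsQuasicoherent] (n n' : Γ(G₀, V))
    (hn : pbSec (c.π.app i₀) G₀ (le_refl (limOpen D c i₀ V)) n =
      pbSec (c.π.app i₀) G₀ (le_refl (limOpen D c i₀ V)) n') :
    ∃ k : Over i₀, pbSec (D.map k.hom) G₀ (le_refl (stageOpen D i₀ V k)) n =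
      pbSec (D.map k.hom) G₀ (le_refl (stageOpen D i₀ V k)) n' := by
  obtain ⟨k, hk⟩ := exists_pbSec_eq_zero D c hc i₀ V hV G₀ (n - n') (by
    rw [pbSec_sub', hn, sub_self])
  exact ⟨k, by rwa [pbSec_sub', sub_eq_zero] at hk⟩

omit [IsCofiltered I] [∀ (i j : I) (f : i ⟶ j), IsAffineHom (D.map f)] in
/-- equality of pulled back sections persists at further stages -/
lemma pbSec_eq_of_hom (G₀ : (D.obj i₀).Modules) {k k' : Over i₀} (a : k' ⟶ k) (n n' : Γ(G₀, V))
    (h : pbSec (D.map k.hom) G₀ (le_refl (stageOpen D i₀ V k)) n =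
      pbSec (D.map k.hom) G₀ (le_refl (stageOpen D i₀ V k)) n') :
    pbSec (D.map k'.hom) G₀ (le_refl (stageOpen D i₀ V k')) n =
      pbSec (D.map k'.hom) G₀ (le_refl (stageOpen D i₀ V k')) n' := by
  have hw : D.map a.left ≫ D.map k.hom = D.map k'.hom := by rw [← D.map_comp, Over.w a]
  have eWV : stageOpen D i₀ V k' ≤ (D.map a.left ≫ D.map k.hom) ⁻¹ᵁ V := by rw [hw]
  have h1 : pbSec (D.map a.left ≫ D.map k.hom) G₀ eWV n =
      pbSec (D.map a.left ≫ D.map k.hom) G₀ eWV n' := by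
    rw [← pbSec_comp' (D.map a.left) (D.map k.hom) G₀ (stageOpen_le D i₀ V a) le_rfl eWV n,
      ← pbSec_comp' (D.map a.left) (D.map k.hom) G₀ (stageOpen_le D i₀ V a) le_rfl eWV n', h]
  rw [← pbSec_congr hw G₀ eWV le_rfl n, ← pbSec_congr hw G₀ eWV le_rfl n', h1]

end

end Groth.Agent.H5.Lim
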