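import Groth.Agent.Lib.Helper5.Lim.ModuleIso
import Groth.Agent.Lib.Helper5.Lim.ModuleBridge
import Groth.Agent.Lib.Helper5.Lim.FlatLimit

set_option autoImplicit false
universe u
open CategoryTheory CategoryTheory.Limits AlgebraicGeometry Opposite TopologicalSpace
open Groth.Agent.LD.QC

namespace Groth.Agent.H5.Lim

section

variable {I : Type u} [SmallCategory I] (D : I ⥤ Scheme.{u}) (c : Cone D) (i₀ : I)

lemma isZero_pullback_of_stage {C₀ : (D.obj i₀).Modules} {j : I} (φ : j ⟶ i₀)
    (h : IsZero ((Scheme.Modules.pullback (D.map φ)).obj C₀)) :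
    IsZero ((Scheme.Modules.pullback (c.π.app i₀)).obj C₀) :=
  IsZero.of_iso ((Scheme.Modules.pullback (c.π.app j)).map_isZero h)
    ((pullbackStageIso D c i₀ φ).app C₀).symm

end

section

variable {I : Type u} [SmallCategory I] [IsCofiltered I] (D : I ⥤ Scheme.{u}) (c : Cone D)
  (hc : IsLimit c) [∀ (i j : I) (f : i ⟶ j), IsAffineHom (D.map f)] (i₀ : I)

include hc in
/-- EGA IV 8.5.2.? : with flat transition maps, injectivity of a homomorphism with finite type
kernel descends. -/
theorem mono_pullback_map_iff_eventually_of_flat [CompactSpace (D.obj i₀)]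
    (hfl : ∀ (i j : I) (φ : i ⟶ j), Flat (D.map φ))
    {F₀ G₀ : (D.obj i₀).Modules} [hF : F₀.IsQuasicoherent] [hG : G₀.IsQuasicoherent] (f₀ : F₀ ⟶ G₀)
    (hker : (kernel f₀).IsFiniteType) :
    Mono ((Scheme.Modules.pullback (c.π.app i₀)).map f₀) ↔
      ∃ (j : I) (φ : j ⟶ i₀), Mono ((Scheme.Modules.pullback (D.map φ)).map f₀) := by
  haveI : (kernel f₀).IsQuasicoherent := qc_kernel f₀ hF hG
  haveI : Flat (c.π.app i₀) := flat_π_app D c hc i₀ (fun j φ => hfl j i₀ φ)
  constructor
  · intro h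
    rw [mono_pullback_map_iff_isZero_of_flat] at h
    obtain ⟨k, hk⟩ := exists_stage_isZero_pullback D c hc i₀ hker h
    haveI : Flat (D.map k.hom) := hfl _ _ _
    exact ⟨k.left, k.hom, (mono_pullback_map_iff_isZero_of_flat _ f₀).2 hk⟩
  · rintro ⟨j, φ, h⟩
    haveI : Flat (D.map φ) := hfl _ _ _
    rw [mono_pullback_map_iff_isZero_of_flat] at h ⊢
    exact isZero_pullback_of_stage D c i₀ φ h

end

end Groth.Agent.H5.Lim
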