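import Groth.Agent.Lib.Helper5.Lim.ModuleIso

set_option autoImplicit false
universe u
open CategoryTheory CategoryTheory.Limits AlgebraicGeometry Opposite TopologicalSpace
open Groth.Agent.LD.QC

namespace Groth.Agent.H5.Lim

/-- for a right exact functor `L` and an epimorphism `p₁`, `L p₂` factors through `L p₁` iff
`L` kills the composite `ker p₁ ⟶ A ⟶ B₂`. -/
lemma exists_factor_map_iff {C E : Type*} [Category C] [Category E] [Abelian C]
    [Abelian E] (L : C ⥤ E) [L.Additive] {A B₁ B₂ : C} (p₁ : A ⟶ B₁) (p₂ : A ⟶ B₂) [Epi p₁]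
    [PreservesColimit (parallelPair (kernel.ι p₁) 0) L] :
    (∃ k : L.obj B₁ ⟶ L.obj B₂, L.map p₁ ≫ k = L.map p₂) ↔ L.map (kernel.ι p₁ ≫ p₂) = 0 := by
  constructor
  · rintro ⟨k, hk⟩
    rw [L.map_comp, ← hk, ← L.map_comp_assoc, kernel.condition, L.map_zero, zero_comp]
  · intro h
    have h1 : IsColimit (CokernelCofork.ofπ (f := kernel.ι p₁) p₁ (kernel.condition p₁)) :=
      Abelian.epiIsCokernelOfKernel (f := p₁) (KernelFork.ofι (kernel.ι p₁) (kernel.condition p₁))
        (kernelIsKernel p₁)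
    have h2 := CokernelCofork.mapIsColimit _ h1 L
    rw [L.map_comp] at h
    exact ⟨h2.desc (CokernelCofork.ofπ (L.map p₂) h),
      h2.fac (CokernelCofork.ofπ (L.map p₂) h) WalkingParallelPair.one⟩

section

variable {I : Type u} [SmallCategory I] [IsCofiltered I] (D : I ⥤ Scheme.{u}) (c : Cone D)
  (hc : IsLimit c) [∀ (i j : I) (f : i ⟶ j), IsAffineHom (D.map f)] (i₀ : I)

include hc in
/-- EGA IV 8.5.? : factoring of one quotient through a finitely presented quotient descends. -/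
theorem quotient_factors_iff_eventually [CompactSpace (D.obj i₀)]
    {F₀ G₁ G₂ : (D.obj i₀).Modules} [hF : F₀.IsQuasicoherent] [hG₂ : G₂.IsQuasicoherent]
    (hF₀ : F₀.IsFiniteType) (hG₁ : G₁.IsFinitePresentation) (p₁ : F₀ ⟶ G₁) (p₂ : F₀ ⟶ G₂)
    [Epi p₁] :
    (∃ k : (Scheme.Modules.pullback (c.π.app i₀)).obj G₁ ⟶
        (Scheme.Modules.pullback (c.π.app i₀)).obj G₂,
        (Scheme.Modules.pullback (c.π.app i₀)).map p₁ ≫ k =
          (Scheme.Modules.pullback (c.π.app i₀)).map p₂) ↔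
      ∃ (j : I) (φ : j ⟶ i₀) (k : (Scheme.Modules.pullback (D.map φ)).obj G₁ ⟶
        (Scheme.Modules.pullback (D.map φ)).obj G₂),
        (Scheme.Modules.pullback (D.map φ)).map p₁ ≫ k =
          (Scheme.Modules.pullback (D.map φ)).map p₂ := by
  haveI hG₁qc : G₁.IsQuasicoherent := inferInstance
  haveI : (kernel p₁).IsQuasicoherent := qc_kernel p₁ hF hG₁qc
  have hKft : (kernel p₁).IsFiniteType := isFiniteType_kernel_of_epi p₁ hF₀ hG₁
  rw [exists_factor_map_iff]
  constructor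
  · intro h
    obtain ⟨k, hk⟩ := exists_stage_pullback_map_eq D c hc i₀ hKft (kernel.ι p₁ ≫ p₂) 0
      (by rw [h, Functor.map_zero])
    rw [Functor.map_zero] at hk
    exact ⟨k.left, k.hom, (exists_factor_map_iff _ p₁ p₂).2 hk⟩
  · rintro ⟨j, φ, h⟩
    rw [exists_factor_map_iff] at h
    have := pullback_map_eq_of_stage D c i₀ (kernel.ι p₁ ≫ p₂) 0 φ (by rw [h, Functor.map_zero])
    rw [this, Functor.map_zero]

end

end Groth.Agent.H5.Lim
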