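import Mathlib

set_option autoImplicit false
open CategoryTheory CategoryTheory.Limits

namespace Groth.Agent.H5.Lim

section

variable {C E E' : Type*} [Category C] [Category E] [Category E'] [Abelian C] [Abelian E]
  [Abelian E']

/-- the image under `L` of `A ⟶ B ⟶ C' ⟶ 0` is exact. -/
def RightExactAt (L : C ⥤ E) {A B C' : C} (f : A ⟶ B) (g : B ⟶ C') : Prop :=
  ∃ w : L.map f ≫ L.map g = 0, (ShortComplex.mk _ _ w).Exact ∧ Epi (L.map g)

lemma RightExactAt.of_iso {L L' : C ⥤ E} (e : L ≅ L') {A B C' : C} {f : A ⟶ B} {g : B ⟶ C'}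
    (h : RightExactAt L f g) : RightExactAt L' f g := by
  obtain ⟨w, hw⟩ := h
  have w' : L'.map f ≫ L'.map g = 0 := by
    have h1 : L'.map f ≫ L'.map g = e.inv.app A ≫ (L.map f ≫ L.map g) ≫ e.hom.app C' := by
      rw [← Functor.map_comp, ← Functor.map_comp]
      simp
    rw [h1, w, zero_comp, comp_zero]
  refine ⟨w', ?_⟩
  refine (ShortComplex.exact_and_epi_g_iff_of_iso ?_).1 hw
  exact ShortComplex.isoMk (e.app A) (e.app B) (e.app C') (by simp) (by simp)

lemma rightExactAt_iso_iff {L L' : C ⥤ E} (e : L ≅ L') {A B C' : C} (f : A ⟶ B) (g : B ⟶ C') :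
    RightExactAt L f g ↔ RightExactAt L' f g :=
  ⟨fun h => h.of_iso e, fun h => h.of_iso e.symm⟩

lemma rightExactAt_comp_iff (L₁ : C ⥤ E) (L₂ : E ⥤ E') {A B C' : C} (f : A ⟶ B) (g : B ⟶ C') :
    RightExactAt (L₁ ⋙ L₂) f g ↔ RightExactAt L₂ (L₁.map f) (L₁.map g) := Iff.rfl

/-- right exact functors preserve right exact sequences. -/
lemma RightExactAt.comp {L₁ : C ⥤ E} (L₂ : E ⥤ E') [L₂.Additive]
    [PreservesFiniteColimits L₂] {A B C' : C} {f : A ⟶ B} {g : B ⟶ C'}
    (h : RightExactAt L₁ f g) : RightExactAt (L₁ ⋙ L₂) f g := by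
  obtain ⟨w, hex, hepi⟩ := h
  have w' : (L₁ ⋙ L₂).map f ≫ (L₁ ⋙ L₂).map g = 0 := by
    simp only [Functor.comp_map]
    rw [← L₂.map_comp, w, L₂.map_zero]
  refine ⟨w', ?_, ?_⟩
  · exact hex.map_of_epi_of_preservesCokernel L₂ hepi inferInstance
  · simp only [Functor.comp_map]
    infer_instance

/-- for `f ≫ g = 0`, the image under a right exact functor `L` of `A ⟶ B ⟶ C' ⟶ 0` is exact iff
`L` inverts the induced map `coker f ⟶ C'`. -/
lemma rightExactAt_iff_isIso (L : C ⥤ E) [L.Additive] {A B C' : C} (f : A ⟶ B) (g : B ⟶ C')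
    (w : f ≫ g = 0) [PreservesColimit (parallelPair f 0) L] :
    RightExactAt L f g ↔ IsIso (L.map (cokernel.desc f g w)) := by
  have w' : L.map f ≫ L.map g = 0 := by rw [← L.map_comp, w, L.map_zero]
  have key : cokernel.desc (L.map f) (L.map g) w' =
      (PreservesCokernel.iso L f).inv ≫ L.map (cokernel.desc f g w) := by
    apply coequalizer.hom_ext
    rw [cokernel.π_desc, PreservesCokernel.iso_inv, π_comp_cokernelComparison_assoc,
      ← L.map_comp, cokernel.π_desc]
  have hiso : IsIso (L.map (cokernel.desc f g w)) ↔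
      IsIso (cokernel.desc (L.map f) (L.map g) w') := by
    rw [key]
    constructor
    · intro _; infer_instance
    · intro h
      have : L.map (cokernel.desc f g w) = (PreservesCokernel.iso L f).hom ≫
          ((PreservesCokernel.iso L f).inv ≫ L.map (cokernel.desc f g w)) := by
        rw [Iso.hom_inv_id_assoc]
      rw [this]
      infer_instance
  rw [hiso]
  constructor
  · rintro ⟨_, hex, hepi⟩
    have hm : Mono (cokernel.desc (L.map f) (L.map g) w') :=
      (ShortComplex.mk _ _ w').exact_iff_mono_cokernel_desc.1 hex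
    have he : Epi (cokernel.desc (L.map f) (L.map g) w') := by
      have : Epi (cokernel.π (L.map f) ≫ cokernel.desc (L.map f) (L.map g) w') := by
        rw [cokernel.π_desc]; exact hepi
      exact epi_of_epi (cokernel.π (L.map f)) _
    exact isIso_of_mono_of_epi _
  · intro h
    refine ⟨w', (ShortComplex.mk _ _ w').exact_iff_mono_cokernel_desc.2 inferInstance, ?_⟩
    have : L.map g = cokernel.π (L.map f) ≫ cokernel.desc (L.map f) (L.map g) w' := by
      rw [cokernel.π_desc]
    rw [this]
    infer_instance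

end

end Groth.Agent.H5.Lim
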