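import Groth.Agent.Lib.Helper5.Lim.ModuleIso
import Groth.Agent.Lib.Helper5.Lim.RightExact

set_option autoImplicit false
universe u
open CategoryTheory CategoryTheory.Limits AlgebraicGeometry Opposite TopologicalSpace
open Groth.Agent.LD.QC

namespace Groth.Agent.H5.Lim

section

variable {I : Type u} [SmallCategory I] [IsCofiltered I] (D : I ⥤ Scheme.{u}) (c : Cone D)
  (hc : IsLimit c) [∀ (i j : I) (f : i ⟶ j), IsAffineHom (D.map f)] (i₀ : I)

include hc in
/-- EGA IV 8.5.6: right exactness of `F₀ ⟶ G₀ ⟶ H₀ ⟶ 0` (`F₀`, `G₀` of finite type, `H₀` of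
finite presentation) after pullback to the limit holds iff it holds at some stage. -/
theorem rightExactAt_pullback_iff_eventually [CompactSpace (D.obj i₀)]
    {F₀ G₀ H₀ : (D.obj i₀).Modules} [hFqc : F₀.IsQuasicoherent] [hGqc : G₀.IsQuasicoherent]
    (hF₀ : F₀.IsFiniteType) (hG₀ : G₀.IsFiniteType) (hH₀ : H₀.IsFinitePresentation)
    (f₀ : F₀ ⟶ G₀) (g₀ : G₀ ⟶ H₀) :
    RightExactAt (Scheme.Modules.pullback (c.π.app i₀)) f₀ g₀ ↔
      ∃ (j : I) (φ : j ⟶ i₀), RightExactAt (Scheme.Modules.pullback (D.map φ)) f₀ g₀ := by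
  haveI hHqc : H₀.IsQuasicoherent := inferInstance
  constructor
  · intro h
    obtain ⟨w, -, -⟩ := id h
    have h0 : (Scheme.Modules.pullback (c.π.app i₀)).map (f₀ ≫ g₀) =
        (Scheme.Modules.pullback (c.π.app i₀)).map 0 := by
      rw [Functor.map_comp, w, Functor.map_zero]
    obtain ⟨k₁, hk₁⟩ := exists_stage_pullback_map_eq D c hc i₀ hF₀ (f₀ ≫ g₀) 0 h0
    rw [Functor.map_zero, Functor.map_comp] at hk₁
    set f₁ := (Scheme.Modules.pullback (D.map k₁.hom)).map f₀ with hf₁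
    set g₁ := (Scheme.Modules.pullback (D.map k₁.hom)).map g₀ with hg₁
    haveI : ((Scheme.Modules.pullback (D.map k₁.hom)).obj F₀).IsQuasicoherent :=
      qc_pullback (D.map k₁.hom) F₀
    haveI hG₁qc : ((Scheme.Modules.pullback (D.map k₁.hom)).obj G₀).IsQuasicoherent :=
      qc_pullback (D.map k₁.hom) G₀
    have hG₁ft : ((Scheme.Modules.pullback (D.map k₁.hom)).obj G₀).IsFiniteType :=
      isFiniteType_pullback (D.map k₁.hom) G₀ hG₀
    have hH₁fp : ((Scheme.Modules.pullback (D.map k₁.hom)).obj H₀).IsFinitePresentation :=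
      isFinitePresentation_pullback (D.map k₁.hom) H₀ hH₀
    haveI hCqc : (cokernel f₁).IsQuasicoherent := qc_cokernel f₁ inferInstance inferInstance
    have hCft : (cokernel f₁).IsFiniteType :=
      isFiniteType_of_epi (cokernel.π f₁) hG₁qc hCqc hG₁ft
    haveI : CompactSpace (D.obj k₁.left) :=
      QuasiCompact.compactSpace_of_compactSpace (D.map k₁.hom)
    have h1 : RightExactAt (Scheme.Modules.pullback (c.π.app k₁.left)) f₁ g₁ :=
      (rightExactAt_comp_iff _ _ f₀ g₀).1 (h.of_iso (pullbackStageIso D c i₀ k₁.hom).symm)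
    rw [rightExactAt_iff_isIso _ f₁ g₁ hk₁] at h1
    obtain ⟨k₂, hk₂⟩ := exists_stage_isIso_pullback_map D c hc k₁.left hCft hH₁fp _ h1
    rw [← rightExactAt_iff_isIso _ f₁ g₁ hk₁] at hk₂
    refine ⟨k₂.left, k₂.hom ≫ k₁.hom, ?_⟩
    exact ((rightExactAt_comp_iff _ _ f₀ g₀).2 hk₂).of_iso
      (pullbackCompIso (D.map k₂.hom) (D.map k₁.hom) (D.map (k₂.hom ≫ k₁.hom))
        (D.map_comp _ _).symm)
  · rintro ⟨j, φ, h⟩
    exact (h.comp (Scheme.Modules.pullback (c.π.app j))).of_iso (pullbackStageIso D c i₀ φ)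

end

end Groth.Agent.H5.Lim
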