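import Groth.Agent.Lib.Helper5.Lim.ModuleIso
import Groth.Agent.Lib.Helper5.Lim.ModuleExt

set_option autoImplicit false
universe u
open CategoryTheory CategoryTheory.Limits AlgebraicGeometry Opposite TopologicalSpace TensorProduct
open Groth.Agent.LD.QC

namespace Groth.Agent.H5.Lim

/-- two additive semilinear maps agreeing on a spanning set are equal. -/
lemma eq_of_semilinear_of_span {R B M Q : Type*} [CommRing R] [CommRing B] [AddCommGroup M]
    [Module R M] [AddCommGroup Q] [Module B Q] (σ : R →+* B) (Φ₁ Φ₂ : M → Q)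
    (h₁add : ∀ x y, Φ₁ (x + y) = Φ₁ x + Φ₁ y) (h₁smul : ∀ r x, Φ₁ (r • x) = σ r • Φ₁ x)
    (h₂add : ∀ x y, Φ₂ (x + y) = Φ₂ x + Φ₂ y) (h₂smul : ∀ r x, Φ₂ (r • x) = σ r • Φ₂ x)
    (s : Set M) (hs : Submodule.span R s = ⊤) (h : ∀ x ∈ s, Φ₁ x = Φ₂ x) (x : M) :
    Φ₁ x = Φ₂ x := by
  have hx : x ∈ Submodule.span R s := hs ▸ Submodule.mem_top
  induction hx using Submodule.span_induction with
  | mem x hx => exact h x hx
  | zero =>
    have z₁ : Φ₁ 0 = 0 := by have := h₁add 0 0; simpa using this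
    have z₂ : Φ₂ 0 = 0 := by have := h₂add 0 0; simpa using this
    rw [z₁, z₂]
  | add x y _ _ hx hy => rw [h₁add, h₂add, hx, hy]
  | smul r x _ hx => rw [h₁smul, h₂smul, hx]

section TrSec

variable {X' X Y : Scheme.{u}} (g : X' ⟶ X) (f : X ⟶ Y) (f' : X' ⟶ Y) (w : g ≫ f = f')
  (M : Y.Modules)

/-- transport of sections of a pullback along a further morphism, landing in the pullback along
the composite. -/
noncomputable def trSec {U' : X'.Opens} {U : X.Opens} (e : U' ≤ g ⁻¹ᵁ U)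
    (x : Γ((Scheme.Modules.pullback f).obj M, U)) : Γ((Scheme.Modules.pullback f').obj M, U') :=
  ((pullbackCompIso g f f' w).hom.app M).app U' (pbSec g ((Scheme.Modules.pullback f).obj M) e x)

lemma trSec_add {U' : X'.Opens} {U : X.Opens} (e : U' ≤ g ⁻¹ᵁ U)
    (x y : Γ((Scheme.Modules.pullback f).obj M, U)) :
    trSec g f f' w M e (x + y) = trSec g f f' w M e x + trSec g f f' w M e y := by
  unfold trSec
  rw [pbSec_add, map_add]

lemma trSec_zero {U' : X'.Opens} {U : X.Opens} (e : U' ≤ g ⁻¹ᵁ U) :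
    trSec g f f' w M e (0 : Γ((Scheme.Modules.pullback f).obj M, U)) = 0 := by
  unfold trSec
  rw [pbSec_zero, map_zero]

lemma trSec_sub {U' : X'.Opens} {U : X.Opens} (e : U' ≤ g ⁻¹ᵁ U)
    (x y : Γ((Scheme.Modules.pullback f).obj M, U)) :
    trSec g f f' w M e (x - y) = trSec g f f' w M e x - trSec g f f' w M e y := by
  rw [eq_sub_iff_add_eq, ← trSec_add, sub_add_cancel]

lemma trSec_smul {U' : X'.Opens} {U : X.Opens} (e : U' ≤ g ⁻¹ᵁ U) (r : Γ(X, U))
    (x : Γ((Scheme.Modules.pullback f).obj M, U)) :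
    trSec g f f' w M e (r • x) = (g.appLE U U' e r) • trSec g f f' w M e x := by
  unfold trSec
  rw [pbSec_smul, Scheme.Modules.Hom.app_smul]

lemma trSec_pbSec {U' : X'.Opens} {U : X.Opens} {V : Y.Opens} (e : U' ≤ g ⁻¹ᵁ U)
    (eU : U ≤ f ⁻¹ᵁ V) (eU' : U' ≤ f' ⁻¹ᵁ V) (m : Γ(M, V)) :
    trSec g f f' w M e (pbSec f M eU m) = pbSec f' M eU' m := by
  unfold trSec pullbackCompIso
  have eWV : U' ≤ (g ≫ f) ⁻¹ᵁ V := by rw [w]; exact eU'
  rw [Iso.trans_hom, NatTrans.comp_app, Scheme.Modules.Hom.comp_app,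
    CategoryTheory.comp_apply, pbSec_comp' g f M e eU eWV m, pbSec_congr w M eWV eU' m]

lemma trSec_res {U' U'' : X'.Opens} {U U₂ : X.Opens} (e : U' ≤ g ⁻¹ᵁ U) (e₂ : U'' ≤ g ⁻¹ᵁ U₂)
    (h' : U'' ≤ U') (h : U₂ ≤ U) (x : Γ((Scheme.Modules.pullback f).obj M, U)) :
    ((Scheme.Modules.pullback f').obj M).presheaf.map (homOfLE h').op (trSec g f f' w M e x) =
      trSec g f f' w M e₂ (((Scheme.Modules.pullback f).obj M).presheaf.map (homOfLE h).op x) := by
  unfold trSec
  rw [pbSec_res g _ e e₂ h' h x]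
  exact (app_res ((pullbackCompIso g f f' w).hom.app M) h' _).symm

lemma trSec_naturality {N : Y.Modules} (α : M ⟶ N) {U' : X'.Opens} {U : X.Opens}
    (e : U' ≤ g ⁻¹ᵁ U) (x : Γ((Scheme.Modules.pullback f).obj M, U)) :
    ((Scheme.Modules.pullback f').map α).app U' (trSec g f f' w M e x) =
      trSec g f f' w N e (((Scheme.Modules.pullback f).map α).app U x) := by
  unfold trSec
  rw [← pbSec_naturality]
  have := (pullbackCompIso g f f' w).hom.naturality α
  have h2 := congrArg (fun φ => (Scheme.Modules.Hom.app φ U')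
    (pbSec g ((Scheme.Modules.pullback f).obj M) e x)) this
  simp only [Functor.comp_map, Scheme.Modules.Hom.comp_app, CategoryTheory.comp_apply] at h2
  exact h2.symm

end TrSec

end Groth.Agent.H5.Lim
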