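import Groth.Agent.Lib.Helper5.Lim.BaseChangeOver
import Mathlib

set_option autoImplicit false
universe u
open CategoryTheory CategoryTheory.Limits AlgebraicGeometry Topology

namespace Groth.Agent.H5.Lim

/-- If `X = lim X_k` (affine transitions) and `f : X ⟶ Y` is, for every `k`, a base change of an open
map `f_k : X_k ⟶ Y_k` (along `Y ⟶ Y_k`, with `X ⟶ X_k` the limit projection), then `f` is an open
map. -/
theorem isOpenMap_of_isLimit_of_isPullback {J : Type u} [SmallCategory J] [IsCofiltered J]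
    (DX : J ⥤ Scheme.{u}) (cX : Cone DX) (hcX : IsLimit cX)
    [∀ (i j : J) (f : i ⟶ j), IsAffineHom (DX.map f)]
    {Y : Scheme.{u}} (f : cX.pt ⟶ Y)
    (Yk : J → Scheme.{u}) (fk : ∀ k, DX.obj k ⟶ Yk k) (bk : ∀ k, Y ⟶ Yk k)
    (hpb : ∀ k, IsPullback (cX.π.app k) f (fk k) (bk k))
    (hopen : ∀ k, IsOpenMap (fk k)) : IsOpenMap f := by
  have hB := isBasis_preimage_isAffineOpen DX cX hcX
  rw [TopologicalSpace.Opens.IsBasis] at hB
  rw [hB.isOpenMap_iff]
  rintro _ ⟨_, ⟨k, U, -, rfl⟩, rfl⟩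
  have := Scheme.image_preimage_eq_of_isPullback (hpb k) (U : Set (DX.obj k))
  change IsOpen (f '' ((cX.π.app k) ⁻¹' (U : Set (DX.obj k))))
  rw [this]
  exact (hopen k _ U.2).preimage (bk k).continuous

variable {I : Type u} [SmallCategory I] [IsCofiltered I] (D : I ⥤ Scheme.{u}) (c : Cone D)
  (hc : IsLimit c)

include hc in
/-- EGA IV 8.10.1-type statement: a base change to the limit of eventually open maps is open. -/
theorem isOpenMap_of_eventually_stages
    [∀ (i j : I) (f : i ⟶ j), IsAffineHom (D.map f)] (i₀ : I)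
    {X₀ Y₀ : Scheme.{u}} (f₀ : X₀ ⟶ Y₀) (g₀ : Y₀ ⟶ D.obj i₀)
    {X Y : Scheme.{u}} (f : X ⟶ Y) (g : Y ⟶ c.pt) (qY : Y ⟶ Y₀) (qX : X ⟶ X₀)
    (hY : IsPullback qY g g₀ (c.π.app i₀)) (hX : IsPullback qX f f₀ qY)
    (i : I) (φ : i ⟶ i₀)
    (h : ∀ (j : I) (ψ : j ⟶ i) (Xj Yj : Scheme.{u}) (fj : Xj ⟶ Yj)
      (gj : Yj ⟶ D.obj j) (pY : Yj ⟶ Y₀) (pX : Xj ⟶ X₀),
      IsPullback pY gj g₀ (D.map (ψ ≫ φ)) → IsPullback pX fj f₀ pY → IsOpenMap ⇑fj) :
    IsOpenMap ⇑f := by
  -- the system over `Over i`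
  let D' : Over i ⥤ Scheme.{u} := Over.forget i ⋙ D
  let c' : Cone D' := c.whisker (Over.forget i)
  have hc' : IsLimit c' := (Functor.Initial.isLimitWhiskerEquiv (Over.forget i) c).symm hc
  let t : D' ⟶ (Functor.const (Over i)).obj (D.obj i₀) :=
    { app := fun k => D.map (k.hom ≫ φ)
      naturality := fun j k a => by
        change D.map a.left ≫ D.map (k.hom ≫ φ) = D.map (j.hom ≫ φ) ≫ 𝟙 _
        rw [Category.comp_id, ← D.map_comp, ← Category.assoc, Over.w a] }
  let q : X₀ ⟶ D.obj i₀ := f₀ ≫ g₀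
  let p : c.pt ⟶ D.obj i₀ := c.π.app i₀
  have hp : ∀ k, c'.π.app k ≫ t.app k = p := fun k => c.w (k.hom ≫ φ)
  have haff : ∀ (j k : Over i) (a : j ⟶ k), IsAffineHom ((tbcDiagram D' t q).map a) :=
    fun j k a => isAffineHom_tbcMap D' t q a (inferInstanceAs (IsAffineHom (D.map a.left)))
  have hbig : IsPullback qX (f ≫ g) q p := hX.paste_vert hY
  let e : X ≅ pullback q p := hbig.isoPullback
  have he1 : e.hom ≫ pullback.fst q p = qX := hbig.isoPullback_hom_fst
  have he2 : e.hom ≫ pullback.snd q p = f ≫ g := hbig.isoPullback_hom_snd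
  let cX : Cone (tbcDiagram D' t q) := (tbcCone D' t q c' p hp).extend e.hom
  have hcX : IsLimit cX := IsLimit.extendIso (s := tbcCone D' t q c' p hp) e.hom (isLimitTbcCone D' t q c' p hp hc')
  -- the maps `f_k`
  obtain ⟨fk, hfk_fst, hfk_snd⟩ : ∃ fk : ∀ k : Over i, pullback q (t.app k) ⟶ pullback g₀ (t.app k),
      (∀ k, fk k ≫ pullback.fst g₀ (t.app k) = pullback.fst q (t.app k) ≫ f₀) ∧
      (∀ k, fk k ≫ pullback.snd g₀ (t.app k) = pullback.snd q (t.app k)) :=
    ⟨fun k => pullback.lift (pullback.fst q (t.app k) ≫ f₀) (pullback.snd q (t.app k))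
      (by rw [Category.assoc]; exact pullback.condition),
      fun k => pullback.lift_fst _ _ _, fun k => pullback.lift_snd _ _ _⟩
  obtain ⟨bk, hbk_fst, hbk_snd⟩ : ∃ bk : ∀ k : Over i, Y ⟶ pullback g₀ (t.app k),
      (∀ k, bk k ≫ pullback.fst g₀ (t.app k) = qY) ∧
      (∀ k, bk k ≫ pullback.snd g₀ (t.app k) = g ≫ c'.π.app k) :=
    ⟨fun k => pullback.lift qY (g ≫ c'.π.app k) (by rw [Category.assoc, hp k]; exact hY.w),
      fun k => pullback.lift_fst _ _ _, fun k => pullback.lift_snd _ _ _⟩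
  have hright : ∀ k : Over i, IsPullback (pullback.fst q (t.app k)) (fk k) f₀
      (pullback.fst g₀ (t.app k)) := by
    intro k
    refine IsPullback.of_bot ?_ (hfk_fst k).symm (IsPullback.of_hasPullback g₀ (t.app k))
    rw [hfk_snd k]
    exact IsPullback.of_hasPullback q (t.app k)
  obtain ⟨πk, hπk, hπfst, hπsnd⟩ : ∃ πk : ∀ k : Over i, X ⟶ pullback q (t.app k),
      (∀ k, πk k = cX.π.app k) ∧ (∀ k, πk k ≫ pullback.fst q (t.app k) = qX) ∧
      (∀ k, πk k ≫ pullback.snd q (t.app k) = (f ≫ g) ≫ c'.π.app k) := by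
    refine ⟨fun k => e.hom ≫ tbcProj D' t q c' p hp k, fun k => rfl, fun k => ?_, fun k => ?_⟩
    · change (e.hom ≫ tbcProj D' t q c' p hp k) ≫ _ = _
      rw [Category.assoc, tbcProj_fst, he1]
    · change (e.hom ≫ tbcProj D' t q c' p hp k) ≫ _ = _
      rw [Category.assoc, tbcProj_snd, ← Category.assoc, he2]
  have hleft : ∀ k : Over i, IsPullback (πk k) f (fk k) (bk k) := by
    intro k
    refine IsPullback.of_right ?_ ?_ (hright k)
    · rw [hπfst k, hbk_fst k]
      exact hX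
    · apply pullback.hom_ext
      · rw [Category.assoc, Category.assoc, hfk_fst k, hbk_fst k, ← Category.assoc, hπfst k]
        exact hX.w
      · rw [Category.assoc, Category.assoc, hfk_snd k, hbk_snd k, hπsnd k, Category.assoc]
  refine isOpenMap_of_isLimit_of_isPullback (tbcDiagram D' t q) cX hcX f
    (fun k => pullback g₀ (t.app k)) (fun k => fk k)
    (fun k => bk k) (fun k => by rw [← hπk k]; exact hleft k) ?_
  intro k
  exact h k.left k.hom _ _ (fk k) (pullback.snd g₀ (t.app k)) (pullback.fst g₀ (t.app k))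
    (pullback.fst q (t.app k)) (IsPullback.of_hasPullback g₀ (t.app k)) (hright k)

end Groth.Agent.H5.Lim
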