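import Groth.Agent.Lib.Helper5.Lim.Constructible
import Mathlib

set_option autoImplicit false
universe u
open CategoryTheory CategoryTheory.Limits AlgebraicGeometry Topology

namespace Groth.Agent.H5.Lim

variable {I : Type u} [SmallCategory I] [IsCofiltered I] (D : I ⥤ Scheme.{u}) (c : Cone D)
  (hc : IsLimit c)

include hc in
/-- If the projections from the limit to the stages over `i` are surjective and the transition
maps to `i` are open, then the projection to `i` is open (EGA IV 8.3.8). -/
theorem isOpenMap_π_app_of_forall [∀ (i j : I) (f : i ⟶ j), IsAffineHom (D.map f)] (i : I)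
    (hs : ∀ (j : I) (_ : j ⟶ i), Function.Surjective (c.π.app j))
    (ho : ∀ (j : I) (φ : j ⟶ i), IsOpenMap (D.map φ)) : IsOpenMap (c.π.app i) := by
  have hB := isBasis_preimage_isAffineOpen D c hc
  unfold TopologicalSpace.Opens.IsBasis at hB
  rw [hB.isOpenMap_iff]
  rintro _ ⟨_, ⟨j, V, -, rfl⟩, rfl⟩
  let k : I := IsCofiltered.min j i
  let α : k ⟶ j := IsCofiltered.minToLeft j i
  let β : k ⟶ i := IsCofiltered.minToRight j i
  have e1 : ((c.π.app j ⁻¹ᵁ V : c.pt.Opens) : Set c.pt) =
      (c.π.app k) ⁻¹' ((D.map α) ⁻¹' (V : Set (D.obj j))) :=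
    (preimage_π_app_map D c α _).symm
  have e2 : (c.π.app i) '' ((c.π.app k) ⁻¹' ((D.map α) ⁻¹' (V : Set (D.obj j)))) =
      (D.map β) '' ((D.map α) ⁻¹' (V : Set (D.obj j))) := by
    have : (c.π.app i : c.pt → D.obj i) = (D.map β) ∘ (c.π.app k) := by
      funext x
      rw [Function.comp_apply, ← Scheme.Hom.comp_apply, c.w]
    rw [this, Set.image_comp, Set.image_preimage_eq _ (hs k β)]
  rw [e1, e2]
  exact ho k β _ (V.2.preimage (D.map α).continuous)

end Groth.Agent.H5.Lim

namespace Groth.Agent.H5.Lim

variable {I : Type u} [SmallCategory I] [IsCofiltered I] (D : I ⥤ Scheme.{u}) (c : Cone D)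
  (hc : IsLimit c)

include hc in
/-- Universally open version of `isOpenMap_π_app_of_forall`. -/
theorem universallyOpen_π_app_of_forall [∀ (i j : I) (f : i ⟶ j), IsAffineHom (D.map f)] (i : I)
    (hs : ∀ (j : I) (_ : j ⟶ i), Surjective (c.π.app j))
    (ho : ∀ (j : I) (φ : j ⟶ i), UniversallyOpen (D.map φ)) : UniversallyOpen (c.π.app i) := by
  have hDaff : ∀ {i j : I} (f : i ⟶ j), IsAffineHom (D.map f) := fun f => inferInstance
  rw [universallyOpen_iff]
  intro X' T i₁ a f' h
  have e : f' = h.isoPullback.hom ≫ pullback.fst a (c.π.app i) := (h.isoPullback_hom_fst).symm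
  have h3 : ∀ (j k : Over i) (φ : j ⟶ k), IsAffineHom ((bcDiagram D a).map φ) := fun j k φ =>
    isAffineHom_bcMap D a φ (hDaff _)
  let j₁ : Over i := Over.mk (𝟙 i)
  have key : IsOpenMap ((bcCone D c a).π.app j₁) := by
    refine isOpenMap_π_app_of_forall (bcDiagram D a) (bcCone D c a) (isLimitBcCone D c a hc) j₁
      (fun k _ => ?_) (fun k φ => ?_)
    · have : Surjective (c.π.app k.left) := hs k.left k.hom
      have : Surjective (bcProj D c a k) :=
        MorphismProperty.of_isPullback (P := @Surjective) (isPullback_bcProj D c a k).flip this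
      exact this.surj
    · have : UniversallyOpen (D.map φ.left) := ho k.left φ.left
      have : UniversallyOpen (bcMap D a φ) :=
        MorphismProperty.of_isPullback (P := @UniversallyOpen) (isPullback_bcMap D a φ).flip this
      exact (bcMap D a φ).isOpenMap
  have hfst : pullback.fst a (c.π.app i) =
      (bcCone D c a).π.app j₁ ≫ pullback.fst a (D.map j₁.hom) := (bcProj_fst D c a j₁).symm
  have hiso : IsIso (pullback.fst a (D.map j₁.hom)) := by
    have : IsIso (D.map j₁.hom) := by
      change IsIso (D.map (𝟙 i)); rw [D.map_id]; infer_instance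
    infer_instance
  change IsOpenMap f'
  rw [e, hfst]
  simp only [Scheme.Hom.comp_base, TopCat.coe_comp]
  exact ((pullback.fst a (D.map j₁.hom)).homeomorph.isOpenMap.comp key).comp
    h.isoPullback.hom.homeomorph.isOpenMap

end Groth.Agent.H5.Lim

namespace Groth.Agent.H5.Lim

/-- If `f ≫ g` is universally open and `f` is surjective, then `g` is universally open. -/
theorem universallyOpen_of_comp_of_surjective {X Y Z : Scheme.{u}} (f : X ⟶ Y) (g : Y ⟶ Z)
    [Surjective f] [UniversallyOpen (f ≫ g)] : UniversallyOpen g := by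
  rw [universallyOpen_iff]
  intro Y' T i₁ a g' h
  -- `h : IsPullback g' i₁ a g`
  let f' : pullback f i₁ ⟶ Y' := pullback.snd f i₁
  have hf' : Surjective f' := inferInstance
  have hbig : IsPullback (f' ≫ g') (pullback.fst f i₁) a (f ≫ g) :=
    (IsPullback.of_hasPullback f i₁).flip.paste_horiz h
  have hopen : IsOpenMap (f' ≫ g') :=
    (UniversallyOpen.universally_isOpenMap (f := f ≫ g)) _ _ _ hbig
  change IsOpenMap g'
  intro U hU
  have e : g' '' U = (f' ≫ g') '' (f' ⁻¹' U) := by
    simp only [Scheme.Hom.comp_base, TopCat.coe_comp]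
    rw [Set.image_comp, Set.image_preimage_eq _ hf'.surj]
  rw [e]
  exact hopen _ (hU.preimage f'.continuous)

end Groth.Agent.H5.Lim
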