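import Groth.Agent.Lib.Helper5.Lim.AffineBridge

set_option autoImplicit false
universe u
open CategoryTheory CategoryTheory.Limits AlgebraicGeometry Opposite

namespace Groth.Agent.H5.Lim

section

variable {I : Type u} [SmallCategory I] (D : I ⥤ Scheme.{u}) (c : Cone D)
  (i₀ : I) (V : (D.obj i₀).Opens)

/-- preimage of `V` at the stage `k`. -/
abbrev stageOpen (k : Over i₀) : (D.obj k.left).Opens := D.map k.hom ⁻¹ᵁ V

/-- preimage of `V` in the limit. -/
abbrev limOpen : c.pt.Opens := c.π.app i₀ ⁻¹ᵁ V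

lemma limOpen_le (k : Over i₀) :
    limOpen D c i₀ V ≤ c.π.app k.left ⁻¹ᵁ stageOpen D i₀ V k := by
  rw [← Scheme.Hom.comp_preimage, c.w]

lemma stageOpen_le {k k' : Over i₀} (a : k' ⟶ k) :
    stageOpen D i₀ V k' ≤ D.map a.left ⁻¹ᵁ stageOpen D i₀ V k := by
  rw [← Scheme.Hom.comp_preimage, ← D.map_comp, Over.w a]

/-- the algebra structure of a stage over `Γ(D i₀, V)`. -/
@[reducible] noncomputable def stageAlgebra (k : Over i₀) :
    Algebra Γ(D.obj i₀, V) Γ(D.obj k.left, stageOpen D i₀ V k) :=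
  ((D.map k.hom).appLE V (stageOpen D i₀ V k) le_rfl).hom.toAlgebra

/-- the algebra structure of the limit over `Γ(D i₀, V)`. -/
@[reducible] noncomputable def limAlgebra :
    Algebra Γ(D.obj i₀, V) Γ(c.pt, limOpen D c i₀ V) :=
  ((c.π.app i₀).appLE V (limOpen D c i₀ V) le_rfl).hom.toAlgebra

/-- transition ring maps -/
noncomputable def stageTrans {k k' : Over i₀} (a : k' ⟶ k) :
    Γ(D.obj k.left, stageOpen D i₀ V k) ⟶ Γ(D.obj k'.left, stageOpen D i₀ V k') :=
  (D.map a.left).appLE _ _ (stageOpen_le D i₀ V a)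

/-- maps to the limit -/
noncomputable def stageToLim (k : Over i₀) :
    Γ(D.obj k.left, stageOpen D i₀ V k) ⟶ Γ(c.pt, limOpen D c i₀ V) :=
  (c.π.app k.left).appLE _ _ (limOpen_le D c i₀ V k)

lemma appLE_eq_of_eq {X Y : Scheme.{u}} {f g : X ⟶ Y} (h : f = g) (U : Y.Opens) (W : X.Opens)
    (e : W ≤ f ⁻¹ᵁ U) : f.appLE U W e = g.appLE U W (h ▸ e) := by
  subst h; rfl

lemma app_comp_stageTrans {k k' : Over i₀} (a : k' ⟶ k) :
    (D.map k.hom).appLE V (stageOpen D i₀ V k) le_rfl ≫ stageTrans D i₀ V a =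
      (D.map k'.hom).appLE V (stageOpen D i₀ V k') le_rfl := by
  rw [stageTrans, Scheme.Hom.appLE_comp_appLE]
  exact appLE_eq_of_eq (by rw [← D.map_comp, Over.w a]) _ _ _

lemma app_comp_stageToLim (k : Over i₀) :
    (D.map k.hom).appLE V (stageOpen D i₀ V k) le_rfl ≫ stageToLim D c i₀ V k =
      (c.π.app i₀).appLE V (limOpen D c i₀ V) le_rfl := by
  rw [stageToLim, Scheme.Hom.appLE_comp_appLE]
  exact appLE_eq_of_eq (c.w k.hom) _ _ _

lemma stageTrans_comp_stageToLim {k k' : Over i₀} (a : k' ⟶ k) :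
    stageTrans D i₀ V a ≫ stageToLim D c i₀ V k' = stageToLim D c i₀ V k := by
  rw [stageTrans, stageToLim, Scheme.Hom.appLE_comp_appLE, stageToLim]
  exact appLE_eq_of_eq (c.w a.left) _ _ _

lemma stageTrans_id (k : Over i₀) : stageTrans D i₀ V (𝟙 k) = 𝟙 _ := by
  rw [stageTrans]
  have h : D.map (𝟙 k : k ⟶ k).left = 𝟙 _ := D.map_id _
  rw [appLE_eq_of_eq h, Scheme.Hom.appLE, Scheme.Hom.id_app]
  exact (Category.id_comp _).trans ((D.obj k.left).presheaf.map_id _)

lemma stageTrans_comp {k k' k'' : Over i₀} (a : k' ⟶ k) (b : k'' ⟶ k') :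
    stageTrans D i₀ V a ≫ stageTrans D i₀ V b = stageTrans D i₀ V (b ≫ a) := by
  rw [stageTrans, stageTrans, Scheme.Hom.appLE_comp_appLE, stageTrans]
  exact appLE_eq_of_eq (D.map_comp _ _).symm _ _ _

variable [IsCofiltered I] (hc : IsLimit c) [∀ (i j : I) (f : i ⟶ j), IsAffineHom (D.map f)]

include hc in
/-- every section over the preimage of an affine open comes from a stage -/
lemma exists_stageToLim_eq (hV : IsAffineOpen V) (s : Γ(c.pt, limOpen D c i₀ V)) :
    ∃ (k : Over i₀) (x : Γ(D.obj k.left, stageOpen D i₀ V k)), stageToLim D c i₀ V k x = s := by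
  have hDaff : ∀ {i j : I} (f : i ⟶ j), IsAffineHom (D.map f) := fun f => inferInstance
  have (k : Over i₀) : IsAffine ((opensDiagram D i₀ V).obj k) := hV.preimage (D.map _)
  obtain ⟨k, t, hk⟩ := exists_appTop_π_eq_of_isAffine_of_isLimit _ _
    (isLimitOpensCone D c hc i₀ V) ((limOpen D c i₀ V).topIso.inv s)
  refine ⟨k, (stageOpen D i₀ V k).topIso.hom t, ?_⟩
  have h1 : ((opensCone D c i₀ V).π.app k).appTop =
      (stageOpen D i₀ V k).topIso.hom ≫ stageToLim D c i₀ V k ≫
        (limOpen D c i₀ V).topIso.inv := Scheme.Hom.resLE_app_top _ _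
  rw [h1] at hk
  have h2 : (limOpen D c i₀ V).topIso.inv
      (stageToLim D c i₀ V k ((stageOpen D i₀ V k).topIso.hom t)) =
      (limOpen D c i₀ V).topIso.inv s := hk
  have hinj : Function.Injective (limOpen D c i₀ V).topIso.inv :=
    (ConcreteCategory.bijective_of_isIso (limOpen D c i₀ V).topIso.inv).1
  exact hinj h2

include hc in
/-- sections dying in the limit die at a stage -/
lemma exists_stageTrans_eq_zero (hV : IsCompact (V : Set (D.obj i₀))) (k : Over i₀)
    (x : Γ(D.obj k.left, stageOpen D i₀ V k)) (hx : stageToLim D c i₀ V k x = 0) :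
    ∃ (k' : Over i₀) (a : k' ⟶ k), stageTrans D i₀ V a x = 0 := by
  have hDaff : ∀ {i j : I} (f : i ⟶ j), IsAffineHom (D.map f) := fun f => inferInstance
  have hcomp : IsCompact (X := D.obj k.left) (stageOpen D i₀ V k) :=
    (D.map k.hom).isCompact_preimage hV
  have hx' : (c.π.app k.left).app (stageOpen D i₀ V k) x = 0 := by
    have e : c.π.app k.left ⁻¹ᵁ stageOpen D i₀ V k = limOpen D c i₀ V := by
      rw [← Scheme.Hom.comp_preimage, c.w]
    have h1 : stageToLim D c i₀ V k =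
        (c.π.app k.left).app (stageOpen D i₀ V k) ≫ c.pt.presheaf.map (eqToHom e.symm).op := rfl
    rw [h1, CommRingCat.comp_apply] at hx
    have hinj : Function.Injective (c.pt.presheaf.map (eqToHom e.symm).op) :=
      (ConcreteCategory.bijective_of_isIso _).1
    exact hinj (hx.trans (map_zero _).symm)
  obtain ⟨j, f, hf⟩ := exists_app_map_eq_zero_of_isLimit D c hc hcomp x hx'
  refine ⟨Over.mk (f ≫ k.hom), Over.homMk f, ?_⟩
  have h2 : stageTrans D i₀ V (Over.homMk f : Over.mk (f ≫ k.hom) ⟶ k) =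
      (D.map f).app (stageOpen D i₀ V k) ≫ (D.obj j).presheaf.map
        (homOfLE (stageOpen_le D i₀ V (Over.homMk f : Over.mk (f ≫ k.hom) ⟶ k))).op := rfl
  rw [h2, CommRingCat.comp_apply, hf, map_zero]

/-- **the sections over the preimage of an affine open form a weak colimit.** -/
noncomputable def weakColimitOpens (hV : IsAffineOpen V) :
    letI := stageAlgebra D i₀ V
    letI := limAlgebra D c i₀ V
    CA.WeakColimit Γ(D.obj i₀, V) (fun k : Over i₀ => Γ(D.obj k.left, stageOpen D i₀ V k))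
      Γ(c.pt, limOpen D c i₀ V) :=
  letI := stageAlgebra D i₀ V
  letI := limAlgebra D c i₀ V
  let tr : ∀ {k k' : Over i₀} (a : k' ⟶ k),
      Γ(D.obj k.left, stageOpen D i₀ V k) →ₐ[Γ(D.obj i₀, V)]
        Γ(D.obj k'.left, stageOpen D i₀ V k') := fun {k k'} a =>
    { toRingHom := (stageTrans D i₀ V a).hom
      commutes' := fun r => by
        have := app_comp_stageTrans D i₀ V a
        exact congrArg (fun φ : Γ(D.obj i₀, V) ⟶ Γ(D.obj k'.left, stageOpen D i₀ V k') =>
          φ.hom r) this }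
  { g := fun k =>
      { toRingHom := (stageToLim D c i₀ V k).hom
        commutes' := fun r => by
          have := app_comp_stageToLim D c i₀ V k
          exact congrArg (fun φ : Γ(D.obj i₀, V) ⟶ Γ(c.pt, limOpen D c i₀ V) => φ.hom r) this }
    Adm := fun k k' φ => ∃ a : k' ⟶ k, φ = tr a
    adm_id := fun k => ⟨𝟙 k, by
      ext x
      have := stageTrans_id D i₀ V k
      exact (congrArg (fun φ : Γ(D.obj k.left, stageOpen D i₀ V k) ⟶ _ => φ.hom x) this).symm⟩
    adm_comp := by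
      rintro k k' k'' _ _ ⟨a, rfl⟩ ⟨b, rfl⟩
      refine ⟨b ≫ a, ?_⟩
      ext x
      have := stageTrans_comp D i₀ V a b
      exact congrArg (fun φ : Γ(D.obj k.left, stageOpen D i₀ V k) ⟶ _ => φ.hom x) this
    adm_compat := by
      rintro k k' _ ⟨a, rfl⟩
      ext x
      have := stageTrans_comp_stageToLim D c i₀ V a
      exact congrArg (fun φ : Γ(D.obj k.left, stageOpen D i₀ V k) ⟶ _ => φ.hom x) this
    nonempty := ⟨Over.mk (𝟙 i₀)⟩
    directed := fun k k' => ⟨IsCofiltered.min k k', tr (IsCofiltered.minToLeft k k'),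
      tr (IsCofiltered.minToRight k k'), ⟨_, rfl⟩, ⟨_, rfl⟩⟩
    surj := fun s => exists_stageToLim_eq D c i₀ V hc hV s
    ker := fun k x hx => by
      obtain ⟨k', a, ha⟩ := exists_stageTrans_eq_zero D c i₀ V hc hV.isCompact k x hx
      exact ⟨k', tr a, ⟨a, rfl⟩, ha⟩ }

end

end Groth.Agent.H5.Lim
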