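import Groth.Agent.Lib.Helper5.Lim.FPConverse

set_option autoImplicit false
universe u
open CategoryTheory CategoryTheory.Limits Opposite

namespace Groth.Agent.H5.FPColim

noncomputable section

section General

variable (R : Type u) [CommRing R]

/-- the quotient `S ⧸ I` as an object under `R`. -/
def qObj (S : Type u) [CommRing S] [Algebra R S] (I : Ideal S) : Under (CommRingCat.of R) :=
  Under.mk (CommRingCat.ofHom (algebraMap R (S ⧸ I)))

variable {R}
variable {S S' S'' : Type u} [CommRing S] [Algebra R S] [CommRing S'] [Algebra R S']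
  [CommRing S''] [Algebra R S'']

/-- the class of an element -/
def qmk (I : Ideal S) (x : S) : (qObj R S I).right := Ideal.Quotient.mk I x

lemma qmk_surjective (I : Ideal S) : Function.Surjective (qmk (R := R) I) :=
  Ideal.Quotient.mk_surjective

lemma qmk_eq_iff (I : Ideal S) (x y : S) : qmk (R := R) I x = qmk I y ↔ x - y ∈ I :=
  Ideal.Quotient.eq

/-- induced maps of quotients -/
def qMap (I : Ideal S) (I' : Ideal S') (f : S →ₐ[R] S') (hf : I ≤ I'.comap f.toRingHom) :
    qObj R S I ⟶ qObj R S' I' :=
  Under.homMk (CommRingCat.ofHom (Ideal.quotientMap I' f.toRingHom hf)) (by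
    ext a
    show Ideal.quotientMap I' f.toRingHom hf (Ideal.Quotient.mk I (algebraMap R S a)) =
      Ideal.Quotient.mk I' (algebraMap R S' a)
    rw [Ideal.quotientMap_mk]
    exact congrArg _ (f.commutes a))

lemma qMap_qmk (I : Ideal S) (I' : Ideal S') (f : S →ₐ[R] S') (hf : I ≤ I'.comap f.toRingHom)
    (x : S) : (qMap I I' f hf).right.hom (qmk I x) = qmk I' (f x) :=
  Ideal.quotientMap_mk (H := hf)

lemma q_hom_ext {I : Ideal S} {T : Under (CommRingCat.of R)} {g g' : qObj R S I ⟶ T}
    (h : ∀ x : S, g.right.hom (qmk I x) = g'.right.hom (qmk I x)) : g = g' := by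
  apply Under.UnderMorphism.ext
  apply CommRingCat.hom_ext
  apply RingHom.ext
  intro y
  obtain ⟨x, rfl⟩ := qmk_surjective (R := R) I y
  exact h x

/-- maps out of a quotient to an algebra -/
def qDesc (I : Ideal S) {A : Type u} [CommRing A] [Algebra R A] (g : S →ₐ[R] A)
    (hg : ∀ x ∈ I, g x = 0) :
    qObj R S I ⟶ Under.mk (CommRingCat.ofHom (algebraMap R A)) :=
  Under.homMk (CommRingCat.ofHom (Ideal.Quotient.lift I g.toRingHom hg)) (by
    ext a
    show Ideal.Quotient.lift I g.toRingHom hg (Ideal.Quotient.mk I (algebraMap R S a)) =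
      algebraMap R A a
    rw [Ideal.Quotient.lift_mk]
    exact g.commutes a)

lemma qDesc_qmk (I : Ideal S) {A : Type u} [CommRing A] [Algebra R A] (g : S →ₐ[R] A)
    (hg : ∀ x ∈ I, g x = 0) (x : S) : (qDesc I g hg).right.hom (qmk I x) = g x :=
  Ideal.Quotient.lift_mk _ _ _

lemma finitePresentation_qObj [Algebra.FinitePresentation R S] (I : Ideal S) (hI : I.FG) :
    (qObj R S I).hom.hom.FinitePresentation := by
  have h1 : Algebra.FinitePresentation R (S ⧸ I) := Algebra.FinitePresentation.quotient hI
  exact RingHom.finitePresentation_algebraMap.2 h1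

end General

end

end Groth.Agent.H5.FPColim
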