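import Groth.Agent.Lib.Helper5.Lim.ReducedLimit
import Groth.Agent.Lib.Helper5.Lim.ConnComponents
import Mathlib

set_option autoImplicit false
universe u
open CategoryTheory CategoryTheory.Limits AlgebraicGeometry Topology

namespace Groth.Agent.H5.Lim

/-- A localization in which the nilradical of the base ring dies is reduced. -/
theorem isReduced_of_isLocalization_of_nilradical_eq_zero {R : Type*} [CommRing R]
    (M : Submonoid R) (S : Type*) [CommRing S] [Algebra R S] [IsLocalization M S]
    (h : ∀ n ∈ nilradical R, algebraMap R S n = 0) : IsReduced S := by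
  refine ⟨fun z hz => ?_⟩
  obtain ⟨a, s, rfl⟩ := IsLocalization.exists_mk'_eq M z
  have hs : IsUnit (algebraMap R S s) := IsLocalization.map_units S s
  have ha : IsNilpotent (algebraMap R S a) := by
    have : algebraMap R S a = IsLocalization.mk' S a s * algebraMap R S s := by
      rw [IsLocalization.mk'_spec]
    rw [this]
    exact (Commute.all _ _).isNilpotent_mul_right hz
  obtain ⟨k, hk⟩ := ha
  rw [← map_pow] at hk
  obtain ⟨m, hm⟩ := (IsLocalization.map_eq_zero_iff M S _).mp hk
  have hnil : (m : R) * a ∈ nilradical R := by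
    refine ⟨k + 1, ?_⟩
    rw [mul_pow, pow_succ (m : R) k, pow_succ a k]
    calc (m : R) ^ k * m * (a ^ k * a) = ((m : R) * a ^ k) * ((m : R) ^ k * a) := by ring
      _ = 0 := by rw [hm, zero_mul]
  have h0 := h _ hnil
  rw [map_mul] at h0
  have hm' : IsUnit (algebraMap R S m) := IsLocalization.map_units S m
  have ha0 : algebraMap R S a = 0 := (hm'.mul_right_eq_zero).mp h0
  rw [IsLocalization.mk'_eq_zero_iff]
  exact (IsLocalization.map_eq_zero_iff M S a).mp ha0

/-- If the germs at `x` of all nilpotent sections over an affine open neighbourhood vanish, the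
stalk at `x` is reduced. -/
theorem isReduced_stalk_of_germ_nilradical_eq_zero {X : Scheme.{u}} {U : X.Opens}
    (hU : IsAffineOpen U) (x : X) (hx : x ∈ U)
    (h : ∀ n ∈ nilradical Γ(X, U), X.presheaf.germ U x hx n = 0) :
    _root_.IsReduced (X.presheaf.stalk x) := by
  have hloc := hU.isLocalization_stalk ⟨x, hx⟩
  exact @isReduced_of_isLocalization_of_nilradical_eq_zero Γ(X, U) _
    (hU.primeIdealOf ⟨x, hx⟩).asIdeal.primeCompl (X.presheaf.stalk x) _
    (TopCat.Presheaf.algebra_section_stalk X.presheaf ⟨x, hx⟩) hloc h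

variable {I : Type u} [SmallCategory I] [IsCofiltered I] (D : I ⥤ Scheme.{u}) (c : Cone D)
  (hc : IsLimit c)

include hc in
/-- EGA IV 8.7-type statement: with open immersions as transition maps and a quasi-compact stage
whose nilradical is of finite type, the limit is reduced iff the stages eventually are. -/
theorem isReduced_iff_eventually_of_isOpenImmersion
    [∀ (i j : I) (f : i ⟶ j), IsAffineHom (D.map f)] (i₀ : I)
    [CompactSpace (D.obj i₀)] (hoi : ∀ (i j : I) (φ : i ⟶ j), IsOpenImmersion (D.map φ))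
    (hN : ∀ U : (D.obj i₀).affineOpens, (nilradical Γ(D.obj i₀, U)).FG) :
    IsReduced c.pt ↔ ∃ (i : I) (_ : i ⟶ i₀), ∀ (j : I) (_ : j ⟶ i), IsReduced (D.obj j) := by
  classical
  constructor
  swap
  · rintro ⟨i, φ₀, hi⟩
    apply isReduced_of_cofinal_isReduced D c hc
    intro j
    exact ⟨IsCofiltered.min i j, IsCofiltered.minToRight i j,
      hi _ (IsCofiltered.minToLeft i j)⟩
  intro hred
  obtain ⟨s, hsfin, hs⟩ := isCompact_and_isOpen_iff_finite_and_eq_biUnion_affineOpens.mp
    ⟨(CompactSpace.isCompact_univ : IsCompact (Set.univ : Set (D.obj i₀))), isOpen_univ⟩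
  choose T hT using hN
  -- the finite index set of pairs (affine open, generator)
  let Idx : Set (Σ U : (D.obj i₀).affineOpens, Γ(D.obj i₀, U)) :=
    {p | p.1 ∈ s ∧ p.2 ∈ T p.1}
  have hIdx : Idx.Finite := by
    have : Idx = ⋃ U ∈ s, (fun n => (⟨U, n⟩ : Σ U : (D.obj i₀).affineOpens, Γ(D.obj i₀, U))) ''
        (T U : Set Γ(D.obj i₀, U)) := by
      ext ⟨U, n⟩
      simp only [Set.mem_iUnion, Set.mem_image, exists_prop]
      constructor
      · rintro ⟨h1, h2⟩
        exact ⟨U, h1, n, h2, rfl⟩
      · rintro ⟨U', h1, n', h2, heq⟩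
        cases heq
        exact ⟨h1, h2⟩
    rw [this]
    exact hsfin.biUnion fun U _ => (T U).finite_toSet.image _
  let P : (Σ U : (D.obj i₀).affineOpens, Γ(D.obj i₀, U)) → Over i₀ → Prop := fun p k =>
    ∀ x ∈ Set.range (D.map k.hom), ∀ hx : x ∈ p.1.1, (D.obj i₀).presheaf.germ p.1.1 x hx p.2 = 0
  have hP : ∀ p ∈ Idx, ∃ k, P p k := by
    rintro ⟨U, n⟩ ⟨hU, hn⟩
    have hnil : IsNilpotent n := by
      have : n ∈ nilradical Γ(D.obj i₀, U) := by
        rw [← hT U]; exact Ideal.subset_span hn
      exact this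
    have h0 : (c.π.app i₀).app U n = 0 := by
      have h1 : IsNilpotent ((c.π.app i₀).app U n) := hnil.map _
      haveI : _root_.IsReduced ↑Γ(((Functor.const I).obj c.pt).obj i₀, c.π.app i₀ ⁻¹ᵁ ↑U) :=
        inferInstanceAs (_root_.IsReduced Γ(c.pt, c.π.app i₀ ⁻¹ᵁ U))
      exact h1.eq_zero
    obtain ⟨j, f, hj⟩ := exists_app_map_eq_zero_of_isLimit D c hc U.2.isCompact n h0
    refine ⟨Over.mk f, ?_⟩
    rintro _ ⟨y, rfl⟩ hx
    have hiso : IsIso ((D.map f).stalkMap y) := by
      have := hoi _ _ f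
      infer_instance
    have hinj : Function.Injective ((D.map f).stalkMap y).hom :=
      ((ConcreteCategory.isIso_iff_bijective _).mp hiso).1
    apply hinj
    rw [map_zero]
    have hx' : D.map f y ∈ U.1 := hx
    change (D.map f).stalkMap y ((D.obj i₀).presheaf.germ U.1 (D.map f y) hx' n) = 0
    rw [Scheme.Hom.germ_stalkMap_apply, hj, map_zero]
  have hmono : ∀ (p : Σ U : (D.obj i₀).affineOpens, Γ(D.obj i₀, U)) (k k' : Over i₀)
      (_ : k' ⟶ k), P p k → P p k' := by
    rintro ⟨U, n⟩ k k' a hk x ⟨y, rfl⟩ hx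
    refine hk _ ⟨D.map a.left y, ?_⟩ hx
    rw [← Scheme.Hom.comp_apply, ← D.map_comp, Over.w a]
  obtain ⟨k, -, hk⟩ := exists_common_stage Idx hIdx P hP hmono (Over.mk (𝟙 i₀))
  have hφ : IsOpenImmersion (D.map k.hom) := hoi _ _ _
  have hredk : IsReduced (D.obj k.left) := by
    have : ∀ y : D.obj k.left, _root_.IsReduced ((D.obj k.left).presheaf.stalk y) := by
      intro y
      have hy : D.map k.hom y ∈ (Set.univ : Set (D.obj i₀)) := Set.mem_univ _
      rw [hs] at hy
      simp only [Set.mem_iUnion, exists_prop] at hy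
      obtain ⟨U, hUs, hyU⟩ := hy
      have hiso : IsIso ((D.map k.hom).stalkMap y) := inferInstance
      have hinj : Function.Injective ((D.map k.hom).stalkMap y).hom :=
        ((ConcreteCategory.isIso_iff_bijective _).mp hiso).1
      have h1 : _root_.IsReduced ((D.obj i₀).presheaf.stalk (D.map k.hom y)) := by
        apply isReduced_stalk_of_germ_nilradical_eq_zero U.2 _ hyU
        intro n hn
        have hker : nilradical Γ(D.obj i₀, U) ≤
            RingHom.ker ((D.obj i₀).presheaf.germ U (D.map k.hom y) hyU).hom := by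
          rw [← hT U, Ideal.span_le]
          intro n' hn'
          rw [SetLike.mem_coe, RingHom.mem_ker]
          exact hk ⟨U, n'⟩ ⟨hUs, hn'⟩ _ ⟨y, rfl⟩ hyU
        exact hker hn
      have hsurj : Function.Surjective ((D.map k.hom).stalkMap y).hom :=
        ((ConcreteCategory.isIso_iff_bijective _).mp hiso).2
      refine ⟨fun z hz => ?_⟩
      obtain ⟨w, rfl⟩ := hsurj z
      have hw : IsNilpotent w := by
        obtain ⟨m, hm⟩ := hz
        refine ⟨m, hinj ?_⟩
        rw [map_pow, hm, map_zero]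
      rw [hw.eq_zero, map_zero]
    exact isReduced_of_isReduced_stalk _
  refine ⟨k.left, k.hom, fun j ψ => ?_⟩
  have := hoi _ _ ψ
  exact isReduced_of_isOpenImmersion (D.map ψ)

end Groth.Agent.H5.Lim
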