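import Mathlib
import Groth.Agent.Lib.Helper5.Lim.RingModel
import Groth.Agent.Lib.Helper5.CA.WeakColimitDescent
set_option autoImplicit false
universe u
open CategoryTheory CategoryTheory.Limits TensorProduct

namespace Groth.Agent.H5.Lim

section

variable {I : Type u} [SmallCategory I] [IsFiltered I] (D : I ⥤ CommRingCat.{u}) (c : Cocone D)
  (hc : IsColimit c) (i : I)

/-- algebra structure of a later stage over the stage `i` -/
@[reducible] noncomputable def underAlgebra (j : Under i) : Algebra (D.obj i) (D.obj j.right) :=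
  (D.map j.hom).hom.toAlgebra

@[reducible] noncomputable def coconeAlgebra : Algebra (D.obj i) c.pt := (c.ι.app i).hom.toAlgebra

include hc in
/-- The stages under `i` form a weak colimit system of `D i`-algebras. -/
noncomputable def weakColimitUnder :
    letI := underAlgebra D i
    letI := coconeAlgebra D c i
    CA.WeakColimit (D.obj i) (fun j : Under i => D.obj j.right) c.pt :=
  letI := underAlgebra D i
  letI := coconeAlgebra D c i
  let tr : ∀ {j k : Under i} (a : j ⟶ k), D.obj j.right →ₐ[D.obj i] D.obj k.right := fun {j k} a =>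
    { toRingHom := (D.map a.right).hom
      commutes' := fun r => by
        change (D.map a.right).hom ((D.map j.hom).hom r) = (D.map k.hom).hom r
        rw [← Under.w a, D.map_comp]
        rfl }
  { g := fun j =>
      { toRingHom := (c.ι.app j.right).hom
        commutes' := fun r => by
          change (c.ι.app j.right).hom ((D.map j.hom).hom r) = (c.ι.app i).hom r
          rw [← c.w j.hom]
          rfl }
    Adm := fun j k φ => ∃ a : j ⟶ k, φ = tr a
    adm_id := fun j => ⟨𝟙 j, by
      ext x
      change x = (D.map (𝟙 j.right)).hom x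
      rw [D.map_id]
      rfl⟩
    adm_comp := by
      rintro j k l _ _ ⟨a, rfl⟩ ⟨b, rfl⟩
      refine ⟨a ≫ b, ?_⟩
      ext x
      change (D.map b.right).hom ((D.map a.right).hom x) = (D.map (a ≫ b).right).hom x
      rw [Under.comp_right, D.map_comp]
      rfl
    adm_compat := by
      rintro j k _ ⟨a, rfl⟩
      ext x
      change (c.ι.app k.right).hom ((D.map a.right).hom x) = (c.ι.app j.right).hom x
      rw [← c.w a.right]
      rfl
    nonempty := ⟨Under.mk (𝟙 i)⟩
    directed := fun j k => ⟨IsFiltered.max j k, tr (IsFiltered.leftToMax j k),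
      tr (IsFiltered.rightToMax j k), ⟨_, rfl⟩, ⟨_, rfl⟩⟩
    surj := fun s => by
      obtain ⟨j, x, hx⟩ := Concrete.isColimit_exists_rep D hc s
      refine ⟨Under.mk (IsFiltered.leftToMax i j), (D.map (IsFiltered.rightToMax i j)).hom x, ?_⟩
      change (c.ι.app (IsFiltered.max i j)).hom ((D.map (IsFiltered.rightToMax i j)).hom x) = s
      rw [← hx, ← c.w (IsFiltered.rightToMax i j)]
      rfl
    ker := fun j x hx => by
      have hx' : (c.ι.app j.right).hom x = (c.ι.app j.right).hom 0 := by
        rw [map_zero]; exact hx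
      obtain ⟨k, f, g, hfg⟩ := (Concrete.isColimit_rep_eq_iff_exists D hc x (0 : D.obj j.right)).mp hx'
      have hfg' : (D.map f).hom x = 0 := by
        have : (D.map g).hom (0 : D.obj j.right) = 0 := map_zero _
        rw [← this]; exact hfg
      refine ⟨Under.mk (j.hom ≫ f), tr (Under.homMk f rfl), ⟨_, rfl⟩, hfg'⟩ }

include hc in
theorem exists_smooth_model_filtered (B : Type u) [CommRing B] [Algebra c.pt B]
    [Algebra.Smooth c.pt B] :
    ∃ (i : I) (Bi : Type u) (_ : CommRing Bi) (_ : Algebra (D.obj i) Bi),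
      Algebra.Smooth (D.obj i) Bi ∧
      (letI : Algebra (D.obj i) c.pt := (c.ι.app i).hom.toAlgebra
       Nonempty (B ≃ₐ[c.pt] (c.pt ⊗[D.obj i] Bi))) := by
  obtain ⟨s, hs⟩ := exists_model_of_finitePresentation c.pt B
  obtain ⟨i, hi⟩ := exists_stage_finset D c hc s
  letI := coconeAlgebra D c i
  obtain ⟨B₀, _, _, hfp, ⟨e⟩⟩ := hs (D.obj i) hi
  letI := underAlgebra D i
  have W := weakColimitUnder D c hc i
  have hsm : Algebra.Smooth c.pt (c.pt ⊗[D.obj i] B₀) := Algebra.Smooth.of_equiv e.symm
  obtain ⟨j, hj⟩ := W.exists_smooth hsm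
  have hsmj : Algebra.Smooth (D.obj j.right) (D.obj j.right ⊗[D.obj i] B₀) :=
    hj (D.obj j.right) (AlgHom.id _ _)
  refine ⟨j.right, D.obj j.right ⊗[D.obj i] B₀, inferInstance, inferInstance, hsmj, ?_⟩
  letI : Algebra (D.obj j.right) c.pt := (c.ι.app j.right).hom.toAlgebra
  haveI : IsScalarTower (D.obj i) (D.obj j.right) c.pt :=
    IsScalarTower.of_algebraMap_eq (fun r => by
      change (c.ι.app i).hom r = (c.ι.app j.right).hom ((D.map j.hom).hom r)
      rw [← c.w j.hom]
      rfl)
  exact ⟨e.symm.trans
    (Algebra.TensorProduct.cancelBaseChange (D.obj i) (D.obj j.right) c.pt c.pt B₀).symm⟩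

end

end Groth.Agent.H5.Lim
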